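import Groth.Agent.SpDesc.Chart
import Groth.Agent.LimDesc.Descend
import Groth.Agent.S9192
import Groth.Agent.S9191
import Groth.Agent.S2075
import Groth.Agent.S9189
import Groth.Agent.S4805

/-!
# Properties that descend along limits of schemes
-/

set_option autoImplicit false

universe u

open CategoryTheory CategoryTheory.Limits AlgebraicGeometry

set_option backward.isDefEq.respectTransparency false

namespace Groth.Agent.SpDesc

theorem descends_etale : Descends.{u} @LocallyOfFinitePresentation @Etale :=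
  descends_of_over fun {I} _ _ D c hc _ i₀ _ _ {X₀ Y₀} f₀ g₀ _ _ _ _ hQ {X Y} f g qY qX _ hY hX hP =>
    have : LocallyOfFinitePresentation f₀ := hQ
    have : Etale f := hP
    S9192.result D c hc i₀ f₀ g₀ f g qY qX hY hX

theorem descends_smooth : Descends.{u} @LocallyOfFinitePresentation @Smooth :=
  descends_of_over fun {I} _ _ D c hc _ i₀ _ _ {X₀ Y₀} f₀ g₀ _ _ _ _ hQ {X Y} f g qY qX _ hY hX hP =>
    have : LocallyOfFinitePresentation f₀ := hQ
    have : Smooth f := hP
    S9191.result D c hc i₀ f₀ g₀ f g qY qX hY hX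

theorem descends_flat : Descends.{u} @LocallyOfFinitePresentation @Flat :=
  descends_of_over fun {I} _ _ D c hc _ i₀ _ _ {X₀ Y₀} f₀ g₀ _ _ _ _ hQ {X Y} f g qY qX _ hY hX hP =>
    have : LocallyOfFinitePresentation f₀ := hQ
    have : Flat f := hP
    S2075.result D c hc i₀ f₀ g₀ f g qY qX hY hX

theorem descends_closed : Descends.{u} @LocallyOfFiniteType @IsClosedImmersion :=
  descends_of_over fun {I} _ _ D c hc _ i₀ _ _ {X₀ Y₀} f₀ g₀ _ _ _ _ hQ {X Y} f g qY qX _ hY hX hP =>
    have : LocallyOfFiniteType f₀ := hQ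
    have : IsClosedImmersion f := hP
    S9189.result D c hc i₀ f₀ g₀ f g qY qX hY hX

theorem descends_isomorphisms :
    Descends.{u} @LocallyOfFinitePresentation (MorphismProperty.isomorphisms Scheme.{u}) :=
  descends_of_over fun {I} _ _ D c hc _ i₀ _ _ {X₀ Y₀} f₀ g₀ _ _ _ _ hQ {X Y} f g qY qX hg hY hX hP => by
    have : LocallyOfFinitePresentation f₀ := hQ
    have : IsIso f := hP
    have : IsIso g₀ := hg
    have : QuasiCompact (f₀ ≫ g₀) := inferInstance
    have : QuasiSeparated (f₀ ≫ g₀) := inferInstance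
    exact S4805.result D c hc i₀ f₀ g₀ f g qY qX hY hX

theorem descends_surjective : Descends.{u} @LocallyOfFinitePresentation @Surjective := by
  intro I _ _ D c hc _ i₀ _ _ X₀ f₀ _ _ hQ X f qX hX hP
  have : LocallyOfFinitePresentation f₀ := hQ
  have : Surjective f := hP
  have : LocallyOfFinitePresentation (f₀ ≫ 𝟙 (D.obj i₀)) := by rw [Category.comp_id]; exact hQ
  have : QuasiCompact (f₀ ≫ 𝟙 (D.obj i₀)) := inferInstance
  obtain ⟨j, hj⟩ := LimDesc.exists_surjective D c hc f₀ (𝟙 (D.obj i₀))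
    (IsPullback.id_vert (c.π.app i₀)) hX
  have : IsIso (LimDesc.toStage D (𝟙 (D.obj i₀)) j) := (LimDesc.isPullback_stage D _ j).isIso_snd_of_isIso
  refine ⟨j.left, j.hom, _, LimDesc.stageMap D (𝟙 _) f₀ j ≫ LimDesc.toStage D (𝟙 _) j, LimDesc.toBase D (f₀ ≫ 𝟙 _) j, ?_,
    (MorphismProperty.cancel_right_of_respectsIso @Surjective _ _).2 hj⟩
  exact (LimDesc.isPullback_stageMap D (𝟙 _) f₀ j).of_iso (Iso.refl _) (Iso.refl _)
    (asIso (LimDesc.toStage D (𝟙 (D.obj i₀)) j)) (Iso.refl _) (by simp) (by simp) (by simp)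
    (by simpa using (LimDesc.isPullback_stage D (𝟙 (D.obj i₀)) j).w)

end Groth.Agent.SpDesc
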