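import Groth.Agent.SpDesc.Stage
import Groth.Agent.SpDesc.Descends
import Groth.Agent.UnivInjMor.MonoUnram
import Groth.Agent.AlgSpLib.FpqcLocP

/-!
# Descent of properties of morphisms of algebraic spaces along limits
-/

set_option autoImplicit false

universe u

open CategoryTheory CategoryTheory.Limits AlgebraicGeometry

set_option backward.isDefEq.respectTransparency false

namespace Groth.Agent.SpDesc

open _root_.AlgSp Groth.Agent.AlgSpLib Groth.Agent.SchImg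

variable {S : Scheme.{u}}

/-- affine over qc and qs is qc and qs -/
theorem qcqs_of_affine {X' X : Sp S} (hX' : IsAlgSpace X') (hX : IsAlgSpace X) {a : X' ⟶ X}
    (ha : RepWith @IsAffineHom a) (hq : IsQuasiCompactSp X) (hs : IsQuasiSeparatedSp X) :
    IsQuasiCompactSp X' ∧ IsQuasiSeparatedSp X' := by
  have h1 : IsQuasiCompactMor a := (isQuasiCompactMor_iff_repWith hX' hX ha.1).2 (repWith_mono (fun _ _ r hr => by
    have : IsAffineHom r := hr
    infer_instance) ha)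
  have h2 : IsQuasiSeparatedMor a := (isQuasiSeparatedMor_iff_repWith hX' hX ha.1).2 (repWith_mono (fun _ _ r hr => by
    have : IsAffineHom r := hr
    infer_instance) ha)
  exact ⟨h1 hX hq (𝟙 X) (𝟙 X') a (IsPullback.id_horiz a), isQuasiSeparatedSp_of_mor h2 hs⟩

section Diag

variable {X₀ Y₀ X Y : Sp S} {f₀ : X₀ ⟶ Y₀} {f : X ⟶ Y} {pY : Y ⟶ Y₀} {pX : X ⟶ X₀}

/-- the comparison of self products -/
noncomputable def pairMap (hX : IsPullback pX f f₀ pY) : pullback f f ⟶ pullback f₀ f₀ :=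
  pullback.map f f f₀ f₀ pX pX pY hX.w.symm hX.w.symm

theorem isPullback_pairMap (hX : IsPullback pX f f₀ pY) :
    IsPullback (pairMap hX) (pullback.fst f f ≫ f) (pullback.fst f₀ f₀ ≫ f₀) pY := by
  refine isPullback_of_points ?_ fun T a b hab => ?_
  · simp [pairMap, hX.w]
  · have h1 : (a ≫ pullback.fst f₀ f₀) ≫ f₀ = b ≫ pY := by rw [Category.assoc, hab]
    have h2 : (a ≫ pullback.snd f₀ f₀) ≫ f₀ = b ≫ pY := by rw [Category.assoc, ← pullback.condition, hab]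
    refine ⟨pullback.lift (hX.lift _ b h1) (hX.lift _ b h2) (by rw [hX.lift_snd, hX.lift_snd]),
      ⟨?_, by rw [pullback.lift_fst_assoc, hX.lift_snd]⟩, fun c hc => ?_⟩
    · apply pullback.hom_ext <;>
        simp [pairMap, pullback.lift_fst_assoc, pullback.lift_snd_assoc, IsPullback.lift_fst]
    · obtain ⟨hc1, hc2⟩ := hc
      apply pullback.hom_ext <;> apply hX.hom_ext
      · simp [← hc1, pairMap, pullback.lift_fst]
      · rw [pullback.lift_fst, hX.lift_snd, Category.assoc, hc2]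
      · simp [← hc1, pairMap, pullback.lift_snd]
      · rw [pullback.lift_snd, hX.lift_snd, Category.assoc, ← pullback.condition, hc2]

theorem isPullback_pairMap_diagonal (hX : IsPullback pX f f₀ pY) :
    IsPullback pX (pullback.diagonal f) (pullback.diagonal f₀) (pairMap hX) := by
  refine IsPullback.of_bot ?_ ?_ (isPullback_pairMap hX)
  · simpa using hX
  · apply pullback.hom_ext <;> simp [pairMap]

end Diag

section

variable {I : Type u} [SmallCategory I] [IsCofiltered I] (D : I ⥤ Sp S)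
  (hD : ∀ i, IsAlgSpace (D.obj i)) (hDa : ∀ (i j : I) (φ : i ⟶ j), IsAffineMor (D.map φ))
  (c : Cone D) (hc : IsLimit c) (i₀ : I) {X₀ Y₀ : Sp S} (hX₀ : IsAlgSpace X₀) (hY₀ : IsAlgSpace Y₀)
  (f₀ : X₀ ⟶ Y₀) (b₀ : Y₀ ⟶ D.obj i₀) [QuasiSeparatedSpace ↥S]
  (hXqc : IsQuasiCompactSp X₀) (hXqs : IsQuasiSeparatedSp X₀)
  (hYqc : IsQuasiCompactSp Y₀) (hYqs : IsQuasiSeparatedSp Y₀)
  {X Y : Sp S} {f : X ⟶ Y} {pY : Y ⟶ Y₀} {qY : Y ⟶ c.pt} (hY : IsPullback pY qY b₀ (c.π.app i₀))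
  {pX : X ⟶ X₀} (hX : IsPullback pX f f₀ pY)

include hDa hc hX₀ hY₀ hD hXqc hXqs hYqc hYqs hY hX in
/-- properties of the diagonal descend -/
theorem atStage_diagonal {Q P : MorphismProperty Scheme.{u}} [Q.RespectsIso] [P.IsStableUnderBaseChange]
    [P.IsLocalAtTarget Scheme.etalePrecoverage] (hP : Descends Q P) (hQ : RepWith Q (pullback.diagonal f₀))
    (hPf : RepWith P (pullback.diagonal f)) :
    AtStage D i₀ f₀ b₀ (fun _ _ g => RepWith P (pullback.diagonal g)) := by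
  have sq := IsPullback.of_hasPullback f₀ f₀
  have hR₀ := isAlgSpace_of_isPullback_space hY₀ hX₀ hX₀ sq
  obtain ⟨hRq, hRs⟩ := SpQS.qcqs_of_isPullback hX₀ hY₀ hX₀ sq hXqc hXqs hYqs hXqc hXqs
  obtain ⟨i, φ, H⟩ := atStage_repWith D hD hDa c hc i₀ hX₀ hR₀ (pullback.diagonal f₀)
    (pullback.fst f₀ f₀ ≫ f₀ ≫ b₀) hXqc hXqs hRq hRs hP hQ
    (by rw [← Category.assoc]; exact (isPullback_pairMap hX).paste_vert hY) (isPullback_pairMap_diagonal hX) hPf
  exact ⟨i, φ, fun Xi Yi fi pYi qYi hYi pXi hXi => H Xi _ (pullback.diagonal fi) (pairMap hXi) _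
    (by rw [← Category.assoc]; exact (isPullback_pairMap hXi).paste_vert hYi) pXi (isPullback_pairMap_diagonal hXi)⟩

include hDa hc hX₀ hY₀ hD hXqc hXqs hYqc hYqs hY hX in
theorem atStage_univInj (hlft : LocP @LocallyOfFiniteType f₀) (hf : IsUnivInjectiveMor f) :
    AtStage D i₀ f₀ b₀ (fun _ _ g => IsUnivInjectiveMor g) := by
  have hYa := isAlgSpace_of_isPullback_space (hD i₀) hY₀ (isAlgSpace_lim D hD hDa c hc) hY
  have hXa := isAlgSpace_of_isPullback_space hY₀ hX₀ hYa hX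
  have hR₀ := isAlgSpace_of_isPullback_space hY₀ hX₀ hX₀ (IsPullback.of_hasPullback f₀ f₀)
  have hd : Representable (pullback.diagonal f₀) :=
    (repWith_diagonal f₀ (repWith_diag_lft hX₀)).1
  have hdf : Representable (pullback.diagonal f) :=
    (repWith_diagonal f (repWith_diag_lft hXa)).1
  obtain ⟨i, φ, H⟩ := atStage_diagonal D hD hDa c hc i₀ hX₀ hY₀ f₀ b₀ hXqc hXqs hYqc hYqs hY hX
    descends_surjective ((locP_iff_repWith etST_lfp hR₀ hd).1 (diagonal_lfp hX₀ hY₀ hlft).1)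
    (repWith_surjective_of_isSurjectiveMor hdf ((UnivInjMor.isUnivInjectiveMor_iff_diagonal hXa f).1 hf))
  exact ⟨i, φ, fun Xi Yi fi pYi qYi hYi pXi hXi =>
    UnivInjMor.isUnivInjectiveMor_of_diagonal (isSurjectiveMor_of_repWith (H Xi Yi fi pYi qYi hYi pXi hXi))⟩

include hDa hc hX₀ hY₀ hD hXqc hXqs hYqc hYqs hY hX in
theorem atStage_mono (hlft : LocP @LocallyOfFiniteType f₀) [Mono f] :
    AtStage D i₀ f₀ b₀ (fun _ _ g => Mono g) := by
  have hR₀ := isAlgSpace_of_isPullback_space hY₀ hX₀ hX₀ (IsPullback.of_hasPullback f₀ f₀)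
  have hd : Representable (pullback.diagonal f₀) :=
    (repWith_diagonal f₀ (repWith_diag_lft hX₀)).1
  have : IsIso (pullback.diagonal f) := (pullback.isIso_diagonal_iff f).2 inferInstance
  obtain ⟨i, φ, H⟩ := atStage_diagonal D hD hDa c hc i₀ hX₀ hY₀ f₀ b₀ hXqc hXqs hYqc hYqs hY hX
    descends_isomorphisms ((locP_iff_repWith etST_lfp hR₀ hd).1 (diagonal_lfp hX₀ hY₀ hlft).1)
    (repWith_of_isIso _)
  exact ⟨i, φ, fun Xi Yi fi pYi qYi hYi pXi hXi =>
    (pullback.isIso_diagonal_iff fi).1 ((isIso_iff_repWith _).2 (H Xi Yi fi pYi qYi hYi pXi hXi))⟩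

include hDa hc hX₀ hY₀ hD hXqc hXqs hYqc hYqs hY hX in
theorem atStage_separated (hf : IsSeparatedMor f) : AtStage D i₀ f₀ b₀ (fun _ _ g => IsSeparatedMor g) :=
  atStage_diagonal D hD hDa c hc i₀ hX₀ hY₀ f₀ b₀ hXqc hXqs hYqc hYqs hY hX
    descends_closed (repWith_diagonal f₀ (repWith_diag_lft hX₀)) hf

include hDa hc hX₀ hY₀ hD hXqc hXqs hYqc hYqs hY hX in
/-- monomorphisms with a property local on the target descend -/
theorem atStage_repWith_of_mono {Q R P : MorphismProperty Scheme.{u}} [Q.RespectsIso] [P.IsStableUnderBaseChange]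
    [P.IsLocalAtTarget Scheme.etalePrecoverage] (hP : Descends Q P) (hR : EtST R) (hR0 : LocP R f₀)
    (hRlft : ∀ {A B : Scheme.{u}} (r : A ⟶ B), R r → LocallyOfFiniteType r)
    (hRQ : ∀ {A B : Scheme.{u}} (r : A ⟶ B), R r → Q r) [Mono f] (hPf : RepWith P f) :
    AtStage D i₀ f₀ b₀ (RepWith P) := by
  have hlft : LocP @LocallyOfFiniteType f₀ := fun U V a b h ha hb e => hRlft _ (hR0 a b h ha hb e)
  obtain ⟨i₁, φ₁, H₁⟩ := atStage_mono D hD hDa c hc i₀ hX₀ hY₀ f₀ b₀ hXqc hXqs hYqc hYqs hY hX hlft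
  have sqY₁ := IsPullback.of_hasPullback b₀ (D.map φ₁)
  have sqX₁ := IsPullback.of_hasPullback f₀ (pullback.fst b₀ (D.map φ₁))
  set f₁ := pullback.snd f₀ (pullback.fst b₀ (D.map φ₁))
  have haY : RepWith @IsAffineHom (pullback.fst b₀ (D.map φ₁)) :=
    repWith_baseChange sqY₁.flip ((isAffineMor_iff_repWith _).1 (hDa i₁ i₀ φ₁))
  have hY₁ := isAlgSpace_of_isPullback_space (hD i₀) hY₀ (hD i₁) sqY₁
  have hX₁ := isAlgSpace_of_isPullback_space hY₀ hX₀ hY₁ sqX₁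
  have haX : RepWith @IsAffineHom (pullback.fst f₀ (pullback.fst b₀ (D.map φ₁))) :=
    repWith_baseChange sqX₁.flip haY
  obtain ⟨hY₁q, hY₁s⟩ := qcqs_of_affine hY₁ hY₀ haY hYqc hYqs
  obtain ⟨hX₁q, hX₁s⟩ := qcqs_of_affine hX₁ hX₀ haX hXqc hXqs
  have : Mono f₁ := H₁ _ _ f₁ _ _ sqY₁ _ sqX₁
  have hlft₁ : LocP @LocallyOfFiniteType f₁ :=
    locP_baseChange etST_lft hX₀ hY₀ hX₁ hY₁ sqX₁ hlft
  have hrep : Representable f₁ := UnivInjMor.representable_of_mono hX₁ hY₁ f₁ hlft₁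
  have hQ₁ : RepWith Q f₁ := repWith_mono (fun _ _ r hr => hRQ r hr)
    ((locP_iff_repWith hR hY₁ hrep).1 (locP_baseChange hR hX₀ hY₀ hX₁ hY₁ sqX₁ hR0))
  let lY : Y ⟶ pullback b₀ (D.map φ₁) := sqY₁.lift pY (qY ≫ c.π.app i₁) (by rw [Category.assoc, c.w, hY.w])
  have hlY : IsPullback lY qY (pullback.snd b₀ (D.map φ₁)) (c.π.app i₁) :=
    IsPullback.of_right (by rw [sqY₁.lift_fst, c.w]; exact hY) (sqY₁.lift_snd _ _ _) sqY₁
  let lX := sqX₁.lift pX (f ≫ lY) (by rw [Category.assoc, sqY₁.lift_fst]; exact hX.w)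
  have hlX : IsPullback lX f f₁ lY :=
    IsPullback.of_right (by rw [sqX₁.lift_fst, sqY₁.lift_fst]; exact hX) (sqX₁.lift_snd _ _ _) sqX₁
  obtain ⟨i, ψ, H⟩ := atStage_repWith D hD hDa c hc i₁ hX₁ hY₁ f₁ (pullback.snd b₀ (D.map φ₁))
    hX₁q hX₁s hY₁q hY₁s hP hQ₁ hlY hlX hPf
  refine ⟨i, ψ ≫ φ₁, fun Xi Yi fi pYi qYi hYi pXi hXi => ?_⟩
  let mY := sqY₁.lift pYi (qYi ≫ D.map ψ) (by rw [Category.assoc, ← D.map_comp, hYi.w])
  have hmY : IsPullback mY qYi (pullback.snd b₀ (D.map φ₁)) (D.map ψ) :=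
    IsPullback.of_right (by rw [sqY₁.lift_fst, ← D.map_comp]; exact hYi) (sqY₁.lift_snd _ _ _) sqY₁
  let mX := sqX₁.lift pXi (fi ≫ mY) (by rw [Category.assoc, sqY₁.lift_fst]; exact hXi.w)
  exact H Xi Yi fi mY qYi hmY mX
    (IsPullback.of_right (by rw [sqX₁.lift_fst, sqY₁.lift_fst]; exact hXi) (sqX₁.lift_snd _ _ _) sqX₁)

include hDa hc hX₀ hY₀ hD hXqc hXqs hYqc hYqs hY hX in
theorem atStage_isIso (hlfp : LocP @LocallyOfFinitePresentation f₀) [IsIso f] :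
    AtStage D i₀ f₀ b₀ (fun _ _ g => IsIso g) := by
  obtain ⟨i, φ, H⟩ := atStage_repWith_of_mono D hD hDa c hc i₀ hX₀ hY₀ f₀ b₀ hXqc hXqs hYqc hYqs hY hX
    descends_isomorphisms etST_lfp hlfp (fun r hr => by
      have : LocallyOfFinitePresentation r := hr
      infer_instance) (fun r hr => hr) (repWith_of_isIso f)
  exact ⟨i, φ, fun Xi Yi fi pYi qYi hYi pXi hXi => (isIso_iff_repWith fi).2 (H Xi Yi fi pYi qYi hYi pXi hXi)⟩

include hDa hc hX₀ hY₀ hD hXqc hXqs hYqc hYqs hY hX in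
theorem atStage_closed (hlft : LocP @LocallyOfFiniteType f₀) (hf : RepWith @IsClosedImmersion f) :
    AtStage D i₀ f₀ b₀ (RepWith @IsClosedImmersion) :=
  have : Mono f := mono_of_closed hf
  atStage_repWith_of_mono D hD hDa c hc i₀ hX₀ hY₀ f₀ b₀ hXqc hXqs hYqc hYqs hY hX
    descends_closed etST_lft hlft (fun _ h => h) (fun _ h => h) hf

end

end Groth.Agent.SpDesc
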