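import Groth.Agent.SpDesc.EventMono
import Groth.Agent.SpDesc.Results

/-!
# Base changes of towers
-/

set_option autoImplicit false

universe u

open CategoryTheory CategoryTheory.Limits AlgebraicGeometry

set_option backward.isDefEq.respectTransparency false

namespace Groth.Agent.SpDesc

open _root_.AlgSp Groth.Agent.AlgSpLib Groth.Agent.SchImg

variable {S : Scheme.{u}}

set_option maxHeartbeats 1000000 in
/-- the base change of a tower over `Y` along `p : V ⟶ Y` -/
theorem exists_bc_tower {I : Type u} [SmallCategory I] [IsCofiltered I] [QuasiSeparatedSpace ↥S]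
    (D : I ⥤ Sp S) (hD : ∀ i, IsAlgSpace (D.obj i)) (hDa : ∀ (i j : I) (φ : i ⟶ j), IsAffineMor (D.map φ))
    (c : Cone D) (hc : IsLimit c) (i₁ : I) (hqc : IsQuasiCompactSp (D.obj i₁))
    (hqs : IsQuasiSeparatedSp (D.obj i₁)) {Y V : Sp S} (hY : IsAlgSpace Y) (hV : IsAlgSpace V)
    (hYs : IsQuasiSeparatedSp Y) (hVq : IsQuasiCompactSp V) (hVs : IsQuasiSeparatedSp V)
    (τ : D.obj i₁ ⟶ Y) (p : V ⟶ Y) :
    ∃ (E : Over i₁ ⥤ Sp S) (cE : Cone E) (α : ∀ l, E.obj l ⟶ D.obj l.left) (β : ∀ l, E.obj l ⟶ V)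
      (αL : cE.pt ⟶ c.pt) (βL : cE.pt ⟶ V), Nonempty (IsLimit cE) ∧
      (∀ l, IsAlgSpace (E.obj l) ∧ IsQuasiCompactSp (E.obj l) ∧ IsQuasiSeparatedSp (E.obj l)) ∧
      (∀ (l k : Over i₁) (f : l ⟶ k), IsAffineMor (E.map f)) ∧
      (∀ l, IsPullback (α l) (β l) (D.map l.hom ≫ τ) p) ∧ IsPullback αL βL (c.π.app i₁ ≫ τ) p ∧
      (∀ {l k : Over i₁} (f : l ⟶ k), IsPullback (α l) (E.map f) (D.map f.left) (α k) ∧ E.map f ≫ β k = β l) ∧
      ∀ l, IsPullback αL (cE.π.app l) (c.π.app l.left) (α l) ∧ cE.π.app l ≫ β l = βL := by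
  let τ' : ∀ l : Over i₁, D.obj l.left ⟶ Y := fun l => D.map l.hom ≫ τ
  have hτ'w : ∀ {l k : Over i₁} (f : l ⟶ k), τ' l = D.map f.left ≫ τ' k := fun {l k} f => by
    simp only [τ', ← Over.w f, D.map_comp, Category.assoc]
  let E : Over i₁ ⥤ Sp S :=
    { obj := fun l => pullback (τ' l) p
      map := fun {l k} f => pullback.map _ _ _ _ (D.map f.left) (𝟙 _) (𝟙 _) (by simp [hτ'w f]) (by simp)
      map_id := fun l => by apply pullback.hom_ext <;> simp
      map_comp := fun f g => by apply pullback.hom_ext <;> simp }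
  have hEf : ∀ {l k : Over i₁} (f : l ⟶ k), E.map f ≫ pullback.fst (τ' k) p = pullback.fst (τ' l) p ≫ D.map f.left :=
    fun f => pullback.lift_fst _ _ _
  have hEs : ∀ {l k : Over i₁} (f : l ⟶ k), E.map f ≫ pullback.snd (τ' k) p = pullback.snd (τ' l) p :=
    fun f => (pullback.lift_snd _ _ _).trans (Category.comp_id _)
  have hsqE : ∀ {l k : Over i₁} (f : l ⟶ k),
      IsPullback (pullback.fst (τ' l) p) (E.map f) (D.map f.left) (pullback.fst (τ' k) p) := fun {l k} f =>
    IsPullback.of_bot (by rw [hEs f, ← hτ'w f]; exact IsPullback.of_hasPullback (τ' l) p) (hEf f).symm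
      (IsPullback.of_hasPullback (τ' k) p)
  have hE : ∀ l, IsAlgSpace (E.obj l) := fun l =>
    isAlgSpace_of_isPullback_space hY (hD l.left) hV (IsPullback.of_hasPullback (τ' l) p)
  have hEa : ∀ (l k : Over i₁) (f : l ⟶ k), IsAffineMor (E.map f) := fun l k f =>
    (isAffineMor_iff_repWith _).2 (repWith_baseChange (hsqE f) ((isAffineMor_iff_repWith _).1 (hDa _ _ f.left)))
  have hEq : ∀ l, IsQuasiCompactSp (E.obj l) ∧ IsQuasiSeparatedSp (E.obj l) := fun l => by
    obtain ⟨h1, h2⟩ := qcqs_of_affine (hD l.left) (hD i₁) ((isAffineMor_iff_repWith _).1 (hDa _ _ l.hom)) hqc hqs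
    exact SpQS.qcqs_of_isPullback (hD l.left) hY hV (IsPullback.of_hasPullback (τ' l) p) h1 h2 hYs hVq hVs
  let t : Over i₁ := Over.mk (𝟙 i₁)
  let hc' := (Functor.Initial.isLimitWhiskerEquiv (Over.forget i₁) c).symm hc
  let g' : c.pt ⟶ Y := c.π.app i₁ ≫ τ
  have hg' : ∀ l : Over i₁, g' = c.π.app l.left ≫ τ' l := fun l => by
    simp only [g', τ', ← Category.assoc, c.w]
  let cE : Cone E := Cone.mk (pullback g' p)
    { app := fun l => pullback.map g' p (τ' l) p (c.π.app l.left) (𝟙 _) (𝟙 _) (by simp [hg' l]) (by simp)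
      naturality := fun l k f => by
        show 𝟙 _ ≫ _ = _ ≫ E.map f
        apply pullback.hom_ext <;> simp [hEf f, hEs f] }
  have hsnd : ∀ (σ : Cone E) (l : Over i₁), σ.π.app l ≫ pullback.snd (τ' l) p = σ.π.app t ≫ pullback.snd (τ' t) p :=
    fun σ l => by
      rw [← σ.w (Over.homMk l.hom (by simp [t]) : l ⟶ t), Category.assoc, hEs]
  let cs : Cone E → Cone (Over.forget i₁ ⋙ D) := fun σ => Cone.mk σ.pt
    { app := fun l => σ.π.app l ≫ pullback.fst (τ' l) p
      naturality := fun l k f => by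
        show 𝟙 _ ≫ _ = (_ ≫ _) ≫ D.map f.left
        rw [Category.id_comp, ← σ.w f, Category.assoc, hEf f, Category.assoc] }
  have hcE : IsLimit cE :=
    { lift := fun σ => pullback.lift (hc'.lift (cs σ)) (σ.π.app t ≫ pullback.snd (τ' t) p) (by
        rw [hg' t, ← Category.assoc, show hc'.lift (cs σ) ≫ c.π.app t.left = _ from hc'.fac (cs σ) t]
        simp only [cs, Category.assoc, pullback.condition])
      fac := fun σ l => by
        apply pullback.hom_ext
        · simp only [cE, Category.assoc, pullback.lift_fst]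
          rw [pullback.lift_fst_assoc]
          exact hc'.fac (cs σ) l
        · simp only [cE, Category.assoc, pullback.lift_snd, Category.comp_id]
          exact (hsnd σ l).symm
      uniq := fun σ m hm => by
        apply pullback.hom_ext
        · rw [pullback.lift_fst]
          refine hc'.hom_ext fun l => ?_
          rw [hc'.fac]
          show (m ≫ _) ≫ c.π.app l.left = σ.π.app l ≫ pullback.fst (τ' l) p
          rw [← hm l]
          simp [cE]
        · rw [pullback.lift_snd, ← hm t]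
          simp [cE] }
  have hcs : ∀ l, cE.π.app l ≫ pullback.snd (τ' l) p = pullback.snd g' p :=
    fun l => (pullback.lift_snd _ _ _).trans (Category.comp_id _)
  refine ⟨E, cE, fun l => pullback.fst (τ' l) p, fun l => pullback.snd (τ' l) p, pullback.fst g' p,
    pullback.snd g' p, ⟨hcE⟩, fun l => ⟨hE l, hEq l⟩, hEa, fun l => IsPullback.of_hasPullback (τ' l) p,
    IsPullback.of_hasPullback g' p, fun f => ⟨hsqE f, hEs f⟩, fun l => ⟨?_, hcs l⟩⟩
  refine IsPullback.of_bot ?_ (pullback.lift_fst _ _ _).symm (IsPullback.of_hasPullback (τ' l) p)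
  rw [hcs l, ← hg' l]
  exact IsPullback.of_hasPullback g' p

end Groth.Agent.SpDesc
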