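import Groth.Agent.SpDesc.AffStage
import Groth.Agent.SpDesc.BaseChange
import Groth.Agent.SchImg.LimOpen
import Groth.Agent.AlgSpLib.Glue
import Groth.Agent.LqfRep.Main

/-!
# If a limit of algebraic spaces is a scheme, so is a stage
-/

set_option autoImplicit false

universe u

open CategoryTheory CategoryTheory.Limits AlgebraicGeometry

set_option backward.isDefEq.respectTransparency false

namespace Groth.Agent.SpDesc

open _root_.AlgSp Groth.Agent.AlgSpLib Groth.Agent.SchImg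

variable {S : Scheme.{u}}

theorem exists_yon_iso {F : Sp S} (h : F.obj.IsRepresentable) : ∃ V : Over S, Nonempty ((yon S).obj V ≅ F) := by
  obtain ⟨V, ⟨hV⟩⟩ := h.has_representation
  exact ⟨V, ⟨(sheafToPresheaf _ _).preimageIso (NatIso.ofComponents
    (fun T => (Equiv.ulift.trans hV.homEquiv).toIso) fun {T T'} h => by
      ext ⟨a⟩; exact hV.homEquiv_comp h.unop a)⟩⟩

/-- an open set of points containing the image of the limit contains the image of a stage -/
theorem exists_stage_subset {I : Type u} [SmallCategory I] [IsCofiltered I]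
    (D : I ⥤ Sp S) (hD : ∀ i, IsAlgSpace (D.obj i)) (hDa : ∀ (i j : I) (φ : i ⟶ j), IsAffineMor (D.map φ))
    (c : Cone D) (hc : IsLimit c) (n : I) (hqc : IsQuasiCompactSp (D.obj n)) {A : Set (Points (D.obj n))}
    (hA : IsOpen A) (h : ∀ x, Points.map (c.π.app n) x ∈ A) :
    ∃ (m : I) (φ : m ⟶ n), ∀ x, Points.map (D.map φ) x ∈ A := by
  have := compactSpace_of_isQuasiCompactSp hqc
  obtain ⟨U, g, hU, hge, hgs⟩ := exists_affine_chart_of_compact (hD n)
  obtain ⟨W, v, z, hW, sq, -, G, zz, vv, L, pp, e, ⟨hL⟩, hG, hpp, sqj, hGz, hzp, -, -⟩ :=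
    exists_lim_square D (fun i j φ => (isAffineMor_iff_repWith _).1 (hDa i j φ)) c hc n g
  let t : Over n := Over.mk (𝟙 n)
  let O : (G.obj t).left.Opens :=
    ⟨Points.ofPt (zz t) ⁻¹' (Points.map (D.map t.hom) ⁻¹' A),
      (hA.preimage (Points.continuous_map _)).preimage (Points.continuous_ofPt _)⟩
  have : ∀ j, IsAffine ((G ⋙ Over.forget S).obj j) := hG
  have htop : L.π.app t ⁻¹ᵁ O = ⊤ := eq_top_iff.2 fun y _ => by
    show Points.map (D.map t.hom) (Points.ofPt (zz t) (L.π.app t y)) ∈ A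
    have e1 : L.π.app t y = (pp t).left ((eqToHom e) y) := by
      rw [← Scheme.Hom.comp_apply, hpp, eqToHom_trans_assoc, eqToHom_refl, Category.id_comp]
      rfl
    rw [e1, ← ofPt_comp, Points.map_ofPt, hzp, Category.assoc, c.w t.hom, ← Points.map_ofPt]
    exact h _
  obtain ⟨m, f, hf⟩ := exists_map_eq_top (G ⋙ Over.forget S) L hL O htop
  refine ⟨m.left, m.hom, fun x => ?_⟩
  obtain ⟨u, rfl⟩ := ofPt_surjective (repWith_baseChange (sqj m).flip hgs) x
  have h1 : (G.map f).left u ∈ O := (show u ∈ (G ⋙ Over.forget S).map f ⁻¹ᵁ O by rw [hf]; trivial)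
  have h2 : Points.map (D.map t.hom) (Points.ofPt (zz t) ((G.map f).left u)) ∈ A := h1
  rw [← ofPt_comp, Points.map_ofPt, hGz f, Category.assoc, ← D.map_comp, Over.w f] at h2
  rw [Points.map_ofPt]
  exact h2

set_option maxHeartbeats 1000000 in
theorem exists_representable_stage {I : Type u} [SmallCategory I] [IsCofiltered I] [QuasiSeparatedSpace ↥S]
    (D : I ⥤ Sp S) (hD : ∀ i, IsAlgSpace (D.obj i)) (hDa : ∀ (i j : I) (φ : i ⟶ j), IsAffineMor (D.map φ))
    (hqc : ∀ i, IsQuasiCompactSp (D.obj i)) (hqs : ∀ i, IsQuasiSeparatedSp (D.obj i))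
    (c : Cone D) (hc : IsLimit c) {T : Over S} (e₀ : (yon S).obj T ≅ c.pt) :
    ∃ (i : I) (W : Over S), Nonempty (D.obj i ≅ (yon S).obj W) := by
  classical
  obtain ⟨i₀⟩ := IsCofiltered.nonempty (C := I)
  have hL := isAlgSpace_lim D hD hDa c hc
  have hLq := (qcqs_of_affine hL (hD i₀) ((isAffineMor_iff_repWith _).1 (repWith_affine_lim D hDa c hc i₀))
    (hqc i₀) (hqs i₀)).1
  have : CompactSpace T.left := compactSpace_of_sp (qc_of_iso (IsAlgSpace.yon_obj T) hL e₀ hLq)
  let 𝒰 := T.left.affineCover.finiteSubcover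
  let Ov : 𝒰.I₀ → Over S := fun a => Over.mk (𝒰.f a ≫ T.hom)
  have hOv : ∀ a, IsAffine (Ov a).left := fun a => by
    show IsAffine (𝒰.X a)
    dsimp [𝒰]
    infer_instance
  let j : ∀ a, (yon S).obj (Ov a) ⟶ c.pt := fun a => (yon S).map (Over.homMk (𝒰.f a) rfl : Ov a ⟶ T) ≫ e₀.hom
  have hj : ∀ a, RepWith @IsOpenImmersion (j a) := fun a => (repWith_comp_iso_iff _ e₀.hom).2
    ((repWith_yon_iff _).2 (inferInstanceAs (IsOpenImmersion (𝒰.f a))))
  have hst : ∀ a, ∃ (i : I) (Ui : Sp S) (ji : Ui ⟶ D.obj i) (q : (yon S).obj (Ov a) ⟶ Ui),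
      RepWith @IsOpenImmersion ji ∧ IsQuasiCompactSp Ui ∧ IsPullback (j a) q (c.π.app i) ji := fun a => by
    have := hOv a
    exact exists_qc_open_subspace_stage D hD hDa c hc (j a) (hj a) (isQuasiCompactSp_yon _)
  choose i Ui ji q hji hUq hsq using hst
  have haff : ∀ a, ∃ l₀ : I, ∃ r : l₀ ⟶ i a, ∀ (l : I) (φ : l ⟶ l₀), ∃ (V : Over S) (g : (yon S).obj V ⟶ D.obj l),
      RepWith @IsOpenImmersion g ∧ Points.map (D.map (φ ≫ r)) ⁻¹' Set.range (Points.map (ji a)) ⊆ Set.range (Points.map g) := fun a => by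
    have hmono : Mono (ji a) := mono_of_repWith_immersion (repWith_mono (P := @IsOpenImmersion) (Q := @IsImmersion)
      (fun _ _ g hg => have : IsOpenImmersion g := hg; inferInstance) (hji a))
    have hU : IsAlgSpace (Ui a) := isAlgSpace_of_repBySp (Representable.repBySp (hji a).1) (hD _)
    have hUs : IsQuasiSeparatedSp (Ui a) := isQuasiSeparatedSp_of_mor
      (ValLib.isQuasiSeparatedMor_of_separated _ (UnivInjMor.isSeparatedMor_of_mono (ji a))) (hqs _)
    obtain ⟨E, cE, α, β, αL, βL, ⟨hcE⟩, hE, hEa, hEsq, hEL, -, -⟩ :=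
      exists_bc_tower D hD hDa c hc (i a) (hqc _) (hqs _) (hD (i a)) hU (hqs _) (hUq a) hUs (𝟙 _) (ji a)
    rw [Category.comp_id] at hEL
    have := hOv a
    let t : Over (i a) := Over.mk (𝟙 _)
    obtain ⟨l₀, hl₀⟩ := exists_affine_stage E (fun l => (hE l).1) hEa cE hcE t (hE t).2.1 (fun l => (hE l).2.2)
      (T := Ov a) ((hsq a).isoIsPullback _ _ hEL)
    refine ⟨l₀.left, l₀.hom, fun l φ => ?_⟩
    let lo : Over (i a) := Over.mk (φ ≫ l₀.hom)
    obtain ⟨V, -, ⟨θ⟩⟩ := hl₀ lo (Over.homMk φ rfl)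
    have hsq' := hEsq lo
    rw [Category.comp_id] at hsq'
    refine ⟨V, θ.hom ≫ α lo, (repWith_iso_comp_iff θ.hom _).2 (repWith_baseChange hsq'.flip (hji a)), ?_⟩
    rintro x ⟨y, hy⟩
    obtain ⟨p, hp, -⟩ := exists_point_of_isPullback hsq' x y hy.symm
    exact ⟨Points.map θ.inv p, by rw [← Points.map_comp, Iso.inv_hom_id_assoc, hp]⟩
  choose l₀ r hl using haff
  cases nonempty_fintype 𝒰.I₀
  obtain ⟨n, hn⟩ := IsCofiltered.inf_objs_exists (Finset.univ.image l₀)
  let f : ∀ a, n ⟶ l₀ a := fun a => (hn (Finset.mem_image_of_mem l₀ (Finset.mem_univ a))).some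
  let A : Set (Points (D.obj n)) := ⋃ a, Points.map (D.map (f a ≫ r a)) ⁻¹' Set.range (Points.map (ji a))
  have hA : IsOpen A := isOpen_iUnion fun a => IsOpen.preimage (Points.continuous_map _) (by
    rw [Points.isOpen_iff]
    intro T' g
    obtain ⟨W, fst, sq⟩ := exists_open_pullback (hji a) g
    rw [show Points.ofPt g ⁻¹' Set.range (Points.map (ji a)) = (W : Set T'.left) from
      Set.ext fun t => (mem_open_iff sq t).symm]
    exact W.2)
  have hmem : ∀ x, Points.map (c.π.app n) x ∈ A := fun x => by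
    obtain ⟨p, rfl⟩ : x ∈ Set.range (Points.map e₀.hom) :=
      ⟨Points.map e₀.inv x, by rw [← Points.map_comp, Iso.inv_hom_id, Points.map_id]⟩
    obtain ⟨u, rfl⟩ := (Points.schemeEquiv T).surjective p
    obtain ⟨a, w, hw⟩ := 𝒰.exists_eq u
    refine Set.mem_iUnion.2 ⟨a, Points.map (q a) (Points.ofScheme (Ov a) w), ?_⟩
    rw [← Points.map_comp, ← Points.map_comp, ← Points.map_comp, ← (hsq a).w, c.w (f a ≫ r a), Category.assoc]
    rw [Points.map_comp]
    refine congrArg (Points.map (e₀.hom ≫ c.π.app (i a))) ?_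
    rw [← Points.ofPt_eq_map_ofScheme, ofScheme_map]
    exact congrArg (Points.ofScheme T) hw
  obtain ⟨m, φ, hφ⟩ := exists_stage_subset D hD hDa c hc n (hqc n) hA hmem
  choose V g hg hsub using fun a => hl a m (φ ≫ f a)
  obtain ⟨W, hW⟩ := exists_iso_yon_of_open_cover (hD m) V g hg fun x => by
    obtain ⟨a, ha⟩ := Set.mem_iUnion.1 (hφ x)
    refine ⟨a, hsub a ?_⟩
    rw [Set.mem_preimage, Category.assoc, D.map_comp, Points.map_comp]
    exact ha
  exact ⟨m, W, hW⟩

end Groth.Agent.SpDesc
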