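import Groth.Agent.SpDesc.RelTower
import Groth.Agent.AlgSpLib.Presentation
import Groth.Agent.Bootstrap.QuotSp
import Groth.Agent.AlgSpLib.Quot

/-!
# Morphisms from a limit to a scheme locally of finite presentation come from a stage
-/

set_option autoImplicit false

universe u

open CategoryTheory CategoryTheory.Limits AlgebraicGeometry

set_option backward.isDefEq.respectTransparency false

namespace Groth.Agent.SpDesc

open _root_.AlgSp Groth.Agent.AlgSpLib Groth.Agent.SchImg

variable {S : Scheme.{u}}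

set_option maxHeartbeats 1000000 in
theorem exists_stage_hom {J : Type u} [SmallCategory J] [IsCofiltered J] [QuasiSeparatedSpace ↥S]
    (D : J ⥤ Sp S) (hD : ∀ i, IsAlgSpace (D.obj i)) (hDa : ∀ (i j : J) (φ : i ⟶ j), IsAffineMor (D.map φ))
    (c : Cone D) (hc : IsLimit c) (i₁ : J) (hqc : IsQuasiCompactSp (D.obj i₁))
    (hqs : ∀ i, IsQuasiSeparatedSp (D.obj i)) {T : Over S} [LocallyOfFinitePresentation T.hom]
    (a : c.pt ⟶ (yon S).obj T) :
    ∃ (i : J) (_ : i ⟶ i₁) (ai : D.obj i ⟶ (yon S).obj T), c.π.app i ≫ ai = a := by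
  have := compactSpace_of_isQuasiCompactSp hqc
  obtain ⟨U₁, g, hU₁, hge, hgs⟩ := exists_affine_chart_of_compact (hD i₁)
  obtain ⟨W, z, G, zz, pp, L, e, H, ra, rb, Rl, al, bl, r, cH, eR, ⟨hL⟩, ⟨hcH⟩, hW, hze, hzs, hG, hpp, hr,
    sqG, sqW, sqR, sqRl, hH, hrab, -, hRq, hHa⟩ := exists_rel_tower D hD hDa c hc i₁ hqs g hge hgs
  obtain ⟨binf, hbi⟩ := exists_map_eq (z ≫ a)
  -- lift to a stage of the chart
  let tG : G ⋙ Over.forget S ⟶ (Functor.const (Over i₁)).obj S :=
    { app := fun j => (G.obj j).hom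
      naturality := fun j k f => by
        show (G.map f).left ≫ (G.obj k).hom = (G.obj j).hom ≫ 𝟙 S
        rw [Over.w, Category.comp_id] }
  have : ∀ {j k : Over i₁} (f : j ⟶ k), IsAffineHom ((G ⋙ Over.forget S).map f) := fun f => (hHa f).2
  have : ∀ j, IsAffine ((G ⋙ Over.forget S).obj j) := fun j => (hG j).1
  obtain ⟨k, bk, hbk, hbkf⟩ := Scheme.exists_π_app_comp_eq_of_locallyOfFinitePresentation (G ⋙ Over.forget S)
    tG T.hom L hL (eqToHom e ≫ binf.left) (by
      ext j
      show L.π.app j ≫ (G.obj j).hom = (eqToHom e ≫ binf.left) ≫ T.hom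
      rw [Category.assoc, Over.w binf, ← Over.w (pp j), hpp, Category.assoc, eqToHom_trans_assoc, eqToHom_refl,
        Category.id_comp])
  let bk' : G.obj k ⟶ T := Over.homMk bk hbkf
  have hk : pp k ≫ bk' = binf := Over.OverMorphism.ext (by
    rw [Over.comp_left, hpp, Category.assoc]
    show eqToHom e.symm ≫ L.π.app k ≫ bk = binf.left
    rw [hbk, eqToHom_trans_assoc, eqToHom_refl, Category.id_comp])
  -- descend to a finer stage
  let tH : H ⋙ Over.forget S ⟶ (Functor.const (Over i₁)).obj S :=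
    { app := fun j => (H.obj j).hom
      naturality := fun j l f => by
        show (H.map f).left ≫ (H.obj l).hom = (H.obj j).hom ≫ 𝟙 S
        rw [Over.w, Category.comp_id] }
  have : ∀ {j l : Over i₁} (f : j ⟶ l), IsAffineHom ((H ⋙ Over.forget S).map f) := fun f => (hHa f).1
  have : ∀ j, CompactSpace ((H ⋙ Over.forget S).obj j) := fun j => (hRq j).1
  obtain ⟨l, f, hf⟩ := Scheme.exists_hom_comp_eq_comp_of_locallyOfFiniteType (H ⋙ Over.forget S) tH T.hom cH hcH
    (i := k) (ra k ≫ bk').left (rb k ≫ bk').left (Over.w (ra k ≫ bk')).symm (Over.w (rb k ≫ bk')).symm (by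
      have e1 : r k ≫ ra k ≫ bk' = r k ≫ rb k ≫ bk' := by
        rw [← Category.assoc, (hrab k).1, ← Category.assoc, (hrab k).2, Category.assoc, hk, Category.assoc, hk]
        apply (yon S).map_injective
        rw [Functor.map_comp, Functor.map_comp, hbi, ← Category.assoc, sqRl.w, Category.assoc]
      have e2 := congrArg (fun q : Rl ⟶ T => q.left) e1
      simp only [Over.comp_left, hr, Category.assoc] at e2
      rw [cancel_epi] at e2
      exact e2)
  let bl' : G.obj l ⟶ T := G.map f ≫ bk'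
  have hw : (yon S).map (ra l) ≫ (yon S).map bl' = (yon S).map (rb l) ≫ (yon S).map bl' := by
    rw [← Functor.map_comp, ← Functor.map_comp]
    refine congrArg (yon S).map ?_
    simp only [bl', ← Category.assoc, ← (hH f).1, ← (hH f).2]
    exact Over.OverMorphism.ext hf
  have := isLocallySurjective_of_atlas (hG l).2.1 (hG l).2.2
  obtain ⟨hcol⟩ := isColimit_of_isPullback (sqR l)
  refine ⟨l.left, l.hom, hcol.desc (Cofork.ofπ ((yon S).map bl') hw), ?_⟩
  have := isLocallySurjective_of_atlas hze hzs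
  obtain ⟨hcolW⟩ := isColimit_of_isPullback sqRl
  apply Cofork.IsColimit.hom_ext hcolW
  have hfac : zz l ≫ hcol.desc (Cofork.ofπ ((yon S).map bl') hw) = (yon S).map bl' :=
    hcol.fac _ WalkingParallelPair.one
  show z ≫ c.π.app l.left ≫ _ = z ≫ a
  rw [← Category.assoc, (sqW l).w, Category.assoc, hfac, ← Functor.map_comp, ← hbi]
  refine congrArg (yon S).map ?_
  simp only [bl', ← Category.assoc]
  rw [show pp l ≫ G.map f = pp k from Over.OverMorphism.ext (by
    rw [Over.comp_left, hpp, hpp, Category.assoc]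
    exact congrArg (eqToHom e.symm ≫ ·) (L.w f)), hk]

end Groth.Agent.SpDesc
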