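import Mathlib

/-!
# Models of finite type of etale coverings of affine schemes
-/

set_option autoImplicit false

universe u

open CategoryTheory CategoryTheory.Limits AlgebraicGeometry

set_option backward.isDefEq.respectTransparency false

namespace Groth.Agent.SpDesc

theorem lfp_terminal_of_finiteType {A : Type u} [CommRing A] (h : (Int.castRingHom A).FiniteType) :
    LocallyOfFinitePresentation (terminal.from (Spec (CommRingCat.of A))) := by
  let φ : CommRingCat.of (ULift.{u} ℤ) ⟶ CommRingCat.of A :=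
    CommRingCat.ofHom ((Int.castRingHom A).comp (ULift.ringEquiv : ULift.{u} ℤ ≃+* ℤ).toRingHom)
  have : IsNoetherianRing (ULift.{u} ℤ) := isNoetherianRing_of_ringEquiv ℤ ULift.ringEquiv.symm
  have hφ : φ.hom.FiniteType :=
    RingHom.FiniteType.comp h (RingHom.FiniteType.of_surjective _ (ULift.ringEquiv : ULift.{u} ℤ ≃+* ℤ).surjective)
  have : LocallyOfFinitePresentation (Spec.map φ) :=
    (HasRingHomProperty.Spec_iff (P := @LocallyOfFinitePresentation)).2 (RingHom.FinitePresentation.of_finiteType.1 hφ)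
  have e : terminal.from (Spec (CommRingCat.of A)) =
      Spec.map φ ≫ (specULiftZIsTerminal.uniqueUpToIso terminalIsTerminal).hom :=
    terminalIsTerminal.hom_ext _ _
  rw [e]
  infer_instance

theorem exists_etale_model {W T : Scheme.{u}} [IsAffine W] [IsAffine T] (h : W ⟶ T) [Etale h] [Surjective h] :
    ∃ (T₀ V₀ : Scheme.{u}) (q : V₀ ⟶ T₀) (u : T ⟶ T₀) (w : W ⟶ V₀), IsAffine V₀ ∧ CompactSpace T₀ ∧
      QuasiSeparatedSpace T₀ ∧ LocallyOfFinitePresentation (terminal.from T₀) ∧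
      LocallyOfFinitePresentation (terminal.from V₀) ∧ Etale q ∧ Surjective q ∧ IsPullback w h q u := by
  have het : h.appTop.hom.Etale := (HasRingHomProperty.iff_of_isAffine (P := @Etale)).1 inferInstance
  algebraize [h.appTop.hom]
  obtain ⟨A₀, B₀, _, _, hA₀, hB₀, ⟨ε⟩⟩ :=
    Algebra.Etale.exists_subalgebra_fg (R := ℤ) (A := Γ(T, ⊤)) (B := Γ(W, ⊤))
  let ι : CommRingCat.of A₀ ⟶ Γ(T, ⊤) := CommRingCat.ofHom (algebraMap A₀ Γ(T, ⊤))
  let q₀ : CommRingCat.of A₀ ⟶ CommRingCat.of B₀ := CommRingCat.ofHom (algebraMap A₀ B₀)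
  let e : CommRingCat.of (TensorProduct A₀ Γ(T, ⊤) B₀) ≅ Γ(W, ⊤) := ε.symm.toRingEquiv.toCommRingCatIso
  let inr : CommRingCat.of B₀ ⟶ Γ(W, ⊤) :=
    CommRingCat.ofHom (Algebra.TensorProduct.includeRight (R := A₀) (A := Γ(T, ⊤)) (B := B₀)).toRingHom ≫ e.hom
  have hpo : IsPushout ι q₀ h.appTop inr := by
    refine (CommRingCat.isPushout_tensorProduct A₀ Γ(T, ⊤) B₀).of_iso (Iso.refl _) (Iso.refl _) (Iso.refl _) e
      (by simp [ι]) (by simp [q₀]) ?_ (by simp [inr])
    ext x
    exact ε.symm.commutes x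
  have hpb : IsPullback (W.isoSpec.hom ≫ Spec.map inr) h (Spec.map q₀) (T.isoSpec.hom ≫ Spec.map ι) := by
    refine (isPullback_SpecMap_of_isPushout _ _ _ _ hpo).flip.of_iso W.isoSpec.symm (Iso.refl _) T.isoSpec.symm
      (Iso.refl _) ?_ ?_ ?_ ?_
    · simp
    · simp [Iso.eq_inv_comp, Scheme.isoSpec_hom_naturality_assoc]
    · simp
    · simp
  have hq₀ : q₀.hom.Etale := by
    show (algebraMap A₀ B₀).Etale
    exact RingHom.etale_algebraMap.2 hB₀
  have : Etale (Spec.map q₀) := (HasRingHomProperty.Spec_iff (P := @Etale)).2 hq₀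
  have hft : (Int.castRingHom A₀).FiniteType := by
    have : Algebra.FiniteType ℤ A₀ := A₀.fg_iff_finiteType.1 hA₀
    rw [← algebraMap_int_eq]
    exact RingHom.finiteType_algebraMap.2 this
  have hA := lfp_terminal_of_finiteType hft
  let O : (Spec (CommRingCat.of A₀)).Opens :=
    ⟨Set.range (Spec.map q₀), (Spec.map q₀).isOpenMap.isOpen_range⟩
  have hO : IsCompact (O : Set (Spec (CommRingCat.of A₀))) := isCompact_range (Spec.map q₀).continuous
  let q : Spec (CommRingCat.of B₀) ⟶ O.toScheme :=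
    IsOpenImmersion.lift O.ι (Spec.map q₀) (by rw [Scheme.Opens.range_ι]; exact subset_rfl)
  have hq : q ≫ O.ι = Spec.map q₀ := IsOpenImmersion.lift_fac _ _ _
  have hu : Set.range (T.isoSpec.hom ≫ Spec.map ι) ⊆ Set.range O.ι := by
    rw [Scheme.Opens.range_ι]
    rintro _ ⟨t, rfl⟩
    obtain ⟨x, rfl⟩ := h.surjective t
    exact ⟨_, congr($(hpb.w) x)⟩
  let u : T ⟶ O.toScheme := IsOpenImmersion.lift O.ι _ hu
  refine ⟨O.toScheme, Spec (CommRingCat.of B₀), q, u, W.isoSpec.hom ≫ Spec.map inr, inferInstance,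
    isCompact_iff_compactSpace.mp hO, (isQuasiSeparated_iff_quasiSeparatedSpace _ O.2).mp (.of_quasiSeparatedSpace _),
    ?_, ?_, ?_, ?_, ?_⟩
  · rw [show terminal.from O.toScheme = O.ι ≫ terminal.from _ from terminalIsTerminal.hom_ext _ _]
    infer_instance
  · rw [show terminal.from (Spec (CommRingCat.of B₀)) = Spec.map q₀ ≫ terminal.from _ from terminalIsTerminal.hom_ext _ _]
    infer_instance
  · have : Etale (q ≫ O.ι) := hq ▸ ‹Etale (Spec.map q₀)›
    exact Etale.of_comp q O.ι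
  · refine ⟨fun y => ?_⟩
    obtain ⟨x, hx⟩ : O.ι y ∈ Set.range (Spec.map q₀) := y.2
    exact ⟨x, O.ι.isOpenEmbedding.injective (congr($hq x).trans hx)⟩
  · have hu' : u ≫ O.ι = T.isoSpec.hom ≫ Spec.map ι := IsOpenImmersion.lift_fac _ _ _
    have hw : (W.isoSpec.hom ≫ Spec.map inr) ≫ q = h ≫ u := by
      rw [← cancel_mono O.ι]
      simp only [Category.assoc, hq, hu']
      simpa only [Category.assoc] using hpb.w
    exact ⟨⟨hw⟩, ⟨PullbackCone.IsLimit.mk hw
      (fun s => hpb.lift s.fst s.snd (by rw [← hq, ← hu', ← Category.assoc, s.condition, Category.assoc]))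
      (fun s => hpb.lift_fst _ _ _) (fun s => hpb.lift_snd _ _ _)
      (fun s m h₁ h₂ => hpb.hom_ext (h₁.trans (hpb.lift_fst _ _ _).symm) (h₂.trans (hpb.lift_snd _ _ _).symm))⟩⟩

end Groth.Agent.SpDesc
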