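import Groth.Agent.SpDesc.StageHom
import Groth.Agent.SpDesc.EtModel
import Groth.Agent.SpDesc.Results
import Groth.Agent.AlgSpLib.Criteria

/-!
# If a limit of algebraic spaces is affine, so are the stages
-/

set_option autoImplicit false

universe u

open CategoryTheory CategoryTheory.Limits AlgebraicGeometry

set_option backward.isDefEq.respectTransparency false

namespace Groth.Agent.SpDesc

open _root_.AlgSp Groth.Agent.AlgSpLib Groth.Agent.SchImg

variable {S : Scheme.{u}}

theorem isQuasiAffine_pullback_of_affine {G Z V P : Scheme.{u}} [IsAffine G] [IsAffine Z] [QuasiSeparatedSpace V]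
    {g : G ⟶ V} {i : Z ⟶ V} {p₁ : P ⟶ G} {p₂ : P ⟶ Z} (sq : IsPullback p₁ p₂ g i) : P.IsQuasiAffine := by
  have : QuasiCompact g := quasiCompact_of_compactSpace g
  have : QuasiCompact p₂ := MorphismProperty.of_isPullback (P := @QuasiCompact) sq ‹_›
  have : CompactSpace P := QuasiCompact.compactSpace_of_compactSpace p₂
  exact Scheme.IsQuasiAffine.of_isImmersion (sq.isoPullback.hom ≫ pullback.mapDesc g i (terminal.from V))

theorem isScheme_of_representable {X : Sp S} {T : Over S} {f : X ⟶ (yon S).obj T} (hf : Representable f) :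
    ∃ X' : Over S, Nonempty ((yon S).obj X' ≅ X) := by
  obtain ⟨X', fst, w, sq⟩ := exists_isPullback_of_representable hf (𝟙 ((yon S).obj T))
  have := sq.isIso_fst_of_isIso
  exact ⟨X', ⟨asIso fst⟩⟩

theorem qs_of_iso {X Y : Sp S} (e : X ≅ Y) (hY : IsQuasiSeparatedSp Y) : IsQuasiSeparatedSp X :=
  isQuasiSeparatedSp_of_mor
    (ValLib.isQuasiSeparatedMor_of_separated e.hom (UnivInjMor.isSeparatedMor_of_mono e.hom)) hY

theorem qc_of_iso {X Y : Sp S} (hX : IsAlgSpace X) (hY : IsAlgSpace Y) (e : X ≅ Y) (h : IsQuasiCompactSp Y) :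
    IsQuasiCompactSp X :=
  have hr : RepWith @Surjective e.inv := repWith_of_isIso e.inv
  isQuasiCompactSp_of_isSurjectiveMor hX e.inv (isSurjectiveMor_of_repWith hr) h

set_option maxHeartbeats 2000000 in
theorem exists_scheme_stage {I : Type u} [SmallCategory I] [IsCofiltered I] [QuasiSeparatedSpace ↥S]
    (D : I ⥤ Sp S) (hD : ∀ i, IsAlgSpace (D.obj i)) (hDa : ∀ (i j : I) (φ : i ⟶ j), IsAffineMor (D.map φ))
    (c : Cone D) (hc : IsLimit c) (i₁ : I) (hqc : IsQuasiCompactSp (D.obj i₁))
    (hqs : ∀ i, IsQuasiSeparatedSp (D.obj i)) {T : Over S} [IsAffine T.left] (e₀ : (yon S).obj T ≅ c.pt) :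
    ∃ (i : I) (_ : i ⟶ i₁) (X' : Over S), Nonempty ((yon S).obj X' ≅ D.obj i) := by
  have := compactSpace_of_isQuasiCompactSp hqc
  obtain ⟨U₁, g, hU₁, hge, hgs⟩ := exists_affine_chart_of_compact (hD i₁)
  obtain ⟨W, z, G, zz, pp, L, e, H, ra, rb, Rl, al, bl, r, cH, eR, ⟨hL⟩, -, hW, hze, hzs, hG, hpp, -,
    sqG, sqW, -, -, -, -, -, -, hHa⟩ := exists_rel_tower D hD hDa c hc i₁ hqs g hge hgs
  -- the covering of the limit
  obtain ⟨h, hh⟩ := exists_map_eq (z ≫ e₀.inv)
  have : Etale h.left := (repWith_yon_iff h).1 (hh ▸ (repWith_comp_iso_iff _ e₀.inv).2 hze)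
  have : Surjective h.left := (repWith_yon_iff h).1 (hh ▸ (repWith_comp_iso_iff _ e₀.inv).2 hzs)
  obtain ⟨T₀, V₀, q, u, w, hV₀, hT₀c, hT₀s, hT₀f, hV₀f, hqe, hqs', sqm⟩ := exists_etale_model h.left
  -- base change to `S`
  let T' : Over S := Over.mk (pullback.snd (terminal.from T₀) (terminal.from S))
  let V' : Over S := Over.mk (pullback.snd (terminal.from V₀) (terminal.from S))
  let q' : V' ⟶ T' := Over.homMk (pullback.map _ _ _ _ q (𝟙 S) (𝟙 _) (terminalIsTerminal.hom_ext _ _) (by simp))
    (by simp [T', V'])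
  have hq' : IsPullback (pullback.fst (terminal.from V₀) (terminal.from S)) q'.left q
      (pullback.fst (terminal.from T₀) (terminal.from S)) := by
    refine IsPullback.of_bot ?_ (by simp [q', T', V']) (IsPullback.of_hasPullback (terminal.from T₀) (terminal.from S))
    have : q'.left ≫ pullback.snd (terminal.from T₀) (terminal.from S) =
        pullback.snd (terminal.from V₀) (terminal.from S) := by simp [q', T', V']
    rw [this, terminalIsTerminal.hom_ext (q ≫ terminal.from T₀) (terminal.from V₀)]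
    exact IsPullback.of_hasPullback _ _
  let u' : T ⟶ T' := Over.homMk (pullback.lift u T.hom (terminalIsTerminal.hom_ext _ _)) (by simp [T'])
  let w' : W ⟶ V' := Over.homMk (pullback.lift w W.hom (terminalIsTerminal.hom_ext _ _)) (by simp [V'])
  have sqm' : IsPullback h.left w'.left u'.left q'.left := by
    refine (IsPullback.of_right ?_ ?_ hq').flip
    · simpa [w', u'] using sqm
    · apply pullback.hom_ext
      · simp [w', q', u', T', V', sqm.w]
      · simp [w', q', u', T', V', Over.w h]
  have : QuasiSeparatedSpace (terminal Scheme.{u} : Scheme.{u}) := inferInstance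
  have hT'q : QuasiSeparated T'.hom := MorphismProperty.pullback_snd (P := @QuasiSeparated) _ _
    (inferInstance : QuasiSeparated (terminal.from T₀))
  have hV'q : QuasiSeparated V'.hom := MorphismProperty.pullback_snd (P := @QuasiSeparated) _ _
    (inferInstance : QuasiSeparated (terminal.from V₀))
  have hT's : IsQuasiSeparatedSp ((yon S).obj T') :=
    (repWith_diag_yon_iff @QuasiCompact T').2 (inferInstanceAs (QuasiCompact (pullback.diagonal T'.hom)))
  have hV's : IsQuasiSeparatedSp ((yon S).obj V') :=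
    (repWith_diag_yon_iff @QuasiCompact V').2 (inferInstanceAs (QuasiCompact (pullback.diagonal V'.hom)))
  have : QuasiSeparatedSpace V'.left := quasiSeparatedSpace_of_quasiSeparated V'.hom
  have hT'f : LocallyOfFinitePresentation T'.hom := MorphismProperty.pullback_snd (P := @LocallyOfFinitePresentation) _ _ hT₀f
  have hV'f : LocallyOfFinitePresentation V'.hom := MorphismProperty.pullback_snd (P := @LocallyOfFinitePresentation) _ _ hV₀f
  have hq'e : Etale q'.left := MorphismProperty.of_isPullback (P := @Etale) hq' hqe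
  have hq's : Surjective q'.left := MorphismProperty.of_isPullback (P := @Surjective) hq' hqs'
  have hye : RepWith @Etale ((yon S).map q') := (repWith_yon_iff q').2 hq'e
  have hys : RepWith @Surjective ((yon S).map q') := (repWith_yon_iff q').2 hq's
  -- a stage maps to the model
  obtain ⟨i₂, f₂, a₂, ha₂⟩ := exists_stage_hom D hD hDa c hc i₁ hqc hqs (T := T') (e₀.inv ≫ (yon S).map u')
  let tG : G ⋙ Over.forget S ⟶ (Functor.const (Over i₁)).obj S :=
    { app := fun j => (G.obj j).hom
      naturality := fun j k f => by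
        show (G.map f).left ≫ (G.obj k).hom = (G.obj j).hom ≫ 𝟙 S
        rw [Over.w, Category.comp_id] }
  have : ∀ {j k : Over i₁} (f : j ⟶ k), IsAffineHom ((G ⋙ Over.forget S).map f) := fun f => (hHa f).2
  have : ∀ j, IsAffine ((G ⋙ Over.forget S).obj j) := fun j => (hG j).1
  have hppG : ∀ {j k : Over i₁} (f : j ⟶ k), pp j ≫ G.map f = pp k := fun {j k} f => Over.OverMorphism.ext (by
    rw [Over.comp_left, hpp, hpp, Category.assoc]
    exact congrArg (eqToHom e.symm ≫ ·) (L.w f))
  obtain ⟨k, bk, hbk, hbkf⟩ := Scheme.exists_π_app_comp_eq_of_locallyOfFinitePresentation (G ⋙ Over.forget S)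
    tG V'.hom L hL (eqToHom e ≫ w'.left) (by
      ext j
      show L.π.app j ≫ (G.obj j).hom = (eqToHom e ≫ w'.left) ≫ V'.hom
      rw [Category.assoc, Over.w w', ← Over.w (pp j), hpp, Category.assoc, eqToHom_trans_assoc, eqToHom_refl,
        Category.id_comp])
  obtain ⟨m, mk, m₂, -⟩ := IsCofilteredOrEmpty.cone_objs k (Over.mk f₂)
  let wk : G.obj m ⟶ V' := G.map mk ≫ Over.homMk bk hbkf
  have hwk : pp m ≫ wk = w' := by
    rw [← Category.assoc, hppG]
    exact Over.OverMorphism.ext (by
      rw [Over.comp_left, hpp, Category.assoc]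
      show eqToHom e.symm ≫ L.π.app k ≫ bk = w'.left
      rw [hbk, eqToHom_trans_assoc, eqToHom_refl, Category.id_comp])
  obtain ⟨am, ham⟩ := exists_map_eq (zz m ≫ D.map m₂.left ≫ a₂)
  have hzu : (yon S).map (pp m ≫ am) = (yon S).map (h ≫ u') := by
    rw [Functor.map_comp, ham, Functor.map_comp, hh, ← Category.assoc, ← (sqW m).w, Category.assoc,
      c.w_assoc, show c.π.app (Over.mk f₂).left ≫ a₂ = _ from ha₂, Category.assoc]
  obtain ⟨n, mn, hmn⟩ := Scheme.exists_hom_comp_eq_comp_of_locallyOfFiniteType (G ⋙ Over.forget S) tG T'.hom L hL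
    (i := m) am.left (wk ≫ q').left (Over.w am).symm (Over.w (wk ≫ q')).symm (by
      have e1 : pp m ≫ am = pp m ≫ wk ≫ q' := by
        rw [(yon S).map_injective hzu, reassoc_of% hwk]
        exact Over.OverMorphism.ext sqm'.w
      have e2 := congrArg (fun q : W ⟶ T' => q.left) e1
      simp only [Over.comp_left, hpp, Category.assoc] at e2
      rw [cancel_epi] at e2
      exact e2)
  -- the stage `n`
  let an : D.obj n.left ⟶ (yon S).obj T' := D.map (mn ≫ m₂).left ≫ a₂
  let wn : G.obj n ⟶ V' := G.map mn ≫ wk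
  have hsq : zz n ≫ an = (yon S).map wn ≫ (yon S).map q' := by
    have e1 : G.map mn ≫ am = G.map mn ≫ wk ≫ q' := Over.OverMorphism.ext hmn
    have e2 := congrArg (yon S).map e1
    rw [Functor.map_comp, ham, ← Category.assoc, ← (sqG mn).w] at e2
    simp only [Category.assoc, Functor.map_comp] at e2
    simp only [an, wn, Over.comp_left, Functor.map_comp, Category.assoc]
    exact e2
  let P := pullback an ((yon S).map q')
  have hP : IsAlgSpace P := isAlgSpace_of_isPullback_space (IsAlgSpace.yon_obj T') (hD n.left) (IsAlgSpace.yon_obj V')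
    (IsPullback.of_hasPullback an ((yon S).map q'))
  let f₀ : (yon S).obj (G.obj n) ⟶ P := pullback.lift (zz n) ((yon S).map wn) hsq
  have hDn : IsQuasiCompactSp (D.obj n.left) := (qcqs_of_affine (hD _) (hD i₁)
    ((isAffineMor_iff_repWith _).1 (hDa _ _ n.hom)) hqc (hqs i₁)).1
  have hGq : IsQuasiCompactSp ((yon S).obj (G.obj n)) ∧ IsQuasiSeparatedSp ((yon S).obj (G.obj n)) := by
    have := (hG n).1
    exact ⟨isQuasiCompactSp_yon _, (repWith_diag_yon_iff @QuasiCompact (G.obj n)).2
      (inferInstanceAs (QuasiCompact (pullback.diagonal (G.obj n).hom)))⟩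
  have hPfst : RepWith @Etale (pullback.fst an ((yon S).map q')) :=
    repWith_baseChange (IsPullback.of_hasPullback an ((yon S).map q')).flip hye
  have hPqc : IsQuasiCompactSp P := by
    have hqq : RepWith @QuasiCompact ((yon S).map q') := (repWith_yon_iff q').2 (by
      have : QuasiCompact q := quasiCompact_of_compactSpace q
      exact MorphismProperty.of_isPullback (P := @QuasiCompact) hq' this)
    have hf : RepWith @QuasiCompact (pullback.fst an ((yon S).map q')) :=
      repWith_baseChange (IsPullback.of_hasPullback an ((yon S).map q')).flip hqq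
    exact ((isQuasiCompactMor_iff_repWith hP (hD _) hf.1).2 hf) (hD _) hDn (𝟙 _) (𝟙 P) _ (IsPullback.id_horiz _)
  have hPqs : IsQuasiSeparatedSp P := by
    refine isQuasiSeparatedSp_of_mor (f := pullback.fst an ((yon S).map q')) ?_ (hqs _)
    exact (isQuasiSeparatedMor_iff_repWith hP (hD _) hPfst.1).2 (repWith_baseChange
      (IsPullback.of_hasPullback an ((yon S).map q')).flip ((repWith_yon_iff q').2 (by
        have : QuasiSeparated (q'.left ≫ T'.hom) := by rw [Over.w q']; exact hV'q
        exact QuasiSeparated.of_comp q'.left T'.hom)))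
  -- at the limit
  have hsqW : IsPullback z ((yon S).map w') (e₀.inv ≫ (yon S).map u') ((yon S).map q') := by
    have h1 : IsPullback ((yon S).map h) ((yon S).map w') ((yon S).map u') ((yon S).map q') :=
      isPullback_yon_iff.2 sqm'
    refine h1.of_iso (Iso.refl _) e₀ (Iso.refl _) (Iso.refl _) (by simp [hh]) (by simp) (by simp) (by simp)
  have han : c.π.app n.left ≫ an = e₀.inv ≫ (yon S).map u' := by
    simp only [an]
    rw [c.w_assoc]
    exact ha₂
  let Y := pullback (c.π.app n.left ≫ an) ((yon S).map q')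
  have hsqY : IsPullback z ((yon S).map w') (c.π.app n.left ≫ an) ((yon S).map q') := by rw [han]; exact hsqW
  let fl : (yon S).obj W ⟶ Y := hsqY.isoPullback.hom
  have : IsIso fl := inferInstanceAs (IsIso hsqY.isoPullback.hom)
  let pY : Y ⟶ P := pullback.map _ _ _ _ (c.π.app n.left) (𝟙 _) (𝟙 _) (by simp) (by simp)
  have hYsq : IsPullback pY (pullback.fst (c.π.app n.left ≫ an) ((yon S).map q')) (pullback.fst an ((yon S).map q'))
      (c.π.app n.left) :=
    IsPullback.of_right (by simpa [pY] using (IsPullback.of_hasPullback (c.π.app n.left ≫ an) ((yon S).map q')).flip)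
      (by simp [pY]) (IsPullback.of_hasPullback an ((yon S).map q')).flip
  have hflf : fl ≫ pullback.fst _ _ = z := hsqY.isoPullback_hom_fst
  have hXsq : IsPullback ((yon S).map (pp n)) fl f₀ pY := by
    refine IsPullback.of_bot ?_ ?_ hYsq
    · rw [pullback.lift_fst, hflf]
      exact (sqW n).flip
    · apply pullback.hom_ext
      · simp only [f₀, pY, Category.assoc, pullback.lift_fst]
        rw [reassoc_of% hflf, (sqW n).w]
      · simp only [f₀, pY, Category.assoc, pullback.lift_snd, Category.comp_id]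
        rw [← Functor.map_comp, show pp n ≫ wn = w' from by simp only [wn]; rw [← Category.assoc, hppG, hwk]]
        exact hsqY.isoPullback_hom_snd.symm
  have hlfp : LocP @LocallyOfFinitePresentation f₀ := by
    refine locP_cancel etST_lfp (Q := @LocallyOfFiniteType)
      (fun _ _ _ f' g' (hg : LocallyOfFiniteType g') (h : LocallyOfFinitePresentation (f' ≫ g')) =>
        LimDesc.lfp_of_comp f' g') (hD n.left) (g := pullback.fst an ((yon S).map q')) ?_ ?_
    · rw [pullback.lift_fst]
      exact (locP_iff_repWith etST_lfp (hD _) (hG n).2.1.1).2 (repWith_mono (fun _ _ r hr => by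
        have : Etale r := hr
        infer_instance) (hG n).2.1)
    · exact (locP_iff_repWith etST_lft (hD _) hPfst.1).2 (repWith_mono (fun _ _ r hr => by
        have : Etale r := hr
        infer_instance) hPfst)
  obtain ⟨i, φ, H'⟩ := atStage_isIso D hD hDa c hc n.left (IsAlgSpace.yon_obj (G.obj n)) hP f₀
    (pullback.fst an ((yon S).map q')) hGq.1 hGq.2 hPqc hPqs hYsq hXsq hlfp
  let l : Over i₁ := Over.mk (φ ≫ n.hom)
  let ln : l ⟶ n := Over.homMk φ rfl
  let ai : D.obj i ⟶ (yon S).obj T' := D.map φ ≫ an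
  have hwl : zz l ≫ ai = (yon S).map (G.map ln ≫ wn) ≫ (yon S).map q' := by
    rw [Functor.map_comp, Category.assoc, ← hsq, ← Category.assoc, ← Category.assoc]
    exact congrArg (· ≫ an) (sqG ln).w
  let fi : (yon S).obj (G.obj l) ⟶ pullback ai ((yon S).map q') := pullback.lift (zz l) _ hwl
  let pYi : pullback ai ((yon S).map q') ⟶ P := pullback.map _ _ _ _ (D.map φ) (𝟙 _) (𝟙 _) (by simp [ai]) (by simp)
  have hYi : IsPullback pYi (pullback.fst ai ((yon S).map q')) (pullback.fst an ((yon S).map q')) (D.map φ) :=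
    IsPullback.of_right (by simpa [pYi, ai] using (IsPullback.of_hasPullback ai ((yon S).map q')).flip)
      (by simp [pYi]) (IsPullback.of_hasPullback an ((yon S).map q')).flip
  have hXi : IsPullback ((yon S).map (G.map ln)) fi f₀ pYi := by
    refine IsPullback.of_bot ?_ ?_ hYi
    · rw [pullback.lift_fst, pullback.lift_fst]
      exact (sqG ln).flip
    · apply pullback.hom_ext
      · simp only [f₀, fi, pYi, Category.assoc, pullback.lift_fst, pullback.lift_fst_assoc]
        exact (sqG ln).w.symm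
      · simp only [f₀, fi, pYi, Category.assoc, pullback.lift_snd, Category.comp_id, Functor.map_comp]
  have := H' _ _ fi pYi _ hYi _ hXi
  have sql : IsPullback (zz l) ((yon S).map (G.map ln ≫ wn)) ai ((yon S).map q') :=
    (IsPullback.of_hasPullback ai ((yon S).map q')).of_iso (asIso fi).symm (Iso.refl _) (Iso.refl _) (Iso.refl _)
      (by simp [fi]) (by simp [fi]) (by simp) (by simp)
  have hqa : IsQuasiAffineMor ((yon S).map (G.map ln ≫ wn)) := fun Z hZ gz => by
    obtain ⟨gz', rfl⟩ := exists_map_eq gz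
    obtain ⟨R, p₁, p₂, sqR⟩ :=
      exists_pullback (IsAlgSpace.yon_obj V').diag ((yon S).map (G.map ln ≫ wn)) ((yon S).map gz')
    have := hZ
    have : IsAffine (G.obj l).left := (hG l).1
    exact ⟨R, p₂, (yon S).map p₁, sqR, isQuasiAffine_pullback_of_affine (isPullback_yon_iff.1 sqR)⟩
  rw [isQuasiAffineMor_iff_repWith] at hqa
  have hrep := AlgSpLib.of_chart (isLocalOnBase_repWith qaMor fun _ _ r hr =>
    QA.IndQA.of_isQuasiAffineHom r hr) (hD i) (IsAlgSpace.yon_obj T') ai hye hys sql hqa
  obtain ⟨X', hX'⟩ := isScheme_of_representable hrep.1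
  exact ⟨i, φ ≫ n.hom, X', hX'⟩

theorem exists_affine_stage {I : Type u} [SmallCategory I] [IsCofiltered I] [QuasiSeparatedSpace ↥S]
    (D : I ⥤ Sp S) (hD : ∀ i, IsAlgSpace (D.obj i)) (hDa : ∀ (i j : I) (φ : i ⟶ j), IsAffineMor (D.map φ))
    (c : Cone D) (hc : IsLimit c) (i₁ : I) (hqc : IsQuasiCompactSp (D.obj i₁))
    (hqs : ∀ i, IsQuasiSeparatedSp (D.obj i)) {T : Over S} [IsAffine T.left] (e₀ : (yon S).obj T ≅ c.pt) :
    ∃ i₀ : I, ∀ (i : I) (_ : i ⟶ i₀), ∃ T' : Over S, IsAffine T'.left ∧ Nonempty ((yon S).obj T' ≅ D.obj i) := by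
  obtain ⟨i₂, f₂, X', ⟨θ₂⟩⟩ := exists_scheme_stage D hD hDa c hc i₁ hqc hqs e₀
  have hsch : ∀ j : Over i₂, ∃ (Xj : Over S) (m : Xj ⟶ X') (θ : (yon S).obj Xj ≅ D.obj j.left),
      θ.hom ≫ D.map j.hom = (yon S).map m ≫ θ₂.hom ∧ IsAffineHom m.left := fun j => by
    obtain ⟨Xj, z, m, sq, hm⟩ := exists_repWith ((isAffineMor_iff_repWith _).1 (hDa j.left i₂ j.hom)) θ₂.hom
    have := sq.isIso_fst_of_isIso
    exact ⟨Xj, m, asIso z, sq.w, hm⟩
  choose Xj m θ hθ hm using hsch
  let F : Over i₂ ⥤ Over S :=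
    { obj := Xj
      map := fun {j k} f => (yon S).preimage ((θ j).hom ≫ D.map f.left ≫ (θ k).inv)
      map_id := fun j => (yon S).map_injective (by simp)
      map_comp := fun f g => (yon S).map_injective (by simp) }
  have hFm : ∀ {j k : Over i₂} (f : j ⟶ k), (yon S).map (F.map f) ≫ (θ k).hom = (θ j).hom ≫ D.map f.left :=
    fun f => by simp [F]
  let hc' := (Functor.Initial.isLimitWhiskerEquiv (Over.forget i₂) c).symm hc
  let cF : Cone F := Cone.mk T
    { app := fun j => (yon S).preimage (e₀.hom ≫ c.π.app j.left ≫ (θ j).inv)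
      naturality := fun j k f => (yon S).map_injective (by
        show (yon S).map (𝟙 _ ≫ _) = (yon S).map (_ ≫ F.map f)
        simp [F]) }
  let cs : Cone F → Cone (Over.forget i₂ ⋙ D) := fun s => Cone.mk ((yon S).obj s.pt)
    { app := fun j => (yon S).map (s.π.app j) ≫ (θ j).hom
      naturality := fun j k f => by
        show 𝟙 _ ≫ _ = (_ ≫ _) ≫ D.map f.left
        rw [Category.id_comp, Category.assoc, ← hFm f, ← Functor.map_comp_assoc, s.w f] }
  have hcF : IsLimit cF :=
    { lift := fun s => (yon S).preimage (hc'.lift (cs s) ≫ e₀.inv)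
      fac := fun s j => (yon S).map_injective (by
        simp only [cF, Functor.map_comp, Functor.map_preimage, Category.assoc, Iso.inv_hom_id_assoc]
        rw [← Category.assoc, show hc'.lift (cs s) ≫ c.π.app j.left = _ from hc'.fac (cs s) j]
        simp [cs])
      uniq := fun s n hn => (yon S).map_injective (by
        rw [Functor.map_preimage, Iso.eq_comp_inv]
        refine hc'.uniq (cs s) _ fun j => ?_
        show (_ ≫ e₀.hom) ≫ c.π.app j.left = (yon S).map (s.π.app j) ≫ (θ j).hom
        rw [← hn j]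
        simp [cF]) }
  have hcF' := isLimitOfPreserves (Over.forget S) hcF
  have hqc₂ : IsQuasiCompactSp (D.obj i₂) ∧ IsQuasiSeparatedSp (D.obj i₂) :=
    qcqs_of_affine (hD _) (hD i₁) ((isAffineMor_iff_repWith _).1 (hDa _ _ f₂)) hqc (hqs i₁)
  have hjq : ∀ j : Over i₂, IsQuasiCompactSp (D.obj j.left) := fun j =>
    (qcqs_of_affine (hD _) (hD i₂) ((isAffineMor_iff_repWith _).1 (hDa _ _ j.hom)) hqc₂.1 (hqs i₂)).1
  have : ∀ j, CompactSpace ((F ⋙ Over.forget S).obj j) := fun j =>
    compactSpace_of_sp (qc_of_iso (IsAlgSpace.yon_obj _) (hD _) (θ j) (hjq j))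
  have : ∀ j, QuasiSeparatedSpace ((F ⋙ Over.forget S).obj j) := fun j =>
    quasiSeparatedSpace_of_sp (qs_of_iso (θ j) (hqs _))
  have : ∀ {j k : Over i₂} (f : j ⟶ k), IsAffineHom ((F ⋙ Over.forget S).map f) := fun {j k} f => by
    have hr : RepWith @IsAffineHom ((yon S).map (F.map f)) := by
      have : (yon S).map (F.map f) = (θ j).hom ≫ D.map f.left ≫ (θ k).inv := by simp [F]
      rw [this]
      exact (repWith_iso_comp_iff (θ j).hom _).2
        ((repWith_comp_iso_iff _ (θ k).inv).2 ((isAffineMor_iff_repWith _).1 (hDa _ _ f.left)))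
    exact (repWith_yon_iff (F.map f)).1 hr
  have : IsAffine ((Over.forget S).mapCone cF).pt := ‹IsAffine T.left›
  obtain ⟨j, hj⟩ := Scheme.exists_isAffine_of_isLimit _ _ hcF'
  refine ⟨j.left, fun i φ => ?_⟩
  let l : Over i₂ := Over.mk (φ ≫ j.hom)
  have : IsAffine ((F ⋙ Over.forget S).obj j) := hj
  exact ⟨F.obj l, isAffine_of_isAffineHom ((F ⋙ Over.forget S).map (Over.homMk φ rfl : l ⟶ j)), ⟨θ l⟩⟩

end Groth.Agent.SpDesc
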