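import Groth.Agent.SpDesc.SepStage
import Groth.Agent.SpDesc.Results
import Groth.Agent.SchImg.LimOpen

/-!
# If a limit is separated over a quasi-separated space, so are the stages
-/

set_option autoImplicit false

universe u

open CategoryTheory CategoryTheory.Limits AlgebraicGeometry

set_option backward.isDefEq.respectTransparency false

namespace Groth.Agent.SpDesc

open _root_.AlgSp Groth.Agent.AlgSpLib Groth.Agent.SchImg

variable {S : Scheme.{u}}

theorem isSeparatedMor_of_comp_mono {X U Y : Sp S} {f : X ⟶ U} (ι : U ⟶ Y) [Mono ι]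
    (h : IsSeparatedMor (f ≫ ι)) : IsSeparatedMor f := by
  let m : pullback f f ⟶ pullback (f ≫ ι) (f ≫ ι) :=
    pullback.map _ _ _ _ (𝟙 X) (𝟙 X) ι (by simp) (by simp)
  have : IsIso m := ⟨pullback.lift (pullback.fst _ _) (pullback.snd _ _)
    (by rw [← cancel_mono ι, Category.assoc, Category.assoc, pullback.condition]),
    by apply pullback.hom_ext <;> simp [m], by apply pullback.hom_ext <;> simp [m]⟩
  have e : pullback.diagonal (f ≫ ι) = pullback.diagonal f ≫ m := by apply pullback.hom_ext <;> simp [m]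
  rw [IsSeparatedMor, e] at h
  exact (repWith_comp_iso_iff _ m).1 h

/-- separatedness may be checked after an etale surjective base change -/
theorem isSeparatedMor_of_baseChange {X Y X' Y' : Sp S} (hX : IsAlgSpace X) (hY : IsAlgSpace Y)
    (hX' : IsAlgSpace X') (hY' : IsAlgSpace Y') {f : X ⟶ Y} {g : Y' ⟶ Y} {q : X' ⟶ X} {p : X' ⟶ Y'}
    (sq : IsPullback q p f g) (hge : RepWith @Etale g) (hgs : RepWith @Surjective g) (hp : IsSeparatedMor p) :
    IsSeparatedMor f := by
  have hR' := isAlgSpace_of_isPullback_space hY' hX' hX' (IsPullback.of_hasPullback p p)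
  have hR := isAlgSpace_of_isPullback_space hY hX hX (IsPullback.of_hasPullback f f)
  obtain ⟨W, w, hwe, hws⟩ := hR'.atlas
  obtain ⟨C, a, k, sqC, hk⟩ := exists_repWith hp w
  exact repWith_of_chart @IsClosedImmersion hR (repWith_diagonal f (repWith_diag_lft hX)).1
    (repWith_comp hwe (repWith_baseChange (isPullback_pairMap sq).flip hge))
    (repWith_comp hws (repWith_baseChange (isPullback_pairMap sq).flip hgs))
    (sqC.paste_horiz (isPullback_pairMap_diagonal sq)) hk

set_option maxHeartbeats 1000000 in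
theorem exists_eventually_separated {I : Type u} [SmallCategory I] [IsCofiltered I] [QuasiSeparatedSpace ↥S]
    (D : I ⥤ Sp S) (hD : ∀ i, IsAlgSpace (D.obj i)) (hDa : ∀ (i j : I) (φ : i ⟶ j), IsAffineMor (D.map φ))
    (c : Cone D) (hc : IsLimit c) (hqc : ∀ i, IsQuasiCompactSp (D.obj i))
    (hqs : ∀ i, IsQuasiSeparatedSp (D.obj i)) {Y : Sp S} (hY : IsAlgSpace Y) (hYs : IsQuasiSeparatedSp Y)
    (τ : ∀ i, D.obj i ⟶ Y) (hτ : ∀ {i j : I} (f : i ⟶ j), D.map f ≫ τ j = τ i)
    (i₁ : I) (hsep : IsSeparatedMor (c.π.app i₁ ≫ τ i₁)) :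
    ∃ i₀ : I, ∀ (i : I) (_ : i ⟶ i₀), IsSeparatedMor (τ i) := by
  classical
  have hX := isAlgSpace_lim D hD hDa c hc
  have := compactSpace_of_isQuasiCompactSp (hqc i₁)
  -- a quasi-compact open of the base containing the image
  choose B hB hBc hxB hBA using fun x : Points (D.obj i₁) =>
    S10179.result ⟨Y, hY⟩ (Points.map (τ i₁) x) Set.univ isOpen_univ trivial
  obtain ⟨s, hs⟩ := (isCompact_univ (X := Points (D.obj i₁))).elim_finite_subcover
    (fun x => Points.map (τ i₁) ⁻¹' B x) (fun x => (hB x).preimage (Points.continuous_map _))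
    (fun x _ => Set.mem_iUnion.2 ⟨x, hxB x⟩)
  have hA : IsOpen (⋃ x ∈ s, B x) := isOpen_biUnion fun x _ => hB x
  have hAc : IsCompact (⋃ x ∈ s, B x) := s.finite_toSet.isCompact_biUnion fun x _ => hBc x
  have hιi : RepWith @IsImmersion (subInc (⋃ x ∈ s, B x)) := repWith_mono (P := @IsOpenImmersion) (Q := @IsImmersion)
    (fun _ _ g hg => have : IsOpenImmersion g := hg; inferInstance) (repWith_subInc hA)
  have : Mono (subInc (⋃ x ∈ s, B x)) := mono_of_repWith_immersion hιi
  have hU := isAlgSpace_subSheaf hY hA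
  obtain ⟨τ₁, hτ₁⟩ := (exists_factor_iff hU hY _ (repWith_subInc hA) (τ i₁)).2 (by
    rw [range_subInc]
    rintro _ ⟨x, rfl⟩
    simpa using hs (Set.mem_univ x))
  obtain ⟨hei, -⟩ := immersion_topology hY hιi
  have : CompactSpace (Points (subSheaf (⋃ x ∈ s, B x))) :=
    ⟨hei.isCompact_iff.2 (by rwa [Set.image_univ, range_subInc])⟩
  obtain ⟨V, p, hV, hpe, hps⟩ := exists_affine_chart_of_compact hU
  have hUs : IsQuasiSeparatedSp (subSheaf (⋃ x ∈ s, B x)) := isQuasiSeparatedSp_of_mor
    (ValLib.isQuasiSeparatedMor_of_separated _ (UnivInjMor.isSeparatedMor_of_mono (subInc (⋃ x ∈ s, B x)))) hYs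
  have hVs : IsQuasiSeparatedSp ((yon S).obj V) :=
    (repWith_diag_yon_iff @QuasiCompact V).2 (inferInstanceAs (QuasiCompact (pullback.diagonal V.hom)))
  -- the system over the chart
  let τ' : ∀ l : Over i₁, D.obj l.left ⟶ subSheaf (⋃ x ∈ s, B x) := fun l => D.map l.hom ≫ τ₁
  have hτ'w : ∀ {l k : Over i₁} (f : l ⟶ k), τ' l = D.map f.left ≫ τ' k := fun {l k} f => by
    simp only [τ', ← Over.w f, D.map_comp, Category.assoc]
  let E : Over i₁ ⥤ Sp S :=
    { obj := fun l => pullback (τ' l) p
      map := fun {l k} f => pullback.map _ _ _ _ (D.map f.left) (𝟙 _) (𝟙 _) (by simp [hτ'w f]) (by simp)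
      map_id := fun l => by apply pullback.hom_ext <;> simp
      map_comp := fun f g => by apply pullback.hom_ext <;> simp }
  have hEf : ∀ {l k : Over i₁} (f : l ⟶ k), E.map f ≫ pullback.fst (τ' k) p = pullback.fst (τ' l) p ≫ D.map f.left :=
    fun f => pullback.lift_fst _ _ _
  have hEs : ∀ {l k : Over i₁} (f : l ⟶ k), E.map f ≫ pullback.snd (τ' k) p = pullback.snd (τ' l) p :=
    fun f => (pullback.lift_snd _ _ _).trans (Category.comp_id _)
  have hE : ∀ l, IsAlgSpace (E.obj l) := fun l =>
    isAlgSpace_of_isPullback_space hU (hD l.left) (IsAlgSpace.yon_obj V) (IsPullback.of_hasPullback (τ' l) p)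
  have hEa : ∀ (l k : Over i₁) (f : l ⟶ k), IsAffineMor (E.map f) := fun l k f =>
    (isAffineMor_iff_repWith _).2 (repWith_baseChange (fst := pullback.fst (τ' l) p)
      (IsPullback.of_bot (by rw [hEs f, ← hτ'w f]; exact (IsPullback.of_hasPullback (τ' l) p).flip.flip) (hEf f).symm
        (IsPullback.of_hasPullback (τ' k) p)) ((isAffineMor_iff_repWith _).1 (hDa _ _ f.left)))
  have hEq : ∀ l, IsQuasiCompactSp (E.obj l) ∧ IsQuasiSeparatedSp (E.obj l) := fun l =>
    SpQS.qcqs_of_isPullback (hD l.left) hU (IsAlgSpace.yon_obj V) (IsPullback.of_hasPullback (τ' l) p)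
      (hqc _) (hqs _) hUs (isQuasiCompactSp_yon V) hVs
  let t : Over i₁ := Over.mk (𝟙 i₁)
  let hc' := (Functor.Initial.isLimitWhiskerEquiv (Over.forget i₁) c).symm hc
  let g' : c.pt ⟶ subSheaf (⋃ x ∈ s, B x) := c.π.app i₁ ≫ τ₁
  have hg' : ∀ l : Over i₁, g' = c.π.app l.left ≫ τ' l := fun l => by
    simp only [g', τ', ← Category.assoc, c.w]
  let cE : Cone E := Cone.mk (pullback g' p)
    { app := fun l => pullback.map g' p (τ' l) p (c.π.app l.left) (𝟙 _) (𝟙 _) (by simp [hg' l]) (by simp)
      naturality := fun l k f => by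
        show 𝟙 _ ≫ _ = _ ≫ E.map f
        apply pullback.hom_ext <;> simp [hEf f, hEs f] }
  have hsnd : ∀ (σ : Cone E) (l : Over i₁), σ.π.app l ≫ pullback.snd (τ' l) p = σ.π.app t ≫ pullback.snd (τ' t) p :=
    fun σ l => by
      rw [← σ.w (Over.homMk l.hom (by simp [t]) : l ⟶ t), Category.assoc, hEs]
  let cs : Cone E → Cone (Over.forget i₁ ⋙ D) := fun σ => Cone.mk σ.pt
    { app := fun l => σ.π.app l ≫ pullback.fst (τ' l) p
      naturality := fun l k f => by
        show 𝟙 _ ≫ _ = (_ ≫ _) ≫ D.map f.left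
        rw [Category.id_comp, ← σ.w f, Category.assoc, hEf f, Category.assoc] }
  have hcE : IsLimit cE :=
    { lift := fun σ => pullback.lift (hc'.lift (cs σ)) (σ.π.app t ≫ pullback.snd (τ' t) p) (by
        rw [hg' t, ← Category.assoc, show hc'.lift (cs σ) ≫ c.π.app t.left = _ from hc'.fac (cs σ) t]
        simp only [cs, Category.assoc, pullback.condition])
      fac := fun σ l => by
        apply pullback.hom_ext
        · simp only [cE, Category.assoc, pullback.lift_fst]
          rw [pullback.lift_fst_assoc]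
          exact hc'.fac (cs σ) l
        · simp only [cE, Category.assoc, pullback.lift_snd, Category.comp_id]
          exact (hsnd σ l).symm
      uniq := fun σ m hm => by
        apply pullback.hom_ext
        · rw [pullback.lift_fst]
          refine hc'.hom_ext fun l => ?_
          rw [hc'.fac]
          show (m ≫ _) ≫ c.π.app l.left = σ.π.app l ≫ pullback.fst (τ' l) p
          rw [← hm l]
          simp [cE]
        · rw [pullback.lift_snd, ← hm t]
          simp [cE] }
  have hgs : IsSeparatedMor g' :=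
    isSeparatedMor_of_comp_mono (subInc (⋃ x ∈ s, B x)) (by simpa only [g', Category.assoc, hτ₁] using hsep)
  have hsep' : IsSeparatedMor (cE.π.app t ≫ pullback.snd (τ' t) p) := by
    have : cE.π.app t ≫ pullback.snd (τ' t) p = pullback.snd g' p :=
      (pullback.lift_snd _ _ _).trans (Category.comp_id _)
    rw [this]
    exact isSeparatedMor_baseChange (IsPullback.of_hasPullback g' p) hgs
  obtain ⟨j, hj⟩ := exists_stage_separated_affine E hE hEa cE hcE t (hEq t).1 (fun l => (hEq l).2)
    (fun l => pullback.snd (τ' l) p) (fun f => hEs f) hsep'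
  refine ⟨j.left, fun i φ => ?_⟩
  let l : Over i₁ := Over.mk (φ ≫ j.hom)
  have h := isSeparatedMor_of_baseChange (hD l.left) hU (hE l) (IsAlgSpace.yon_obj V)
    (IsPullback.of_hasPullback (τ' l) p) hpe hps (hj l (Over.homMk φ rfl))
  have h2 := isSeparatedMor_comp h (UnivInjMor.isSeparatedMor_of_mono (subInc (⋃ x ∈ s, B x)))
  simp only [τ', Category.assoc, hτ₁, hτ] at h2
  exact h2

end Groth.Agent.SpDesc
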