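import Groth.Agent.SpDesc.Results
import Groth.Agent.SpApprox.AbsProper
import Groth.Agent.LimProper.Main

/-!
Properness descends along cofiltered limits of algebraic spaces with affine transition maps.
-/

set_option autoImplicit false
set_option linter.style.haveILetI false
set_option backward.isDefEq.respectTransparency false

universe u

noncomputable section

open CategoryTheory CategoryTheory.Limits AlgebraicGeometry

namespace Groth.Agent.SpDesc

open _root_.AlgSp Groth.Agent.AlgSpLib Groth.Agent.SchImg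

variable {S : Scheme.{u}}

theorem descends_univClosed : Descends.{u} @LocallyOfFiniteType @UniversallyClosed :=
  descends_of_over fun {I} _ _ D c hc _ i₀ _ _ {X₀ Y₀} f₀ g₀ _ _ _ _ hQ {X Y} f g qY qX hg hY hX hP => by
    haveI : LocallyOfFiniteType f₀ := hQ
    haveI : UniversallyClosed f := hP
    haveI : QuasiCompact f₀ := inferInstance
    obtain ⟨j, hj⟩ := LimProper.exists_universallyClosed D c hc f₀ g₀ hY hX
    exact ⟨j.left, j.hom, _, _, LimDesc.stageMap D g₀ f₀ j, LimDesc.toStage D g₀ j, LimDesc.toBase D g₀ j, _,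
      LimDesc.isPullback_stage D g₀ j, LimDesc.isPullback_stageMap D g₀ f₀ j, hj⟩

theorem universallyClosed_of_yon {U V : Over S} {m : U ⟶ V} (h : IsUnivClosedMor ((yon S).map m)) :
    UniversallyClosed m.left :=
  (repWith_yon_iff m).1 ((isUnivClosedMor_iff_repWith ((repWith_yon_iff (P := ⊤) m).2 trivial).1).1 h)

theorem isUnivClosedMor_of_yon {U V : Over S} {m : U ⟶ V} (h : UniversallyClosed m.left) :
    IsUnivClosedMor ((yon S).map m) :=
  (isUnivClosedMor_iff_repWith ((repWith_yon_iff (P := ⊤) m).2 trivial).1).2 ((repWith_yon_iff m).2 h)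

theorem isUnivClosedMor_baseChange {X Y X' Y' : Sp S} {f : X ⟶ Y} {g : Y' ⟶ Y} {pX : X' ⟶ X} {f' : X' ⟶ Y'}
    (sq : IsPullback pX f' f g) (h : IsUnivClosedMor f) : IsUnivClosedMor f' :=
  fun _Z _P hZ a _ _ sq' => h hZ (a ≫ g) _ _ (sq'.paste_horiz sq)

section

variable {I : Type u} [SmallCategory I] [IsCofiltered I] (D : I ⥤ Sp S)
  (hD : ∀ i, IsAlgSpace (D.obj i)) (hDa : ∀ (i j : I) (φ : i ⟶ j), IsAffineMor (D.map φ))
  (c : Cone D) (hc : IsLimit c) (i₀ : I) {X₀ Y₀ : Sp S} (hX₀ : IsAlgSpace X₀) (hY₀ : IsAlgSpace Y₀)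
  (f₀ : X₀ ⟶ Y₀) (b₀ : Y₀ ⟶ D.obj i₀)
variable [QuasiSeparatedSpace ↥S] (hXqc : IsQuasiCompactSp X₀) (hXqs : IsQuasiSeparatedSp X₀)
  (hYqc : IsQuasiCompactSp Y₀) (hYqs : IsQuasiSeparatedSp Y₀)

include hDa hc hX₀ hY₀ hD hXqc hXqs hYqc hYqs in
theorem atStage_univClosed (hlft : LocP @LocallyOfFiniteType f₀) {X Y : Sp S} {f : X ⟶ Y} {pY : Y ⟶ Y₀}
    {qY : Y ⟶ c.pt} (hY : IsPullback pY qY b₀ (c.π.app i₀)) {pX : X ⟶ X₀} (hX : IsPullback pX f f₀ pY)
    (hf : IsUnivClosedMor f) :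
    AtStage D i₀ f₀ b₀ (fun _ _ g => IsUnivClosedMor g) := by
  classical
  haveI := compactSpace_of_isQuasiCompactSp hYqc
  obtain ⟨V, q, hV, hqe, hqs⟩ := exists_affine_chart_of_compact hY₀
  have hVs : IsQuasiSeparatedSp ((yon S).obj V) := ElemSq.isQuasiSeparatedSp_yon hV
  have sqP := IsPullback.of_hasPullback f₀ q
  let P₀ : Space S := ⟨pullback f₀ q, isAlgSpace_of_isPullback_space hY₀ hX₀ (IsAlgSpace.yon_obj V) sqP⟩
  obtain ⟨hPc, hPs⟩ := SpQS.qcqs_of_isPullback hX₀ hY₀ (IsAlgSpace.yon_obj V) sqP hXqc hXqs hYqs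
    (isQuasiCompactSp_yon V) hVs
  obtain ⟨U₁, p₁, hp₁, hp₁s⟩ := P₀.property.atlas
  obtain ⟨Z, g, hg, hgs, -, -⟩ := SpApprox.exists_cover_fp P₀ hPc hPs U₁ p₁ hp₁ hp₁s
  have hgP : IsProperMor g := SpApprox.finMor_props (IsAlgSpace.yon_obj Z) P₀.property ((isFiniteMor_iff_repWith _).1 hg)
  haveI : CompactSpace Z.left :=
    compactSpace_of_sp (hgP.2.1.2 P₀.property hPc (𝟙 _) (𝟙 _) g (IsPullback.of_horiz_isIso ⟨by simp⟩))
  haveI : QuasiSeparatedSpace Z.left := quasiSeparatedSpace_of_sp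
    (isQuasiSeparatedSp_of_mor (ValLib.isQuasiSeparatedMor_of_separated g hgP.1) hPs)
  obtain ⟨h, hh⟩ := exists_map_eq (g ≫ pullback.snd f₀ q)
  have hhl : LocallyOfFiniteType h.left := by
    have hr := (repWith_yon_iff (P := ⊤) h).2 trivial
    refine (repWith_yon_iff h).1 ((locP_iff_repWith etST_lft (IsAlgSpace.yon_obj V) hr.1).1 ?_)
    rw [hh]
    exact locP_comp etST_lft P₀.property (IsAlgSpace.yon_obj V) hgP.2.1.1
      (locP_baseChange etST_lft hX₀ hY₀ P₀.property (IsAlgSpace.yon_obj V) sqP hlft)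
  have comm : (g ≫ pullback.fst f₀ q) ≫ f₀ = (yon S).map h ≫ q := by
    rw [hh, Category.assoc, Category.assoc, sqP.w]
  refine exists_stage_of_chart D hDa c hc i₀ f₀ b₀ descends_univClosed comm hhl hY hX
    (fun U' W r v s a b sqU e sqb sqa => universallyClosed_of_yon ?_) _
    fun i Xi Yi fi φ pYi qYi pXi hYi hXi Ui Vi ri vi si a b sqU e sqb sqa hsi => ?_
  · have sqW := IsPullback.of_hasPullback f b
    let PW := pullback f b
    let m : PW ⟶ P₀.obj := pullback.lift (pullback.fst f b ≫ pX) (pullback.snd f b ≫ (yon S).map v) (by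
      rw [Category.assoc, hX.w, ← Category.assoc, sqW.w, Category.assoc, Category.assoc, sqb.w])
    have hm1 : m ≫ pullback.fst f₀ q = pullback.fst f b ≫ pX := pullback.lift_fst _ _ _
    have hm2 : m ≫ pullback.snd f₀ q = pullback.snd f b ≫ (yon S).map v := pullback.lift_snd _ _ _
    have sq1 : IsPullback (pullback.fst f b ≫ pX) (pullback.snd f b) f₀ ((yon S).map v ≫ q) := by
      have := sqW.paste_horiz hX
      rwa [← sqb.w] at this
    have sqm : IsPullback m (pullback.snd f b) (pullback.snd f₀ q) ((yon S).map v) :=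
      IsPullback.of_right (by rw [hm1]; exact sq1) hm2 sqP
    let ss : (yon S).obj U' ⟶ PW := sqm.lift ((yon S).map r ≫ g) ((yon S).map s) (by
      rw [Category.assoc, ← hh]
      exact (isPullback_yon_iff.2 sqU).w)
    have e1 : ss ≫ pullback.snd f b = (yon S).map s := sqm.lift_snd _ _ _
    have sqs : IsPullback ((yon S).map r) ss g m := by
      refine IsPullback.of_bot ?_ (sqm.lift_fst _ _ _).symm sqm
      rw [e1, ← hh]
      exact isPullback_yon_iff.2 sqU
    rw [← e1]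
    exact isUnivClosedMor_comp
      (isAlgSpace_of_isPullback_space (IsAlgSpace.yon_obj V) P₀.property (IsAlgSpace.yon_obj W) sqm)
      (IsAlgSpace.yon_obj W) (isUnivClosedMor_baseChange sqs hgP.2.2) (isUnivClosedMor_baseChange sqW hf)
  · have hYi' := isAlgSpace_of_isPullback_space (hD i₀) hY₀ (hD i) hYi
    have hXi' := isAlgSpace_of_isPullback_space hY₀ hX₀ hYi' hXi
    have hbe : RepWith @Etale b := repWith_baseChange sqb hqe
    have hbs : RepWith @Surjective b := repWith_baseChange sqb hqs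
    have sqW := IsPullback.of_hasPullback fi b
    let m : pullback fi b ⟶ P₀.obj := pullback.lift (pullback.fst fi b ≫ pXi) (pullback.snd fi b ≫ (yon S).map vi) (by
      rw [Category.assoc, hXi.w, ← Category.assoc, sqW.w, Category.assoc, Category.assoc, sqb.w])
    have hm1 : m ≫ pullback.fst f₀ q = pullback.fst fi b ≫ pXi := pullback.lift_fst _ _ _
    have hm2 : m ≫ pullback.snd f₀ q = pullback.snd fi b ≫ (yon S).map vi := pullback.lift_snd _ _ _
    have sq1 : IsPullback (pullback.fst fi b ≫ pXi) (pullback.snd fi b) f₀ ((yon S).map vi ≫ q) := by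
      have := sqW.paste_horiz hXi
      rwa [← sqb.w] at this
    have sqm : IsPullback m (pullback.snd fi b) (pullback.snd f₀ q) ((yon S).map vi) :=
      IsPullback.of_right (by rw [hm1]; exact sq1) hm2 sqP
    let ss : (yon S).obj Ui ⟶ pullback fi b := sqm.lift ((yon S).map ri ≫ g) ((yon S).map si) (by
      rw [Category.assoc, ← hh]
      exact (isPullback_yon_iff.2 sqU).w)
    have e1 : ss ≫ pullback.snd fi b = (yon S).map si := sqm.lift_snd _ _ _
    have sqs : IsPullback ((yon S).map ri) ss g m := by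
      refine IsPullback.of_bot ?_ (sqm.lift_fst _ _ _).symm sqm
      rw [e1, ← hh]
      exact isPullback_yon_iff.2 sqU
    have hcl : IsUnivClosedMor (pullback.snd fi b) :=
      SpApprox.isUnivClosedMor_of_surjective_comp (isSurjectiveMor_baseChange sqs hgs)
        (by rw [e1]; exact isUnivClosedMor_of_yon hsi)
    exact (isLocalOnBase_isUnivClosedMor (fun _ : PUnit.{u + 1} => (yon S).obj Vi) (fun _ => b) hYi'
      (fun _ => IsAlgSpace.yon_obj _) (isFpqcCover_chart hYi' hbe hbs) fi hXi' (fun _ => pullback fi b)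
      (fun _ => pullback.snd fi b) (fun _ => pullback.fst fi b)
      (fun _ => isAlgSpace_of_isPullback_space hYi' hXi' (IsAlgSpace.yon_obj Vi) sqW)
      (fun _ => sqW)).2 fun _ => hcl

include hDa hc hX₀ hY₀ hD hXqc hXqs hYqc hYqs in
theorem atStage_proper (hlft : LocP @LocallyOfFiniteType f₀) {X Y : Sp S} {f : X ⟶ Y} {pY : Y ⟶ Y₀}
    {qY : Y ⟶ c.pt} (hY : IsPullback pY qY b₀ (c.π.app i₀)) {pX : X ⟶ X₀} (hX : IsPullback pX f f₀ pY)
    (hf : IsProperMor f) :
    AtStage D i₀ f₀ b₀ (fun _ _ g => IsProperMor g) := by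
  obtain ⟨i₁, φ₁, H₁⟩ := atStage_separated D hD hDa c hc i₀ hX₀ hY₀ f₀ b₀ hXqc hXqs hYqc hYqs hY hX hf.1
  obtain ⟨i₂, φ₂, H₂⟩ :=
    atStage_univClosed D hD hDa c hc i₀ hX₀ hY₀ f₀ b₀ hXqc hXqs hYqc hYqs hlft hY hX hf.2.2
  obtain ⟨i, a, e, hae⟩ : ∃ (i : I) (a : i ⟶ i₁) (e : i ⟶ i₂), a ≫ φ₁ = e ≫ φ₂ := by
    obtain ⟨k, a', e', -⟩ := IsCofilteredOrEmpty.cone_objs i₁ i₂
    obtain ⟨l, w, hw⟩ := IsCofilteredOrEmpty.cone_maps (a' ≫ φ₁) (e' ≫ φ₂)
    exact ⟨l, w ≫ a', w ≫ e', by rw [Category.assoc, Category.assoc]; exact hw⟩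
  refine ⟨i, a ≫ φ₁, fun Xi Yi fi pYi qYi hYi pXi hXi => ?_⟩
  have hYi' := isAlgSpace_of_isPullback_space (hD i₀) hY₀ (hD i) hYi
  have hXi' := isAlgSpace_of_isPullback_space hY₀ hX₀ hYi' hXi
  have base : ∀ {k : I} (ψ : k ⟶ i₀) (m : i ⟶ k), m ≫ ψ = a ≫ φ₁ →
      ∃ (lY : Yi ⟶ pullback b₀ (D.map ψ)) (lX : Xi ⟶ pullback f₀ (pullback.fst b₀ (D.map ψ))),
        IsPullback lX fi (pullback.snd f₀ (pullback.fst b₀ (D.map ψ))) lY := by
    intro k ψ m hm
    let lY : Yi ⟶ pullback b₀ (D.map ψ) := pullback.lift pYi (qYi ≫ D.map m) (by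
      rw [Category.assoc, ← D.map_comp, hm]; exact hYi.w)
    have hlY : lY ≫ pullback.fst b₀ (D.map ψ) = pYi := pullback.lift_fst _ _ _
    have sqX := IsPullback.of_hasPullback f₀ (pullback.fst b₀ (D.map ψ))
    let lX := sqX.lift pXi (fi ≫ lY) (by rw [Category.assoc, hlY]; exact hXi.w)
    exact ⟨lY, lX, IsPullback.of_right (by rw [sqX.lift_fst, hlY]; exact hXi) (sqX.lift_snd _ _ _) sqX⟩
  refine ⟨?_, ⟨locP_baseChange etST_lft hX₀ hY₀ hXi' hYi' hXi hlft, ?_⟩, ?_⟩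
  · obtain ⟨lY, lX, sq⟩ := base φ₁ a rfl
    exact isSeparatedMor_baseChange sq (H₁ _ _ _ _ _ (IsPullback.of_hasPullback _ _) _ (IsPullback.of_hasPullback _ _))
  · have haY : RepWith @IsAffineHom pYi :=
      repWith_baseChange hYi.flip ((isAffineMor_iff_repWith _).1 (hDa i i₀ (a ≫ φ₁)))
    obtain ⟨-, hYs⟩ := qcqs_of_affine hYi' hY₀ haY hYqc hYqs
    obtain ⟨hXc, -⟩ := qcqs_of_affine hXi' hX₀ (repWith_baseChange hXi.flip haY) hXqc hXqs
    exact SpQS.isQuasiCompactMor_of_qc_qs hXi' hYi' _ hXc hYs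
  · obtain ⟨lY, lX, sq⟩ := base φ₂ e hae.symm
    exact isUnivClosedMor_baseChange sq (H₂ _ _ _ _ _ (IsPullback.of_hasPullback _ _) _ (IsPullback.of_hasPullback _ _))

end

end Groth.Agent.SpDesc
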