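import Groth.Agent.SpDesc.ClosedTower
import Groth.Agent.SpQS.Basic
import Groth.Agent.UnivInjMor.MonoUnram
import Groth.Agent.ValLib.DvrFrom

/-!
# Composites with the projections of a limit are eventually monomorphisms
-/

set_option autoImplicit false

universe u

open CategoryTheory CategoryTheory.Limits AlgebraicGeometry

set_option backward.isDefEq.respectTransparency false

namespace Groth.Agent.SpDesc

open _root_.AlgSp Groth.Agent.AlgSpLib Groth.Agent.SchImg

variable {S : Scheme.{u}}

theorem lft_cancel {X Y Z : Sp S} (hY : IsAlgSpace Y) (hX : IsAlgSpace X) {f : X ⟶ Y} {g : Y ⟶ Z}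
    (hZ : IsAlgSpace Z) (h : LocP @LocallyOfFiniteType (f ≫ g)) : LocP @LocallyOfFiniteType f :=
  locP_cancel etST_lft (Q := ⊤) (fun _ _ _ f' g' _ (h : LocallyOfFiniteType (f' ≫ g')) => locallyOfFiniteType_of_comp f' g')
    hZ h (fun _ _ _ _ _ _ _ _ => trivial)

theorem repWith_diag_of_affineHom {X Y : Sp S} (hX : IsAlgSpace X) (hY : IsAlgSpace Y) {a : X ⟶ Y}
    (ha : RepWith @IsAffineHom a) : RepWith @IsClosedImmersion (pullback.diagonal a) :=
  (isSeparatedMor_iff_repWith hX hY ha.1).2 (repWith_mono (fun _ _ r hr => by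
    have : IsAffineHom r := hr
    infer_instance) ha)

theorem repWith_map_of_diag {X Y Z : Sp S} (f : X ⟶ Y) (h : X ⟶ Z) {d : Y ⟶ Z} (e : h = f ≫ d)
    (hd : RepWith @IsClosedImmersion (pullback.diagonal d)) :
    RepWith @IsClosedImmersion
      (pullback.map f f h h (𝟙 X) (𝟙 X) d (by simp [e]) (by simp [e])) := by
  subst e
  exact repWith_baseChange (pullback_map_diagonal_isPullback f f d) hd

set_option maxHeartbeats 1000000 in
theorem exists_eventually_mono {I : Type u} [SmallCategory I] [IsCofiltered I] [QuasiSeparatedSpace ↥S]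
    (D : I ⥤ Sp S) (hD : ∀ i, IsAlgSpace (D.obj i)) (hDa : ∀ (i j : I) (φ : i ⟶ j), IsAffineMor (D.map φ))
    (c : Cone D) (hc : IsLimit c) {Y : Sp S} (hY : IsAlgSpace Y) (hYq : IsQuasiCompactSp Y)
    (y : Y ⟶ c.pt) [Mono y] (i₁ : I) (hqs : IsQuasiSeparatedSp (D.obj i₁))
    (hlft : LocP @LocallyOfFiniteType (y ≫ c.π.app i₁)) :
    ∃ i₀ : I, ∀ (i : I) (_ : i ⟶ i₀), Mono (y ≫ c.π.app i) := by
  have hL := isAlgSpace_lim D hD hDa c hc
  have hπ : RepWith @IsAffineHom (c.π.app i₁) :=
    (isAffineMor_iff_repWith _).1 (repWith_affine_lim D hDa c hc i₁)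
  have hYs : IsQuasiSeparatedSp Y := isQuasiSeparatedSp_of_mor
    (isQuasiSeparatedMor_comp (ValLib.isQuasiSeparatedMor_of_separated y (UnivInjMor.isSeparatedMor_of_mono y))
      ((isQuasiSeparatedMor_iff_repWith hL (hD i₁) hπ.1).2 (repWith_mono (fun _ _ r hr => by
        have : IsAffineHom r := hr
        infer_instance) hπ))) hqs
  let g : ∀ j : Over i₁, Y ⟶ D.obj j.left := fun j => y ≫ c.π.app j.left
  have hg : ∀ {j k : Over i₁} (a : j ⟶ k), g k = g j ≫ D.map a.left := fun {j k} a => by
    simp only [g, Category.assoc, c.w a.left]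
  let R : Over i₁ ⥤ Sp S :=
    { obj := fun j => pullback (g j) (g j)
      map := fun {j k} a => pullback.map _ _ _ _ (𝟙 Y) (𝟙 Y) (D.map a.left) (by simp [hg a]) (by simp [hg a])
      map_id := fun j => by apply pullback.hom_ext <;> simp
      map_comp := fun a b => by apply pullback.hom_ext <;> simp }
  have hR : ∀ j, IsAlgSpace (R.obj j) := fun j =>
    isAlgSpace_of_isPullback_space (hD j.left) hY hY (IsPullback.of_hasPullback (g j) (g j))
  have hRc : ∀ (j k : Over i₁) (a : j ⟶ k), RepWith @IsClosedImmersion (R.map a) := fun j k a =>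
    repWith_map_of_diag (g j) (g k) (hg a)
      (repWith_diag_of_affineHom (hD _) (hD _) ((isAffineMor_iff_repWith _).1 (hDa _ _ a.left)))
  have hRf : ∀ {j k : Over i₁} (a : j ⟶ k), R.map a ≫ pullback.fst (g k) (g k) = pullback.fst (g j) (g j) :=
    fun {j k} a => (pullback.lift_fst _ _ _).trans (Category.comp_id _)
  have hRs : ∀ {j k : Over i₁} (a : j ⟶ k), R.map a ≫ pullback.snd (g k) (g k) = pullback.snd (g j) (g j) :=
    fun {j k} a => (pullback.lift_snd _ _ _).trans (Category.comp_id _)
  let cR : Cone R := Cone.mk Y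
    { app := fun j => pullback.diagonal (g j)
      naturality := fun j k a => by
        show 𝟙 Y ≫ pullback.diagonal (g k) = pullback.diagonal (g j) ≫ R.map a
        apply pullback.hom_ext <;> simp [hRf a, hRs a] }
  let t : Over i₁ := Over.mk (𝟙 i₁)
  have ht : ∀ j : Over i₁, Nonempty (j ⟶ t) := fun j => ⟨Over.homMk j.hom (by simp [t])⟩
  have hfst : ∀ (s : Cone R) (j : Over i₁), s.π.app j ≫ pullback.fst (g j) (g j) =
      s.π.app t ≫ pullback.fst (g t) (g t) ∧ s.π.app j ≫ pullback.snd (g j) (g j) =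
      s.π.app t ≫ pullback.snd (g t) (g t) := fun s j => by
    obtain ⟨a⟩ := ht j
    rw [← s.w a]
    simp only [Category.assoc, hRf a, hRs a, and_self]
  have hcR : IsLimit cR :=
    { lift := fun s => s.π.app t ≫ pullback.fst (g t) (g t)
      fac := fun s j => by
        have e : s.π.app t ≫ pullback.fst (g t) (g t) = s.π.app t ≫ pullback.snd (g t) (g t) := by
          rw [← cancel_mono y]
          refine ((Functor.Initial.isLimitWhiskerEquiv (Over.forget i₁) c).symm hc).hom_ext fun k => ?_
          show (_ ≫ y) ≫ c.π.app k.left = (_ ≫ y) ≫ c.π.app k.left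
          have h1 := (hfst s k).1
          have h2 := (hfst s k).2
          have h3 : (s.π.app t ≫ pullback.fst (g t) (g t)) ≫ g k = (s.π.app t ≫ pullback.snd (g t) (g t)) ≫ g k := by
            rw [← h1, ← h2, Category.assoc, Category.assoc, pullback.condition]
          simpa only [g, Category.assoc] using h3
        show _ ≫ pullback.diagonal (g j) = _
        apply pullback.hom_ext
        · simp [(hfst s j).1]
        · simp [(hfst s j).2, e]
      uniq := fun s m hm => by
        rw [← hm t]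
        show m = (m ≫ pullback.diagonal (g t)) ≫ _
        simp }
  obtain ⟨hRq, -⟩ := SpQS.qcqs_of_isPullback hY (hD i₁) hY (IsPullback.of_hasPullback (g t) (g t))
    hYq hYs hqs hYq hYs
  obtain ⟨j, hj⟩ := exists_isIso_closedTower R hR hRc cR hcR t hRq
    (diagonal_lfp hY (hD i₁) hlft).1
  refine ⟨j.left, fun i φ => ?_⟩
  let k : Over i₁ := Over.mk (φ ≫ j.hom)
  have : IsIso (pullback.diagonal (g k)) := hj k (Over.homMk φ rfl)
  exact (pullback.isIso_diagonal_iff (g k)).1 this

end Groth.Agent.SpDesc
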