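import Groth.Agent.SpDesc.StageImm
import Groth.Agent.SpDesc.EventMono
import Groth.Agent.SchImg.LimOpen
import Groth.Agent.FpqcDescent.Immersion

/-!
# Immersions into limits are eventually immersions into the stages
-/

set_option autoImplicit false

universe u

open CategoryTheory CategoryTheory.Limits AlgebraicGeometry

set_option backward.isDefEq.respectTransparency false

namespace Groth.Agent.SpDesc

open _root_.AlgSp Groth.Agent.AlgSpLib Groth.Agent.SchImg

variable {S : Scheme.{u}}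

theorem isPullback_of_mono_comp {C : Type*} [Category C] {P X Y Z Z' : C} {fst : P ⟶ X} {snd : P ⟶ Y}
    {f : X ⟶ Z} {g : Y ⟶ Z} (i : Z ⟶ Z') [Mono i] (h : IsPullback fst snd (f ≫ i) (g ≫ i)) :
    IsPullback fst snd f g := by
  have w : fst ≫ f = snd ≫ g := by rw [← cancel_mono i]; simpa using h.w
  exact ⟨⟨w⟩, ⟨PullbackCone.IsLimit.mk w (fun s => h.lift s.fst s.snd (by rw [s.condition_assoc]))
    (fun s => h.lift_fst _ _ _) (fun s => h.lift_snd _ _ _)
    (fun s m h₁ h₂ => h.hom_ext (h₁.trans (h.lift_fst _ _ _).symm) (h₂.trans (h.lift_snd _ _ _).symm))⟩⟩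

/-- stagewise version of a property of a map to a limit, over one chart -/
theorem exists_stage_rep {I : Type u} [SmallCategory I] [IsCofiltered I] (P : MorphismProperty Scheme.{u})
    [P.IsStableUnderBaseChange] [P.IsLocalAtTarget Scheme.etalePrecoverage]
    (Q : MorphismProperty Scheme.{u}) [Q.RespectsIso]
    (hcase : ∀ {J : Type u} [SmallCategory J] [IsCofiltered J] (E : J ⥤ Scheme.{u}) [∀ i, IsAffine (E.obj i)]
      (d : Cone E) (_ : IsLimit d) (o : J) {C : Scheme.{u}} (k : C ⟶ d.pt) (_ : Q k) (_ : CompactSpace C)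
      (_ : LocallyOfFiniteType (k ≫ d.π.app o)),
      ∃ j : J, Nonempty (j ⟶ o) ∧ ∀ (l : J) (_ : l ⟶ j), P (k ≫ d.π.app l))
    (D : I ⥤ Sp S) (hD : ∀ i, IsAlgSpace (D.obj i)) (hDa : ∀ (i j : I) (φ : i ⟶ j), IsAffineMor (D.map φ))
    (c : Cone D) (hc : IsLimit c) (i₁ : I) {U : Sp S} (ι : U ⟶ D.obj i₁) (hι : RepWith @IsOpenImmersion ι) [Mono ι]
    {V : Over S} [IsAffine V.left] (p : (yon S).obj V ⟶ U) (hpe : RepWith @Etale p) (hps : RepWith @Surjective p)
    {Y : Sp S} (hY : IsAlgSpace Y) (y : Y ⟶ c.pt) (hy : RepWith Q y)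
    (hC : ∀ {W C : Over S} [IsAffine W.left] (z : (yon S).obj W ⟶ c.pt) (a : (yon S).obj C ⟶ Y) (k : C ⟶ W),
      IsPullback a ((yon S).map k) y z → CompactSpace C.left)
    (y' : Y ⟶ U) (hy' : y' ≫ ι = y ≫ c.π.app i₁) (hlft : LocP @LocallyOfFiniteType (y ≫ c.π.app i₁)) :
    ∃ j : Over i₁, ∀ (l : Over i₁) (_ : l ⟶ j), RepWith P
      (pullback.lift (y ≫ c.π.app l.left) y' (by rw [hy', Category.assoc, c.w]) : Y ⟶ pullback (D.map l.hom) ι) := by
  have hrep : ∀ i, Representable (y ≫ c.π.app i) := fun i => (repWith_comp (P := ⊤)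
    (repWith_mono (fun _ _ _ _ => trivial) hy)
    (repWith_mono (fun _ _ _ _ => trivial) ((isAffineMor_iff_repWith _).1 (repWith_affine_lim D hDa c hc i)))).1
  obtain ⟨W, v, z, hW, sq, -, G, zz, vv, L, pp, e, ⟨hL⟩, hG, hpp, sqj, -, hzp, hvv, hpv⟩ :=
    exists_lim_square D (fun i j φ => (isAffineMor_iff_repWith _).1 (hDa i j φ)) c hc i₁ (p ≫ ι)
  obtain ⟨C, a, k, sqC, hk⟩ := exists_repWith hy z
  have hCc : CompactSpace C.left := hC z a k sqC
  have sqCv : IsPullback a ((yon S).map (k ≫ v)) (y ≫ c.π.app i₁) (p ≫ ι) := by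
    rw [Functor.map_comp]
    exact (sqC.flip.paste_horiz sq.flip).flip
  have hlv : LocallyOfFiniteType (k ≫ v).left :=
    ((locP_iff_repWith etST_lft (hD i₁) (hrep i₁)).1 hlft).2 _ _ _ sqCv
  have : ∀ i, IsAffine ((G ⋙ Over.forget S).obj i) := hG
  let k' : C.left ⟶ L.pt := k.left ≫ eqToHom e.symm
  have hk' : Q k' := (MorphismProperty.cancel_right_of_respectsIso Q _ _).2 hk
  have hkπ : ∀ j : Over i₁, k' ≫ L.π.app j = (k ≫ pp j).left := fun j => by
    simp only [k', Category.assoc, Over.comp_left, hpp]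
  let t : Over i₁ := Over.mk (𝟙 i₁)
  have hlk : LocallyOfFiniteType (k' ≫ L.π.app t) := by
    rw [hkπ]
    have : LocallyOfFiniteType ((k ≫ pp t).left ≫ (vv t).left) := by
      rw [← Over.comp_left, Category.assoc, hpv]
      exact hlv
    exact locallyOfFiniteType_of_comp _ (vv t).left
  obtain ⟨j, -, hj⟩ := hcase (G ⋙ Over.forget S) L hL t k' hk' hCc hlk
  refine ⟨j, fun l el => ?_⟩
  have hl := hj l el
  rw [hkπ] at hl
  have sqP := IsPullback.of_hasPullback (D.map l.hom) ι
  have hsnd : IsPullback (pullback.fst (D.map l.hom) ι) (pullback.snd (D.map l.hom) ι) (D.map l.hom) ι := sqP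
  let lift : Y ⟶ pullback (D.map l.hom) ι := pullback.lift (y ≫ c.π.app l.left) y' (by rw [hy', Category.assoc, c.w])
  have hPa : IsAlgSpace (pullback (D.map l.hom) ι) :=
    isAlgSpace_of_repBySp (Representable.repBySp (repWith_baseChange sqP.flip hι).1) (hD l.left)
  let q : (yon S).obj (G.obj l) ⟶ pullback (D.map l.hom) ι :=
    pullback.lift (zz l) ((yon S).map (vv l) ≫ p) (by rw [Category.assoc]; exact (sqj l).w)
  have sqq : IsPullback q ((yon S).map (vv l)) (pullback.snd (D.map l.hom) ι) p :=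
    IsPullback.of_right (by simpa [q] using sqj l) (pullback.lift_snd _ _ _) sqP
  have hmf : Mono (pullback.fst (D.map l.hom) ι) := inferInstance
  have hrl : Representable lift := by
    have sqm : IsPullback (𝟙 Y) lift (lift ≫ pullback.fst (D.map l.hom) ι) (pullback.fst (D.map l.hom) ι) :=
      isPullback_of_points (by simp) fun T x w hxw => ⟨x, ⟨Category.comp_id x,
        (cancel_mono (pullback.fst (D.map l.hom) ι)).1 (by rw [Category.assoc]; exact hxw)⟩,
        fun m hm => by rw [← hm.1, Category.comp_id]⟩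
    have h : Representable (lift ≫ pullback.fst (D.map l.hom) ι) := by
      rw [pullback.lift_fst]
      exact hrep l.left
    exact (repWith_baseChange (P := ⊤) sqm ⟨h, fun _ _ _ _ _ _ => trivial⟩).1
  have sqU : IsPullback a ((yon S).map (k ≫ v)) y' p := isPullback_of_mono_comp ι (by rw [hy']; exact sqCv)
  have hkz : (yon S).map (k ≫ pp l) ≫ zz l = a ≫ y ≫ c.π.app l.left := by
    rw [Functor.map_comp, Category.assoc, hzp, ← Category.assoc, ← sqC.w, Category.assoc]
  refine repWith_of_chart P hPa hrl (repWith_baseChange sqq.flip hpe) (repWith_baseChange sqq.flip hps)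
    (fst := a) (snd := k ≫ pp l) (IsPullback.of_bot ?_ ?_ sqq) hl
  · rw [pullback.lift_snd, ← Functor.map_comp, Category.assoc, hpv]
    exact sqU
  · apply pullback.hom_ext
    · rw [Category.assoc, pullback.lift_fst, Category.assoc, pullback.lift_fst, hkz]
    · rw [Category.assoc, pullback.lift_snd, Category.assoc, pullback.lift_snd, ← Functor.map_comp_assoc,
        Category.assoc, hpv, sqU.w]

theorem exists_eventually_closed {I : Type u} [SmallCategory I] [IsCofiltered I]
    (D : I ⥤ Sp S) (hD : ∀ i, IsAlgSpace (D.obj i)) (hDa : ∀ (i j : I) (φ : i ⟶ j), IsAffineMor (D.map φ))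
    (c : Cone D) (hc : IsLimit c) {Y : Sp S} (hY : IsAlgSpace Y) (y : Y ⟶ c.pt)
    (hy : RepWith @IsClosedImmersion y) (i₁ : I) (hqc : IsQuasiCompactSp (D.obj i₁))
    (hlft : LocP @LocallyOfFiniteType (y ≫ c.π.app i₁)) :
    ∃ i₀ : I, ∀ (i : I) (_ : i ⟶ i₀), RepWith @IsClosedImmersion (y ≫ c.π.app i) := by
  have := compactSpace_of_isQuasiCompactSp hqc
  obtain ⟨V, p, hV, hpe, hps⟩ := exists_affine_chart_of_compact (hD i₁)
  obtain ⟨j, hj⟩ := exists_stage_rep @IsClosedImmersion @IsClosedImmersion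
    (fun E _ d hd o C k hk _ hl => have : IsClosedImmersion k := hk; exists_stage_closed E d hd o k)
    D hD hDa c hc i₁ (𝟙 (D.obj i₁)) (repWith_of_isIso _) p hpe hps hY y hy
    (fun z a k sqC => by
      have : IsClosedImmersion k.left := hy.2 z a k sqC
      exact QuasiCompact.compactSpace_of_compactSpace k.left)
    (y ≫ c.π.app i₁) (Category.comp_id _) hlft
  refine ⟨j.left, fun i φ => ?_⟩
  let l : Over i₁ := Over.mk (φ ≫ j.hom)
  have h := hj l (Over.homMk φ rfl)
  have hsq := IsPullback.of_hasPullback (D.map l.hom) (𝟙 (D.obj i₁))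
  have : IsIso (pullback.fst (D.map l.hom) (𝟙 (D.obj i₁))) := inferInstance
  have h2 := (repWith_comp_iso_iff _ (pullback.fst (D.map l.hom) (𝟙 (D.obj i₁)))).2 h
  rwa [pullback.lift_fst] at h2

theorem exists_eventually_immersion {I : Type u} [SmallCategory I] [IsCofiltered I] [QuasiSeparatedSpace ↥S]
    (D : I ⥤ Sp S) (hD : ∀ i, IsAlgSpace (D.obj i)) (hDa : ∀ (i j : I) (φ : i ⟶ j), IsAffineMor (D.map φ))
    (c : Cone D) (hc : IsLimit c) {Y : Sp S} (hY : IsAlgSpace Y) (hYq : IsQuasiCompactSp Y) (y : Y ⟶ c.pt)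
    (hy : RepWith @IsImmersion y) (i₁ : I) (hqs : IsQuasiSeparatedSp (D.obj i₁))
    (hlft : LocP @LocallyOfFiniteType (y ≫ c.π.app i₁)) :
    ∃ i₀ : I, ∀ (i : I) (_ : i ⟶ i₀), RepWith @IsImmersion (y ≫ c.π.app i) := by
  classical
  have hL := isAlgSpace_lim D hD hDa c hc
  have : Mono y := mono_of_repWith_immersion hy
  have hπ : RepWith @IsAffineHom (c.π.app i₁) := (isAffineMor_iff_repWith _).1 (repWith_affine_lim D hDa c hc i₁)
  have hXs : IsQuasiSeparatedSp c.pt := isQuasiSeparatedSp_of_mor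
    ((isQuasiSeparatedMor_iff_repWith hL (hD i₁) hπ.1).2 (repWith_mono (fun _ _ r hr => by
        have : IsAffineHom r := hr
        infer_instance) hπ)) hqs
  have hYs : IsQuasiSeparatedSp Y :=
    isQuasiSeparatedSp_of_mor (ValLib.isQuasiSeparatedMor_of_separated y (UnivInjMor.isSeparatedMor_of_mono y)) hXs
  have := compactSpace_of_isQuasiCompactSp hYq
  -- a quasi-compact open of the stage containing the image
  choose B hB hBc hxB hBA using fun x : Points Y =>
    S10179.result ⟨D.obj i₁, hD i₁⟩ (Points.map (y ≫ c.π.app i₁) x) Set.univ isOpen_univ trivial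
  obtain ⟨s, hs⟩ := (isCompact_univ (X := Points Y)).elim_finite_subcover
    (fun x => Points.map (y ≫ c.π.app i₁) ⁻¹' B x) (fun x => (hB x).preimage (Points.continuous_map _))
    (fun x _ => Set.mem_iUnion.2 ⟨x, hxB x⟩)
  have hA : IsOpen (⋃ x ∈ s, B x) := isOpen_biUnion fun x _ => hB x
  have hAc : IsCompact (⋃ x ∈ s, B x) := s.finite_toSet.isCompact_biUnion fun x _ => hBc x
  have hιi : RepWith @IsImmersion (subInc (⋃ x ∈ s, B x)) := repWith_mono (P := @IsOpenImmersion) (Q := @IsImmersion)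
    (fun _ _ g hg => have : IsOpenImmersion g := hg; inferInstance) (repWith_subInc hA)
  have : Mono (subInc (⋃ x ∈ s, B x)) := mono_of_repWith_immersion hιi
  have hU := isAlgSpace_subSheaf (hD i₁) hA
  obtain ⟨y', hy'⟩ := (exists_factor_iff hU (hD i₁) _ (repWith_subInc hA) (y ≫ c.π.app i₁)).2 (by
    rw [range_subInc]
    rintro _ ⟨x, rfl⟩
    simpa using hs (Set.mem_univ x))
  obtain ⟨hei, -⟩ := immersion_topology (hD i₁) hιi
  have : CompactSpace (Points (subSheaf (⋃ x ∈ s, B x))) :=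
    ⟨hei.isCompact_iff.2 (by rwa [Set.image_univ, range_subInc])⟩
  obtain ⟨V, p, hV, hpe, hps⟩ := exists_affine_chart_of_compact hU
  obtain ⟨j, hj⟩ := exists_stage_rep (@IsImmersion ⊓ @QuasiCompact) @IsImmersion
    (fun {J} _ _ E _ d hd o C k hk _ hl => by
      have : IsImmersion k := hk
      obtain ⟨j, hjo, hj⟩ := exists_stage_immersion E d hd o k
      exact ⟨j, hjo, fun l e => ⟨hj l e, quasiCompact_of_compactSpace _⟩⟩)
    D hD hDa c hc i₁ _ (repWith_subInc hA) p hpe hps hY y hy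
    (fun {W C} _ z a k sqC => compactSpace_of_sp (SpQS.qcqs_of_isPullback hY hL (IsAlgSpace.yon_obj W) sqC hYq hYs hXs
      (isQuasiCompactSp_yon W) ((repWith_diag_yon_iff @QuasiCompact W).2 (inferInstanceAs (QuasiCompact (pullback.diagonal W.hom))))).1)
    y' hy' hlft
  refine ⟨j.left, fun i φ => ?_⟩
  let l : Over i₁ := Over.mk (φ ≫ j.hom)
  have h := repWith_mono (Q := @IsImmersion) (fun _ _ _ hr => hr.1) (hj l (Over.homMk φ rfl))
  have h2 := repWith_comp h (repWith_baseChange (IsPullback.of_hasPullback (D.map l.hom) (subInc (⋃ x ∈ s, B x))).flip hιi)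
  rwa [pullback.lift_fst] at h2

end Groth.Agent.SpDesc
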