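import Groth.Agent.SpDesc.Stage
import Groth.Agent.SpDesc.Descends
import Groth.Agent.SchImg.LimClosed
import Groth.Agent.AlgSpLib.FpqcLocP
import Groth.Agent.AlgSpLib.DiagFP

/-!
# Limits with closed immersion transition maps that are finitely presented become constant
-/

set_option autoImplicit false

universe u

open CategoryTheory CategoryTheory.Limits AlgebraicGeometry

set_option backward.isDefEq.respectTransparency false

namespace Groth.Agent.SpDesc

open _root_.AlgSp Groth.Agent.AlgSpLib Groth.Agent.SchImg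

variable {S : Scheme.{u}}

theorem ker_top_fg {W V : Scheme.{u}} [IsAffine V] (v : W ⟶ V) [IsClosedImmersion v]
    [LocallyOfFinitePresentation v] : (v.ker.ideal ⟨⊤, isAffineOpen_top V⟩).FG := by
  have : IsAffine W := isAffine_of_isAffineHom v
  have hfp : v.appTop.hom.FinitePresentation :=
    (HasRingHomProperty.iff_of_isAffine (P := @LocallyOfFinitePresentation)).1 inferInstance
  have hs : Function.Surjective v.appTop.hom := (IsClosedImmersion.isAffine_surjective_of_isAffine v).2
  rw [Scheme.Hom.ker_apply]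
  algebraize [v.appTop.hom]
  exact Algebra.FinitePresentation.ker_fG_of_surjective (Algebra.ofId Γ(V, ⊤) Γ(W, ⊤)) hs

theorem exists_isIso_closedTower {I : Type u} [SmallCategory I] [IsCofiltered I] (D : I ⥤ Sp S)
    (hD : ∀ i, IsAlgSpace (D.obj i)) (hDc : ∀ (i j : I) (φ : i ⟶ j), RepWith @IsClosedImmersion (D.map φ))
    (c : Cone D) (hc : IsLimit c) (i₁ : I) (hqc : IsQuasiCompactSp (D.obj i₁))
    (hlfp : LocP @LocallyOfFinitePresentation (c.π.app i₁)) :
    ∃ i₀ : I, ∀ (i : I) (_ : i ⟶ i₀), IsIso (c.π.app i) := by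
  have hDa : ∀ (i j : I) (φ : i ⟶ j), RepWith @IsAffineHom (D.map φ) := fun i j φ =>
    repWith_mono (fun _ _ r hr => by
      have : IsClosedImmersion r := hr
      infer_instance) (hDc i j φ)
  have := compactSpace_of_isQuasiCompactSp hqc
  obtain ⟨V, g, hV, hge, hgs⟩ := exists_affine_chart_of_compact (hD i₁)
  obtain ⟨W, v, z, hW, sq, -, G, zz, vv, L, pp, e, ⟨hL⟩, hG, hpp, sqj, -, hfac, hvv, hpv⟩ :=
    exists_lim_square D hDa c hc i₁ g
  have hcl : ∀ j, IsClosedImmersion (vv j).left := fun j => (hDc _ _ j.hom).2 _ _ _ (sqj j)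
  have hπ : RepWith @IsAffineHom (c.π.app i₁) :=
    (isAffineMor_iff_repWith _).1 (repWith_affine_lim D (fun i j φ => (isAffineMor_iff_repWith _).2 (hDa i j φ)) c hc i₁)
  have hlfp' : LocallyOfFinitePresentation v.left :=
    ((locP_iff_repWith etST_lfp (hD i₁) hπ.1).1 hlfp).2 _ _ _ sq
  have hmono : ∀ j, Mono (vv j).left := fun j => inferInstance
  let K : Over i₁ → V.left.IdealSheafData := fun j => (vv j).left.ker
  let Ksup : V.left.IdealSheafData := ⨆ j, K j
  have hl : ∀ j, ∃ l : Ksup.subscheme ⟶ (G.obj j).left, l ≫ (vv j).left = Ksup.subschemeι := fun j => by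
    have hle : (vv j).left.ker ≤ Ksup.subschemeι.ker := by
      rw [Ksup.ker_subschemeι]
      exact le_iSup K j
    exact ⟨IsClosedImmersion.lift (vv j).left _ hle, IsClosedImmersion.lift_fac _ _ _⟩
  choose l hl using hl
  let cK : Cone (G ⋙ Over.forget S) := Cone.mk Ksup.subscheme
    { app := l
      naturality := fun j k a => by
        show 𝟙 _ ≫ l k = l j ≫ (G.map a).left
        rw [Category.id_comp, ← cancel_mono (vv k).left, Category.assoc, hl, ← Over.comp_left, hvv, hl] }
  let t : Over i₁ := Over.mk (𝟙 i₁)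
  let u : Ksup.subscheme ⟶ W.left := hL.lift cK ≫ eqToHom e
  have hu : u ≫ v.left = Ksup.subschemeι := by
    rw [← hpv t, Over.comp_left, hpp]
    simp only [u, Category.assoc, eqToHom_trans_assoc, eqToHom_refl, Category.id_comp, hL.fac_assoc]
    exact hl t
  have hmv : Mono v.left := by
    constructor
    intro T a b hab
    rw [← cancel_mono (eqToHom e.symm)]
    refine hL.hom_ext fun j => ?_
    have := hmono j
    rw [← cancel_mono (vv j).left, Category.assoc, Category.assoc, Category.assoc, Category.assoc,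
      ← reassoc_of% (hpp j), ← Over.comp_left, hpv]
    exact hab
  have : CategoryTheory.IsConnected (Over i₁) := isConnected_of_hasTerminal (Over i₁)
  have hvc : IsClosedImmersion v.left :=
    (repWith_closed_lim (DX := Over.forget i₁ ⋙ D) (DY := (Functor.const (Over i₁)).obj (D.obj i₁))
      { app := fun j => D.map j.hom
        naturality := fun j k a => by
          show D.map a.left ≫ D.map k.hom = D.map j.hom ≫ 𝟙 _
          rw [← D.map_comp, Over.w a, Category.comp_id] }
      (fun j => hDc _ _ j.hom) (c.whisker (Over.forget i₁))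
      ((Functor.Initial.isLimitWhiskerEquiv (Over.forget i₁) c).symm hc)
      (Cone.mk (D.obj i₁) { app := fun _ => 𝟙 _ })
      (isLimitConstCone _ _) (c.π.app i₁) (fun j => by
        show c.π.app i₁ ≫ 𝟙 _ = c.π.app j.left ≫ D.map j.hom
        rw [Category.comp_id, c.w j.hom])).2 _ _ _ sq
  have hKle : v.left.ker ≤ Ksup := by
    calc v.left.ker ≤ (u ≫ v.left).ker := Scheme.Hom.le_ker_comp u v.left
      _ = Ksup := by rw [hu, Ksup.ker_subschemeι]
  have hKge : ∀ j, K j ≤ v.left.ker := fun j => by
    show (vv j).left.ker ≤ _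
    rw [← show (pp j).left ≫ (vv j).left = v.left from congrArg (fun q => q.left) (hpv j)]
    exact Scheme.Hom.le_ker_comp _ _
  have hdir : ∀ {j k : Over i₁} (_ : j ⟶ k), K k ≤ K j := fun {j k} a => by
    show (vv k).left.ker ≤ (vv j).left.ker
    rw [← show (G.map a).left ≫ (vv k).left = (vv j).left from congrArg (fun q => q.left) (hvv a)]
    exact Scheme.Hom.le_ker_comp _ _
  obtain ⟨j, hj⟩ : ∃ j, v.left.ker ≤ K j := by
    let E := Scheme.IdealSheafData.equivOfIsAffine (X := V.left)
    have hfg : (E v.left.ker).FG := ker_top_fg v.left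
    have hle : E v.left.ker ≤ ⨆ j, E (K j) := by
      refine (E.toOrderIso.monotone hKle).trans (le_of_eq ?_)
      exact E.toOrderIso.map_iSup K
    have : Nonempty (Over i₁) := ⟨t⟩
    have hd : Directed (· ≤ ·) (fun j => E (K j)) := fun a b => by
      refine ⟨IsCofiltered.min a b, E.toOrderIso.monotone (hdir (IsCofiltered.minToLeft a b)),
        E.toOrderIso.monotone (hdir (IsCofiltered.minToRight a b))⟩
    obtain ⟨_, ⟨j, rfl⟩, hj⟩ := (Submodule.fg_iff_compact _).1 hfg (Set.range fun j => E (K j)) _
      (Set.range_nonempty _) hd.directedOn_range (isLUB_iSup) hle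
    exact ⟨j, (E.toOrderIso.le_iff_le).1 hj⟩
  have := hcl j
  let m : (G.obj j).left ⟶ W.left := IsClosedImmersion.lift v.left (vv j).left hj
  have hm : m ≫ v.left = (vv j).left := IsClosedImmersion.lift_fac _ _ _
  have hppv : (pp j).left ≫ (vv j).left = v.left := congrArg (fun q => q.left) (hpv j)
  have hiso : IsIso (pp j).left :=
    ⟨m, (cancel_mono v.left).1 (by rw [Category.assoc, hm, hppv, Category.id_comp]),
      (cancel_mono (vv j).left).1 (by rw [Category.assoc, hppv, hm, Category.id_comp])⟩
  have sqW : IsPullback z ((yon S).map (pp j)) (c.π.app j.left) (zz j) := by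
    refine IsPullback.of_bot ?_ (hfac j).symm (sqj j)
    rw [← Functor.map_comp, hpv, c.w j.hom]
    exact sq
  have hπj : Representable (c.π.app j.left) :=
    ((isAffineMor_iff_repWith _).1 (repWith_affine_lim D (fun i k φ => (isAffineMor_iff_repWith _).2 (hDa i k φ)) c hc j.left)).1
  have hj' : IsIso (c.π.app j.left) := (isIso_iff_repWith _).2
    (repWith_of_chart (MorphismProperty.isomorphisms Scheme.{u}) (hD j.left) hπj
      (repWith_baseChange (sqj j).flip hge) (repWith_baseChange (sqj j).flip hgs) sqW hiso)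
  refine ⟨j.left, fun i φ => ?_⟩
  have := mono_of_closed (hDc i j.left φ)
  have : Mono (c.π.app j.left) := inferInstance
  have hw := c.w φ
  refine ⟨D.map φ ≫ inv (c.π.app j.left), by rw [reassoc_of% hw, IsIso.hom_inv_id]; rfl, ?_⟩
  rw [← cancel_mono (D.map φ), Category.id_comp, Category.assoc, Category.assoc]
  rw [hw, IsIso.inv_hom_id, Category.comp_id]

end Groth.Agent.SpDesc
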