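import Groth.Agent.SpDesc.SchemeStage
import Groth.Agent.GeomPi0.Basic
import Groth.Agent.W7Hull.NearLimit
import Groth.Agent.SpApprox.AbsTransfer

/-!
# Spaces that are schemes over local rings of the base are schemes
-/

set_option autoImplicit false
set_option linter.style.haveILetI false
set_option backward.isDefEq.respectTransparency false

universe u

open CategoryTheory CategoryTheory.Limits AlgebraicGeometry

noncomputable section

namespace Groth.Agent.SpDesc

open _root_.AlgSp Groth.Agent.AlgSpLib Groth.Agent.AlgSpLib.ShriekS Groth.Agent.W7Hull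

variable {W : Scheme.{u}}

/-- the neighbourhoods of a point over the base -/
def nhdSys (y : W) : NearLimit.Idx y ⥤ Over W where
  obj V := Over.mk (((𝟙 W) ⁻¹ᵁ V.1).ι)
  map {U V} h := Over.homMk ((NearLimit.diag (𝟙 W) y).map h) (W.homOfLE_ι (Scheme.Hom.preimage_mono (𝟙 W) (leOfHom h)))
  map_id V := Over.OverMorphism.ext ((NearLimit.diag (𝟙 W) y).map_id V)
  map_comp a b := Over.OverMorphism.ext ((NearLimit.diag (𝟙 W) y).map_comp a b)

/-- their cone -/
def nhdCone (y : W) : Cone (nhdSys y) where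
  pt := Over.mk (pullback.fst (𝟙 W) (W.fromSpecStalk y))
  π :=
  { app := fun V => (Over.homMk (U := Over.mk (pullback.fst (𝟙 W) (W.fromSpecStalk y))) (V := (nhdSys y).obj V) ((NearLimit.cone (𝟙 W) y).π.app V) (NearLimit.cone_fac (𝟙 W) y V))
    naturality := fun U V h => Over.OverMorphism.ext ((NearLimit.cone (𝟙 W) y).π.naturality h) }

/-- it is a limit -/
def nhdIsLimit (y : W) : IsLimit (nhdCone y) := by
  haveI : IsConnected (NearLimit.Idx y) := IsCofiltered.isConnected _
  refine isLimitOfReflects (Over.forget _) ?_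
  exact IsLimit.ofIsoLimit ((IsLimit.postcomposeHomEquiv
    (NatIso.ofComponents (fun j => Iso.refl _) (fun {i j} h => by
      show _ ≫ 𝟙 _ = 𝟙 _ ≫ _
      rw [Category.comp_id, Category.id_comp]; rfl) :
        NearLimit.diag (𝟙 W) y ≅ nhdSys y ⋙ Over.forget _) _).symm (NearLimit.isLimit (𝟙 W) y))
    (Cone.ext (Iso.refl _) fun j => by
      show _ ≫ 𝟙 _ = 𝟙 _ ≫ _
      rw [Category.comp_id, Category.id_comp]; rfl)

variable {I : Type u} [SmallCategory I] [IsCofiltered I] (D : I ⥤ Over W) (c : Cone D) (hc : IsLimit c)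

/-- base changes of a space along a system -/
def bcSys (X : Sp W) : I ⥤ Sp W := (D ⋙ yon _) ⋙ Limits.prod.functor.obj X

/-- their cone -/
def bcSysCone (X : Sp W) : Cone (bcSys D X) := (Limits.prod.functor.obj X).mapCone ((yon _).mapCone c)

include hc in
theorem nonempty_bcSysIsLimit (X : Sp W) : Nonempty (IsLimit (bcSysCone D c X)) := by
  classical
  have hy : IsLimit ((yon _).mapCone c) := isLimitOfPreserves _ hc
  obtain ⟨j₀⟩ := IsCofiltered.nonempty (C := I)
  let sn : ∀ s : Cone (bcSys D X), Cone (D ⋙ yon _) := fun s =>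
    { pt := s.pt
      π :=
        { app := fun j => s.π.app j ≫ Limits.prod.snd
          naturality := fun {i j} h => by
            show 𝟙 _ ≫ _ = _ ≫ _
            rw [Category.id_comp, ← s.w h, Category.assoc, Category.assoc]
            exact congrArg (s.π.app i ≫ ·) (Limits.prod.map_snd _ _) } }
  have hfst : ∀ (s : Cone (bcSys D X)) (j : I),
      s.π.app j ≫ Limits.prod.fst = s.π.app j₀ ≫ Limits.prod.fst := fun s j => by
    obtain ⟨m, f, g, -⟩ := IsCofilteredOrEmpty.cone_objs j j₀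
    have : ∀ {i : I} (h : m ⟶ i), s.π.app i ≫ Limits.prod.fst = s.π.app m ≫ Limits.prod.fst := fun {i} h => by
      rw [← s.w h, Category.assoc]
      exact congrArg (s.π.app m ≫ ·) ((Limits.prod.map_fst _ _).trans (Category.comp_id _))
    rw [this f, this g]
  refine ⟨{ lift := fun s => Limits.prod.lift (s.π.app j₀ ≫ Limits.prod.fst) (hy.lift (sn s)), fac := fun s j => ?_, uniq := fun s m hm => ?_ }⟩
  · show _ ≫ Limits.prod.map (𝟙 X) _ = _
    apply Limits.prod.hom_ext
    · rw [Category.assoc, Limits.prod.map_fst, Category.comp_id, Limits.prod.lift_fst, ← hfst s j]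
    · rw [Category.assoc, Limits.prod.map_snd, Limits.prod.lift_snd_assoc]
      exact hy.fac (sn s) j
  · apply Limits.prod.hom_ext
    · rw [Limits.prod.lift_fst, ← hm j₀, Category.assoc]
      exact congrArg (m ≫ ·) ((Limits.prod.map_fst _ _).trans (Category.comp_id _)).symm
    · rw [Limits.prod.lift_snd]
      refine hy.uniq (sn s) _ fun j => ?_
      show _ = s.π.app j ≫ Limits.prod.snd
      rw [← hm j, Category.assoc, Category.assoc]
      exact congrArg (m ≫ ·) (Limits.prod.map_snd _ _).symm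

/-- over an affine base, a scheme over a local ring is a scheme over a neighbourhood -/
theorem exists_nhd_isRepresentable [IsAffine W] {F : Sp W} (hF : IsAlgSpace F) (hq : IsQuasiCompactSp F)
    (hs : IsQuasiSeparatedSp F) (y : W)
    (h : (F ⨯ (yon W).obj (Over.mk (W.fromSpecStalk y))).obj.IsRepresentable) :
    ∃ V : W.Opens, y ∈ V ∧ (F ⨯ (yon W).obj (Over.mk V.ι)).obj.IsRepresentable := by
  obtain ⟨T, ⟨e⟩⟩ := exists_yon_iso h
  let θ : Over.mk (pullback.fst (𝟙 W) (W.fromSpecStalk y)) ≅ Over.mk (W.fromSpecStalk y) :=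
    Over.isoMk (asIso (pullback.snd (𝟙 W) (W.fromSpecStalk y))) (by
      show pullback.snd (𝟙 W) (W.fromSpecStalk y) ≫ W.fromSpecStalk y = _
      rw [← pullback.condition, Category.comp_id]
      rfl)
  obtain ⟨hl⟩ := nonempty_bcSysIsLimit (nhdSys y) (nhdCone y) (nhdIsLimit y) F
  have haff : ∀ j, IsAffineHom ((nhdSys y).obj j).hom := fun j => by
    haveI : IsAffine (((𝟙 W) ⁻¹ᵁ j.1).toScheme) := (j.2.1 : IsAffine j.1.toScheme)
    exact inferInstanceAs (IsAffineHom ((𝟙 W) ⁻¹ᵁ j.1).ι)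
  have hobj : ∀ j, RepWith @IsAffineHom (Limits.prod.fst : (bcSys (nhdSys y) F).obj j ⟶ F) := fun j =>
    repWith_baseChange (GeomPi0.isPullback_prod F ((nhdSys y).obj j)).flip ((repWith_yon_iff _).2 (haff j))
  obtain ⟨j, V, ⟨hV⟩⟩ := exists_representable_stage (bcSys (nhdSys y) F) (fun j => GeomPi0.isAlgSpace_prod hF _)
    (fun i j φ => (isAffineMor_iff_repWith _).2
      (repWith_baseChange (GeomPi0.isPullback_prod_map F ((nhdSys y).map φ)).flip ((repWith_yon_iff _).2 (by
        haveI : IsAffine (((nhdSys y).obj i).left) := (i.2.1 : IsAffine i.1.toScheme)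
        haveI : IsAffine (((nhdSys y).obj j).left) := (j.2.1 : IsAffine j.1.toScheme)
        exact isAffineHom_of_isAffine _))))
    (fun j => (qcqs_of_affine (GeomPi0.isAlgSpace_prod hF _) hF (hobj j) hq hs).1)
    (fun j => (qcqs_of_affine (GeomPi0.isAlgSpace_prod hF _) hF (hobj j) hq hs).2)
    (bcSysCone (nhdSys y) (nhdCone y) F) hl (T := T) (e ≪≫ Limits.prod.mapIso (Iso.refl F) ((yon W).mapIso θ.symm))
  exact ⟨(𝟙 W) ⁻¹ᵁ j.1, j.2.2, LqfRep.isRepresentable_of_iso hV⟩

variable {S : Scheme.{u}} (g : W ⟶ S)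

/-- representability descends along extension of the base -/
theorem isRepresentable_of_jFun {F : Sp W} (h : ((jFun g).obj F).obj.IsRepresentable) : F.obj.IsRepresentable := by
  obtain ⟨T', ⟨ξ⟩⟩ := exists_yon_iso h
  obtain ⟨T, η, e, -, -, he⟩ := exists_decomp g ξ.hom
  haveI : IsIso ((yon S).map e.hom ≫ (jYonIso g T).hom ≫ (jFun g).map η) := he ▸ inferInstance
  haveI : IsIso ((jYonIso g T).hom ≫ (jFun g).map η) := IsIso.of_isIso_comp_left ((yon S).map e.hom) _
  haveI : IsIso ((jFun g).map η) := IsIso.of_isIso_comp_left (jYonIso g T).hom _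
  obtain ⟨α, hα⟩ := exists_jFun_eq g (inv ((jFun g).map η)) (by
    rw [IsIso.inv_comp_eq]
    exact (map_jπ g η).symm)
  have h1 : η ≫ α = 𝟙 _ := jFun_map_injective g (by
    rw [Functor.map_comp, hα, IsIso.hom_inv_id, CategoryTheory.Functor.map_id])
  have h2 : α ≫ η = 𝟙 _ := jFun_map_injective g (by
    rw [Functor.map_comp, hα, IsIso.inv_hom_id, CategoryTheory.Functor.map_id])
  exact LqfRep.isRepresentable_of_iso ⟨α, η, h2, h1⟩

theorem isRepresentable_jFun {F : Sp W} (h : F.obj.IsRepresentable) : ((jFun g).obj F).obj.IsRepresentable := by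
  obtain ⟨T, ⟨e⟩⟩ := exists_yon_iso h
  exact LqfRep.isRepresentable_of_iso ((jFun g).mapIso e.symm ≪≫ (jYonIso g T).symm)

/-- spaces qcqs over the base which are schemes over all its local rings are schemes -/
theorem isRepresentable_of_local {X : Sp S} (hX : IsAlgSpace X) (q : X ⟶ (yon S).obj (Over.mk (𝟙 S)))
    (hqc : IsQuasiCompactMor q) (hqs : IsQuasiSeparatedMor q)
    (h : ∀ x : Points X, ∀ (P : Sp S) (fst : P ⟶ X)
      (snd : P ⟶ (yon S).obj (Over.mk (S.fromSpecStalk ((Points.schemeHomeo (Over.mk (𝟙 S))).symm (Points.map q x))))),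
      IsPullback fst snd q ((yon S).map (Over.homMk (S.fromSpecStalk _))) → P.obj.IsRepresentable) :
    X.obj.IsRepresentable := by
  classical
  let pt : Points X → S := fun x => (Points.schemeHomeo (Over.mk (𝟙 S))).symm (Points.map q x)
  have hpt : ∀ x, Points.map q x = Points.ofScheme (Over.mk (𝟙 S)) (pt x) := fun x =>
    ((Points.schemeHomeo (Over.mk (𝟙 S))).apply_symm_apply _).symm
  have hterm : ∀ {P : Sp S} (a b : P ⟶ (yon S).obj (Over.mk (𝟙 S))), a = b := fun a b =>
    (Over.mkIdTerminal.isTerminalObj (yon S)).hom_ext a b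
  suffices hmain : ∀ s : S, s ∈ Set.range pt → ∃ (V : Over S) (f : (yon S).obj V ⟶ X),
      RepWith @IsOpenImmersion f ∧ ∀ x, pt x = s → x ∈ Set.range (Points.map f) by
    choose V f hf hmem using fun s : Set.range pt => hmain s.1 s.2
    obtain ⟨T, ⟨e⟩⟩ := exists_iso_yon_of_open_cover hX V f hf fun x => ⟨⟨pt x, x, rfl⟩, hmem _ x rfl⟩
    exact LqfRep.isRepresentable_of_iso e
  rintro s ⟨x₀, rfl⟩
  obtain ⟨W, hW, hsW, -⟩ := exists_isAffineOpen_mem_and_subset (U := (⊤ : S.Opens)) (x := pt x₀) trivial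
  haveI : IsAffine W.toScheme := hW
  let g : W.toScheme ⟶ S := W.ι
  let og : Over.mk g ⟶ Over.mk (𝟙 S) := Over.homMk g
  have hsub : ∀ {P : Sp S} (a b : P ⟶ (yon S).obj (Over.mk g)), a = b := fun a b => by
    haveI : Mono (Over.homMk g : Over.mk g ⟶ Over.mk (𝟙 S)) :=
      haveI : Mono (Over.homMk g : Over.mk g ⟶ Over.mk (𝟙 S)).left := inferInstanceAs (Mono W.ι)
      Groth.Agent.AlgSpLib.mono_of_left _
    haveI : Mono ((yon S).map (Over.homMk g : Over.mk g ⟶ Over.mk (𝟙 S))) := inferInstance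
    exact (cancel_mono ((yon S).map og)).1 (hterm _ _)
  let o : (yon S).obj (Over.mk g) ⟶ (yon S).obj (Over.mk (𝟙 S)) := (yon S).map (Over.homMk g)
  have sqW : IsPullback (pullback.fst q o) (pullback.snd q o) q o := IsPullback.of_hasPullback q o
  obtain ⟨F, e, -⟩ := exists_iso_slice g (pullback q o) (pullback.snd q o)
  have hXW : IsAlgSpace (pullback q o) :=
    isAlgSpace_of_isPullback_space (IsAlgSpace.yon_obj _) hX (IsAlgSpace.yon_obj _) sqW
  have hjF : IsAlgSpace ((jFun g).obj F) := hXW.of_iso e.symm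
  have hF : IsAlgSpace F := isAlgSpace_of_jFun g hjF
  haveI : CompactSpace (Over.mk g).left := inferInstanceAs (CompactSpace W.toScheme)
  have hFq : IsQuasiCompactSp F := (SpApprox.qc_jFun_iff g hF).1 (qc_of_iso hjF hXW e
    (hqc (IsAlgSpace.yon_obj _) (isQuasiCompactSp_yon _) o (pullback.fst q o) (pullback.snd q o) sqW))
  have hFs : IsQuasiSeparatedSp F := by
    rw [SpQS.isQuasiSeparatedSp_iff_mor (SpQS.baseStr F), ← SpApprox.isQuasiSeparatedMor_jFun_iff g]
    let φ : (jFun g).obj ((yon W.toScheme).obj (Over.mk (𝟙 W.toScheme))) ≅ (yon S).obj (Over.mk g) :=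
      (jYonIso g (Over.mk (𝟙 W.toScheme))).symm ≪≫
        (yon S).mapIso (Over.isoMk (Iso.refl _) (by simp) : (Over.map g).obj (Over.mk (𝟙 W.toScheme)) ≅ Over.mk g)
    refine isQuasiSeparatedMor_baseChange (q := e.hom) (f := pullback.snd q o) (g := φ.hom)
      (IsPullback.of_horiz_isIso ⟨hsub _ _⟩) (isQuasiSeparatedMor_baseChange sqW hqs)
  -- pullbacks of `F` compute the base changes of `X`
  have hbc : ∀ (T : Over W.toScheme) (a : (Over.map g).obj T ⟶ Over.mk (𝟙 S)),
      ∃ (fst : (jFun g).obj (F ⨯ (yon _).obj T) ⟶ X) (snd : (jFun g).obj (F ⨯ (yon _).obj T) ⟶ (yon S).obj ((Over.map g).obj T)),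
        IsPullback fst snd q ((yon S).map a) := by
    intro T a
    let a' : (Over.map g).obj T ⟶ Over.mk g := Over.homMk T.hom rfl
    let φ : (jFun g).obj ((yon W.toScheme).obj (Over.mk (𝟙 W.toScheme))) ≅ (yon S).obj (Over.mk g) :=
      (jYonIso g (Over.mk (𝟙 W.toScheme))).symm ≪≫
        (yon S).mapIso (Over.isoMk (Iso.refl _) (by simp) : (Over.map g).obj (Over.mk (𝟙 W.toScheme)) ≅ Over.mk g)
    have h1 := (isPullback_jFun_iff g _ _ _ _).2 (GeomPi0.isPullback_prod F T)
    have h2 : IsPullback ((jFun g).map (Limits.prod.fst : F ⨯ (yon _).obj T ⟶ F) ≫ e.hom)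
        ((jFun g).map (Limits.prod.snd : F ⨯ (yon _).obj T ⟶ _) ≫ (jYonIso g T).inv) (pullback.snd q o)
        ((yon S).map a') :=
      IsPullback.of_iso h1 (Iso.refl _) e (jYonIso g T).symm φ (by simp) (by simp) (hsub _ _) (hsub _ _)
    have h3 := h2.paste_horiz sqW
    rw [show (yon S).map a' ≫ o = (yon S).map a from hterm _ _] at h3
    exact ⟨_, _, h3⟩
  let y : W.toScheme := ⟨pt x₀, hsW⟩
  obtain ⟨V, hyV, hV⟩ := exists_nhd_isRepresentable hF hFq hFs y (by
    refine isRepresentable_of_jFun g ?_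
    let T : Over W.toScheme := Over.mk (W.toScheme.fromSpecStalk y)
    let κ : (Over.map g).obj T ≅ Over.mk (S.fromSpecStalk (pt x₀)) :=
      Over.isoMk (asIso (Spec.map (W.ι.stalkMap y))) (Scheme.SpecMap_stalkMap_fromSpecStalk W.ι)
    obtain ⟨fst, snd, sq⟩ := hbc T (κ.hom ≫ Over.homMk (S.fromSpecStalk (pt x₀)))
    refine h x₀ _ fst (snd ≫ ((yon S).mapIso κ).hom) ?_
    exact IsPullback.of_iso sq (Iso.refl _) (Iso.refl _) ((yon S).mapIso κ) (Iso.refl _) (by simp) (by simp) (by simp)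
      (by simp only [Iso.refl_hom, Category.comp_id, Functor.mapIso_hom, ← Functor.map_comp]; rfl))
  obtain ⟨T, ⟨eT⟩⟩ := exists_yon_iso (isRepresentable_jFun g hV)
  let a : (Over.map g).obj (Over.mk V.ι) ⟶ Over.mk (𝟙 S) := Over.homMk (V.ι ≫ g)
  obtain ⟨fst, snd, sq⟩ := hbc (Over.mk V.ι) a
  refine ⟨T, eT.hom ≫ fst, (repWith_iso_comp_iff eT.hom _).2 (repWith_baseChange sq.flip ((repWith_yon_iff a).2 ?_)),
    fun x hx => ?_⟩
  · exact inferInstanceAs (IsOpenImmersion (V.ι ≫ W.ι))
  · obtain ⟨p, hp, -⟩ := exists_point_of_isPullback sq x (Points.ofScheme ((Over.map g).obj (Over.mk V.ι)) ⟨y, hyV⟩) (by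
      rw [hpt x, hx, ← Points.ofPt_eq_map_ofScheme, ofScheme_map]
      rfl)
    exact ⟨Points.map eT.inv p, by rw [← Points.map_comp, Iso.inv_hom_id_assoc, hp]⟩

end Groth.Agent.SpDesc

end
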