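import Groth.Agent.SpDesc.EventMono

/-!
# The relations of a tower of charts
-/

set_option autoImplicit false

universe u

open CategoryTheory CategoryTheory.Limits AlgebraicGeometry

set_option backward.isDefEq.respectTransparency false

namespace Groth.Agent.SpDesc

open _root_.AlgSp Groth.Agent.AlgSpLib Groth.Agent.SchImg

variable {S : Scheme.{u}}

set_option maxHeartbeats 1000000 in
/-- the relations of the pullbacks of an affine chart of a stage, with their limit -/
theorem exists_rel_tower {J : Type u} [SmallCategory J] [IsCofiltered J] [QuasiSeparatedSpace ↥S]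
    (D : J ⥤ Sp S) (hD : ∀ i, IsAlgSpace (D.obj i)) (hDa : ∀ (i j : J) (φ : i ⟶ j), IsAffineMor (D.map φ))
    (c : Cone D) (hc : IsLimit c) (i₁ : J) (hqs : ∀ i, IsQuasiSeparatedSp (D.obj i))
    {U₁ : Over S} [IsAffine U₁.left] (g : (yon S).obj U₁ ⟶ D.obj i₁) (hge : RepWith @Etale g)
    (hgs : RepWith @Surjective g) :
    ∃ (W : Over S) (z : (yon S).obj W ⟶ c.pt) (G : Over i₁ ⥤ Over S)
      (zz : ∀ j : Over i₁, (yon S).obj (G.obj j) ⟶ D.obj j.left) (pp : ∀ j : Over i₁, W ⟶ G.obj j)
      (L : Cone (G ⋙ Over.forget S)) (e : L.pt = W.left) (H : Over i₁ ⥤ Over S)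
      (a b : ∀ j : Over i₁, H.obj j ⟶ G.obj j) (Rl : Over S) (al bl : Rl ⟶ W)
      (r : ∀ j : Over i₁, Rl ⟶ H.obj j) (cH : Cone (H ⋙ Over.forget S)) (eR : cH.pt = Rl.left),
      Nonempty (IsLimit L) ∧ Nonempty (IsLimit cH) ∧ IsAffine W.left ∧ RepWith @Etale z ∧ RepWith @Surjective z ∧
      (∀ j, IsAffine (G.obj j).left ∧ RepWith @Etale (zz j) ∧ RepWith @Surjective (zz j)) ∧
      (∀ j, (pp j).left = eqToHom e.symm ≫ L.π.app j) ∧
      (∀ j, (r j).left = eqToHom eR.symm ≫ cH.π.app j) ∧
      (∀ {j k : Over i₁} (f : j ⟶ k), IsPullback (zz j) ((yon S).map (G.map f)) (D.map f.left) (zz k)) ∧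
      (∀ j, IsPullback z ((yon S).map (pp j)) (c.π.app j.left) (zz j)) ∧
      (∀ j, IsPullback ((yon S).map (a j)) ((yon S).map (b j)) (zz j) (zz j)) ∧
      IsPullback ((yon S).map al) ((yon S).map bl) z z ∧
      (∀ {j k : Over i₁} (f : j ⟶ k), H.map f ≫ a k = a j ≫ G.map f ∧ H.map f ≫ b k = b j ≫ G.map f) ∧
      (∀ j, r j ≫ a j = al ≫ pp j ∧ r j ≫ b j = bl ≫ pp j) ∧
      (∀ {j k : Over i₁} (f : j ⟶ k), IsPullback (H.map f).left (a j).left (a k).left (G.map f).left) ∧
      (∀ j, CompactSpace (H.obj j).left ∧ QuasiSeparatedSpace (H.obj j).left) ∧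
      (∀ {j k : Over i₁} (f : j ⟶ k), IsAffineHom (H.map f).left ∧ IsAffineHom (G.map f).left) := by
  obtain ⟨W, v, z, hW, sq, -, G, zz, vv, L, pp, e, ⟨hL⟩, hG, hpp, sqj, hGz, hzp, hvv, hpv⟩ :=
    exists_lim_square D (fun i j φ => (isAffineMor_iff_repWith _).1 (hDa i j φ)) c hc i₁ g
  have hX := isAlgSpace_lim D hD hDa c hc
  have hzze : ∀ j : Over i₁, RepWith @Etale (zz j) := fun j => repWith_baseChange (sqj j).flip hge
  have hzzs : ∀ j : Over i₁, RepWith @Surjective (zz j) := fun j => repWith_baseChange (sqj j).flip hgs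
  choose R a b sqR using fun j : Over i₁ => exists_pullback (hD j.left).diag (zz j) (zz j)
  have sqG : ∀ {j k : Over i₁} (f : j ⟶ k),
      IsPullback (zz j) ((yon S).map (G.map f)) (D.map f.left) (zz k) := fun {j k} f => by
    refine IsPullback.of_bot ?_ (hGz f).symm (sqj k)
    rw [← Functor.map_comp, hvv f, ← D.map_comp, Over.w f]
    exact sqj j
  have hm : ∀ {j k : Over i₁} (f : j ⟶ k), ∃ m : R j ⟶ R k,
      m ≫ a k = a j ≫ G.map f ∧ m ≫ b k = b j ≫ G.map f := fun {j k} f => by
    obtain ⟨m, hm⟩ := exists_map_eq ((sqR k).lift ((yon S).map (a j ≫ G.map f)) ((yon S).map (b j ≫ G.map f)) (by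
      rw [Functor.map_comp, Functor.map_comp, Category.assoc, Category.assoc, hGz f, ← Category.assoc,
        (sqR j).w, Category.assoc]))
    exact ⟨m, (yon S).map_injective (by rw [Functor.map_comp, hm, (sqR k).lift_fst]),
      (yon S).map_injective (by rw [Functor.map_comp, hm, (sqR k).lift_snd])⟩
  choose m hma hmb using @hm
  have hext : ∀ {T : Over S} {k : Over i₁} (p q : T ⟶ R k), p ≫ a k = q ≫ a k → p ≫ b k = q ≫ b k → p = q :=
    fun p q h1 h2 => (yon S).map_injective ((sqR _).hom_ext
      (by rw [← Functor.map_comp, ← Functor.map_comp, h1]) (by rw [← Functor.map_comp, ← Functor.map_comp, h2]))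
  let H : Over i₁ ⥤ Over S :=
    { obj := R
      map := m
      map_id := fun j => hext _ _ (by simp [hma]) (by simp [hmb])
      map_comp := fun f g => hext _ _ (by rw [hma, Category.assoc, hma, reassoc_of% (hma f), G.map_comp])
        (by rw [hmb, Category.assoc, hmb, reassoc_of% (hmb f), G.map_comp]) }
  -- cartesian along the first projections
  have hcart : ∀ {j k : Over i₁} (f : j ⟶ k), IsPullback (m f).left (a j).left (a k).left (G.map f).left :=
    fun {j k} f => by
    have h1 := (sqR j).flip.paste_horiz (sqG f).flip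
    have h2 : IsPullback ((yon S).map (b j) ≫ (yon S).map (G.map f)) ((yon S).map (a j)) (zz k)
        ((yon S).map (G.map f) ≫ zz k) := by
      rw [hGz f]; exact h1
    rw [← Functor.map_comp, ← hmb f, Functor.map_comp] at h2
    exact isPullback_yon_iff.1 (IsPullback.of_right h2 (by rw [← Functor.map_comp, ← Functor.map_comp, hma f]) (sqR k).flip)
  -- the limit
  obtain ⟨Rl, al, bl, sqRl⟩ := exists_pullback hX.diag z z
  have sqW : ∀ k : Over i₁, IsPullback z ((yon S).map (pp k)) (c.π.app k.left) (zz k) := fun k => by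
    refine IsPullback.of_bot ?_ (hzp k).symm (sqj k)
    rw [← Functor.map_comp, hpv k, c.w k.hom]
    exact sq
  have hr : ∀ k : Over i₁, ∃ r : Rl ⟶ R k, r ≫ a k = al ≫ pp k ∧ r ≫ b k = bl ≫ pp k := fun k => by
    obtain ⟨r, hr⟩ := exists_map_eq ((sqR k).lift ((yon S).map (al ≫ pp k)) ((yon S).map (bl ≫ pp k)) (by
      rw [Functor.map_comp, Functor.map_comp, Category.assoc, Category.assoc, hzp k, ← Category.assoc,
        sqRl.w, Category.assoc]))
    exact ⟨r, (yon S).map_injective (by rw [Functor.map_comp, hr, (sqR k).lift_fst]),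
      (yon S).map_injective (by rw [Functor.map_comp, hr, (sqR k).lift_snd])⟩
  choose r hra hrb using hr
  have hppG : ∀ {j k : Over i₁} (f : j ⟶ k), pp j ≫ G.map f = pp k := fun {j k} f => Over.OverMorphism.ext (by
    rw [Over.comp_left, hpp, hpp, Category.assoc]
    exact congrArg (eqToHom e.symm ≫ ·) (L.w f))
  have hcartl : ∀ k : Over i₁, IsPullback (r k).left al.left (a k).left (pp k).left := fun k => by
    have h1 := sqRl.flip.paste_horiz (sqW k).flip
    have h2 : IsPullback ((yon S).map bl ≫ (yon S).map (pp k)) ((yon S).map al) (zz k)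
        ((yon S).map (pp k) ≫ zz k) := by
      rw [hzp k]; exact h1
    rw [← Functor.map_comp, ← hrb k, Functor.map_comp] at h2
    exact isPullback_yon_iff.1 (IsPullback.of_right h2 (by rw [← Functor.map_comp, ← Functor.map_comp, hra k]) (sqR k).flip)
  let t : Over i₁ := Over.mk (𝟙 i₁)
  let tm : ∀ j : Over i₁, j ⟶ t := fun j => Over.homMk j.hom (by simp [t])
  let cH : Cone (H ⋙ Over.forget S) := Cone.mk Rl.left
    { app := fun j => (r j).left
      naturality := fun j k f => by
        show 𝟙 _ ≫ (r k).left = (r j).left ≫ (m f).left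
        rw [Category.id_comp, ← Over.comp_left]
        exact congrArg (fun q : Rl ⟶ R k => q.left) (hext _ _
          (by rw [hra, Category.assoc, hma, reassoc_of% (hra j), hppG])
          (by rw [hrb, Category.assoc, hmb, reassoc_of% (hrb j), hppG])) }
  let cs : Cone (H ⋙ Over.forget S) → Cone (G ⋙ Over.forget S) := fun s => Cone.mk s.pt
    { app := fun j => s.π.app j ≫ (a j).left
      naturality := fun j k f => by
        show 𝟙 _ ≫ s.π.app k ≫ (a k).left = (s.π.app j ≫ (a j).left) ≫ (G.map f).left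
        rw [Category.id_comp, ← s.w f, Category.assoc, Category.assoc]
        show s.π.app j ≫ (m f).left ≫ _ = _
        rw [(hcart f).w] }
  have hcH : IsLimit cH :=
    { lift := fun s => (hcartl t).lift (s.π.app t) (hL.lift (cs s) ≫ eqToHom e) (by
        rw [hpp]
        simp only [Category.assoc, eqToHom_trans_assoc, eqToHom_refl, Category.id_comp, hL.fac]
        rfl)
      fac := fun s j => by
        show _ ≫ (r j).left = _
        have hrj : (r j).left ≫ (m (tm j)).left = (r t).left := cH.w (tm j)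
        apply (hcart (tm j)).hom_ext
        · rw [Category.assoc, hrj, (hcartl t).lift_fst]
          exact (s.w (tm j)).symm
        · rw [Category.assoc, (hcartl j).w, (hcartl t).lift_snd_assoc, hpp]
          simp only [Category.assoc, eqToHom_trans_assoc, eqToHom_refl, Category.id_comp, hL.fac]
          rfl
      uniq := fun s n hn => by
        apply (hcartl t).hom_ext
        · rw [(hcartl t).lift_fst]; exact hn t
        · rw [(hcartl t).lift_snd, ← cancel_mono (eqToHom e.symm)]
          refine hL.hom_ext fun j => ?_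
          simp only [Category.assoc, eqToHom_trans_assoc, eqToHom_refl, Category.id_comp, hL.fac]
          show n ≫ al.left ≫ eqToHom e.symm ≫ L.π.app j = s.π.app j ≫ (a j).left
          rw [← hpp]
          rw [← (hcartl j).w, ← Category.assoc]
          exact congrArg (· ≫ (a j).left) (hn j) }
  have hGq : ∀ j : Over i₁, IsQuasiSeparatedSp ((yon S).obj (G.obj j)) := fun j => by
    have := hG j
    exact (repWith_diag_yon_iff @QuasiCompact (G.obj j)).2 (inferInstanceAs (QuasiCompact (pullback.diagonal (G.obj j).hom)))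
  refine ⟨W, z, G, zz, pp, L, e, H, a, b, Rl, al, bl, r, cH, rfl, ⟨hL⟩, ⟨hcH⟩, hW, repWith_baseChange sq.flip hge,
    repWith_baseChange sq.flip hgs, fun j => ⟨hG j, hzze j, hzzs j⟩, hpp, fun j => (Category.id_comp _).symm,
    fun f => sqG f, sqW, sqR, sqRl, fun f => ⟨hma f, hmb f⟩, fun j => ⟨hra j, hrb j⟩, fun f => hcart f,
    fun j => ?_, fun {j k} f => ?_⟩
  · have := hG j
    obtain ⟨h1, h2⟩ := SpQS.qcqs_of_isPullback (IsAlgSpace.yon_obj _) (hD j.left) (IsAlgSpace.yon_obj _) (sqR j)
      (isQuasiCompactSp_yon _) (hGq j) (hqs j.left) (isQuasiCompactSp_yon _) (hGq j)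
    exact ⟨compactSpace_of_sp h1, quasiSeparatedSpace_of_sp h2⟩
  · have := hG j
    have := hG k
    exact ⟨MorphismProperty.of_isPullback (P := @IsAffineHom) (hcart f).flip
      (inferInstance : IsAffineHom (G.map f).left), inferInstance⟩

end Groth.Agent.SpDesc
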