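import Groth.Agent.SpDesc.Chart
import Groth.Agent.SpQS.Basic
import Groth.Agent.AlgSpLib.DiagFP
import Groth.Agent.AlgSpLib.LocalTarget
import Groth.Agent.AlgSpLib.Covers
import Groth.Agent.AlgSpLib.DiagProp

/-!
# Descending properties of morphisms of algebraic spaces along limits
-/

set_option autoImplicit false

universe u

open CategoryTheory CategoryTheory.Limits AlgebraicGeometry

set_option backward.isDefEq.respectTransparency false

namespace Groth.Agent.SpDesc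

open _root_.AlgSp Groth.Agent.AlgSpLib Groth.Agent.SchImg

variable {S : Scheme.{u}}

theorem quasiSeparatedSpace_of_sp [QuasiSeparatedSpace ↥S] {U : Over S}
    (h : IsQuasiSeparatedSp ((yon S).obj U)) : QuasiSeparatedSpace ↥U.left := by
  have : QuasiCompact (pullback.diagonal U.hom) := (repWith_diag_yon_iff @QuasiCompact U).1 h
  have : QuasiSeparated U.hom := ⟨this⟩
  exact quasiSeparatedSpace_of_quasiSeparated U.hom

theorem compactSpace_of_sp {U : Over S} (h : IsQuasiCompactSp ((yon S).obj U)) : CompactSpace ↥U.left := by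
  have := compactSpace_of_isQuasiCompactSp h
  exact (Points.schemeHomeo U).symm.compactSpace

/-- a property local on the target may be checked on one chart -/
theorem repWith_of_chart (P : MorphismProperty Scheme.{u}) [P.IsStableUnderBaseChange]
    [P.IsLocalAtTarget Scheme.etalePrecoverage] {X Y : Sp S} (hY : IsAlgSpace Y) {f : X ⟶ Y}
    (hf : Representable f) {V W : Over S} {b : (yon S).obj V ⟶ Y} (hb1 : RepWith @Etale b)
    (hb2 : RepWith @Surjective b) {fst : (yon S).obj W ⟶ X} {snd : W ⟶ V}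
    (sq : IsPullback fst ((yon S).map snd) f b) (hP : P snd.left) : RepWith P f := by
  refine repWith_of_exists fun T ξ => ?_
  obtain ⟨F, fstT, sndT, sqT⟩ := exists_isPullback_of_representable hf ξ
  refine ⟨F, fstT, sndT, sqT, ?_⟩
  obtain ⟨R, r, r', sqR⟩ := exists_pullback hY.diag b ξ
  have hr' : Etale r'.left := (repWith_yon_iff r').1 (repWith_baseChange sqR hb1)
  have hr's : Surjective r'.left := (repWith_yon_iff r').1 (repWith_baseChange sqR hb2)
  obtain ⟨Q, q, qR, sqQ⟩ := exists_pullback (IsAlgSpace.yon_obj V).diag ((yon S).map snd) ((yon S).map r)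
  obtain ⟨Q', q', qR', sqQ'⟩ := exists_pullback (IsAlgSpace.yon_obj T).diag ((yon S).map sndT) ((yon S).map r')
  have h1 : P qR.left := MorphismProperty.of_isPullback (isPullback_yon_iff.1 sqQ) hP
  have s1 := sqQ.paste_horiz sq
  have s2 := sqQ'.paste_horiz sqT
  rw [← sqR.w] at s2
  obtain ⟨φ, hφ⟩ := exists_map_eq (s2.isoIsPullback _ _ s1).hom
  have : IsIso ((yon S).map φ) := by rw [hφ]; infer_instance
  have : IsIso φ := isIso_of_reflects_iso φ (yon S)
  have e : φ ≫ qR = qR' := (yon S).map_injective (by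
    rw [Functor.map_comp, hφ]; exact s2.isoIsPullback_hom_snd _ _ s1)
  have h2 : P qR'.left := by
    rw [← e, Over.comp_left]
    exact (MorphismProperty.cancel_left_of_respectsIso P _ _).2 h1
  have hsch' := isPullback_yon_iff.1 sqQ'
  refine MorphismProperty.IsLocalAtTarget.of_forall_pullbackSnd (K := Scheme.etalePrecoverage)
    (R := Presieve.singleton r'.left) ((Scheme.singleton_mem_precoverage_iff _ r'.left).2 ⟨hr's.surj, hr'⟩)
    fun {U g} _ hg => ?_
  cases hg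
  rw [← P.cancel_left_of_respectsIso hsch'.isoPullback.hom, hsch'.isoPullback_hom_snd]
  exact h2

/-- base change of charts of `f₀` along a base change of the base -/
theorem exists_chart_bc {B₀ B' X₀ Y₀ X' Y' : Sp S} {π : B' ⟶ B₀} {f₀ : X₀ ⟶ Y₀} {b₀ : Y₀ ⟶ B₀}
    {pY : Y' ⟶ Y₀} {qY : Y' ⟶ B'} (hY : IsPullback pY qY b₀ π) {pX : X' ⟶ X₀} {f : X' ⟶ Y'}
    (hX : IsPullback pX f f₀ pY) {U V Vi Ui : Over S} {p : (yon S).obj U ⟶ X₀} {q : (yon S).obj V ⟶ Y₀}
    {h : U ⟶ V} (comm : p ≫ f₀ = (yon S).map h ≫ q) {zi : (yon S).obj Vi ⟶ B'} {vi : Vi ⟶ V}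
    (sqV : IsPullback zi ((yon S).map vi) π (q ≫ b₀)) {ri : Ui ⟶ U} {si : Ui ⟶ Vi}
    (sqU : IsPullback ri.left si.left h.left vi.left) :
    ∃ (a : (yon S).obj Ui ⟶ X') (b : (yon S).obj Vi ⟶ Y'), a ≫ f = (yon S).map si ≫ b ∧
      IsPullback ((yon S).map vi) b q pY ∧ IsPullback ((yon S).map ri) a p pX := by
  let b := hY.lift ((yon S).map vi ≫ q) zi (by rw [Category.assoc]; exact sqV.w.symm)
  have sqb : IsPullback ((yon S).map vi) b q pY :=
    IsPullback.of_bot (by rw [hY.lift_snd]; exact sqV.flip) (hY.lift_fst _ _ _).symm hY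
  have sqU' : IsPullback ((yon S).map ri) ((yon S).map si) ((yon S).map h) ((yon S).map vi) :=
    isPullback_yon_iff.2 sqU
  have sqUV := sqU'.paste_vert sqb
  rw [← comm] at sqUV
  let a := hX.lift ((yon S).map ri ≫ p) ((yon S).map si ≫ b) (by rw [Category.assoc]; exact sqUV.w)
  exact ⟨a, b, hX.lift_snd _ _ _, sqb,
    IsPullback.of_bot (by rw [hX.lift_snd]; exact sqUV) (hX.lift_fst _ _ _).symm hX⟩

section

variable {I : Type u} [SmallCategory I] [IsCofiltered I] (D : I ⥤ Sp S)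
  (hD : ∀ i, IsAlgSpace (D.obj i)) (hDa : ∀ (i j : I) (φ : i ⟶ j), IsAffineMor (D.map φ))
  (c : Cone D) (hc : IsLimit c) (i₀ : I) {X₀ Y₀ : Sp S} (hX₀ : IsAlgSpace X₀) (hY₀ : IsAlgSpace Y₀)
  (f₀ : X₀ ⟶ Y₀) (b₀ : Y₀ ⟶ D.obj i₀)

/-- `P'` holds for the base change of `f₀` at some stage -/
def AtStage (P' : MorphismProperty (Sp S)) : Prop :=
  ∃ (i : I) (φ : i ⟶ i₀), ∀ (Xi Yi : Sp S) (fi : Xi ⟶ Yi) (pYi : Yi ⟶ Y₀) (qYi : Yi ⟶ D.obj i)
    (_ : IsPullback pYi qYi b₀ (D.map φ)) (pXi : Xi ⟶ X₀) (_ : IsPullback pXi fi f₀ pYi), P' fi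

include hDa hc in
/-- stages of the chart -/
theorem exists_stage_of_chart {Q P : MorphismProperty Scheme.{u}} [Q.RespectsIso] [P.IsStableUnderBaseChange]
    (hP : Descends Q P) {U V : Over S} [IsAffine V.left] {q : (yon S).obj V ⟶ Y₀} {p : (yon S).obj U ⟶ X₀}
    {h : U ⟶ V} (comm : p ≫ f₀ = (yon S).map h ≫ q)
    [CompactSpace U.left] [QuasiSeparatedSpace U.left] (hQ : Q h.left)
    {X Y : Sp S} {f : X ⟶ Y} {pY : Y ⟶ Y₀} {qY : Y ⟶ c.pt} (hY : IsPullback pY qY b₀ (c.π.app i₀))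
    {pX : X ⟶ X₀} (hX : IsPullback pX f f₀ pY)
    (hPf : ∀ (U' W : Over S) (r : U' ⟶ U) (v : W ⟶ V) (s : U' ⟶ W) (a : (yon S).obj U' ⟶ X)
      (b : (yon S).obj W ⟶ Y), IsPullback r.left s.left h.left v.left → a ≫ f = (yon S).map s ≫ b →
      IsPullback ((yon S).map v) b q pY → IsPullback ((yon S).map r) a p pX → P s.left)
    (P' : MorphismProperty (Sp S))
    (hP' : ∀ (i : I) (Xi Yi : Sp S) (fi : Xi ⟶ Yi) (φ : i ⟶ i₀) (pYi : Yi ⟶ Y₀) (qYi : Yi ⟶ D.obj i)
      (pXi : Xi ⟶ X₀), IsPullback pYi qYi b₀ (D.map φ) → IsPullback pXi fi f₀ pYi →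
      ∀ (Ui Vi : Over S) (ri : Ui ⟶ U) (vi : Vi ⟶ V) (si : Ui ⟶ Vi) (a : (yon S).obj Ui ⟶ Xi)
      (b : (yon S).obj Vi ⟶ Yi), IsPullback ri.left si.left h.left vi.left → a ≫ fi = (yon S).map si ≫ b →
      IsPullback ((yon S).map vi) b q pYi → IsPullback ((yon S).map ri) a p pXi → P si.left → P' fi) :
    AtStage D i₀ f₀ b₀ P' := by
  obtain ⟨W, v, z, -, sq, -⟩ :=
    exists_lim_square D (fun i j φ => (isAffineMor_iff_repWith _).1 (hDa i j φ)) c hc i₀ (q ≫ b₀)
  let U' : Over S := Over.mk (pullback.snd h.left v.left ≫ W.hom)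
  let r : U' ⟶ U := Over.homMk (pullback.fst h.left v.left) (by
    show pullback.fst h.left v.left ≫ U.hom = pullback.snd h.left v.left ≫ W.hom
    rw [← Over.w h, pullback.condition_assoc, Over.w v])
  let s : U' ⟶ W := Over.homMk (pullback.snd h.left v.left) rfl
  have sqU : IsPullback r.left s.left h.left v.left := IsPullback.of_hasPullback h.left v.left
  obtain ⟨a, b, e, sqb, sqa⟩ := exists_chart_bc hY hX comm sq sqU
  obtain ⟨i, φ, H⟩ := exists_stage_chart hP D hDa c hc i₀ (q ≫ b₀) h hQ sq sqU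
    (hPf U' W r v s a b sqU e sqb sqa)
  refine ⟨i, φ, fun Xi Yi fi pYi qYi hYi pXi hXi => ?_⟩
  obtain ⟨Vi, zi, vi, sqVi, -⟩ := exists_repWith ((isAffineMor_iff_repWith _).1 (hDa i i₀ φ)) (q ≫ b₀)
  let Ui : Over S := Over.mk (pullback.snd h.left vi.left ≫ Vi.hom)
  let ri : Ui ⟶ U := Over.homMk (pullback.fst h.left vi.left) (by
    show pullback.fst h.left vi.left ≫ U.hom = pullback.snd h.left vi.left ≫ Vi.hom
    rw [← Over.w h, pullback.condition_assoc, Over.w vi])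
  let si : Ui ⟶ Vi := Over.homMk (pullback.snd h.left vi.left) rfl
  have sqUi : IsPullback ri.left si.left h.left vi.left := IsPullback.of_hasPullback h.left vi.left
  obtain ⟨ai, bi, ei, sqbi, sqai⟩ := exists_chart_bc hYi hXi comm sqVi sqUi
  exact hP' i Xi Yi fi φ pYi qYi pXi hYi hXi Ui Vi ri vi si ai bi sqUi ei sqbi sqai
    (H Vi zi vi sqVi Ui ri si sqUi)

variable [QuasiSeparatedSpace ↥S] (hXqc : IsQuasiCompactSp X₀) (hXqs : IsQuasiSeparatedSp X₀)
  (hYqc : IsQuasiCompactSp Y₀) (hYqs : IsQuasiSeparatedSp Y₀)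

include hX₀ hY₀ hXqc hYqc hYqs in
/-- affine charts of a morphism -/
theorem exists_affine_charts : ∃ (U V : Over S) (p : (yon S).obj U ⟶ X₀) (q : (yon S).obj V ⟶ Y₀) (h : U ⟶ V),
    IsAffine U.left ∧ IsAffine V.left ∧ RepWith @Etale p ∧ RepWith @Surjective p ∧ RepWith @Etale q ∧
      RepWith @Surjective q ∧ p ≫ f₀ = (yon S).map h ≫ q ∧
      ∀ (x : Points X₀) (v : ↥V.left), Points.map f₀ x = Points.ofPt q v → ∃ u, Points.ofPt p u = x ∧ h.left u = v := by
  have := compactSpace_of_isQuasiCompactSp hYqc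
  obtain ⟨V, q, hV, hqe, hqs⟩ := exists_affine_chart_of_compact hY₀
  have sq := IsPullback.of_hasPullback f₀ q
  have hP := isAlgSpace_of_isPullback_space hY₀ hX₀ (IsAlgSpace.yon_obj V) sq
  have hfq := SpQS.isQuasiCompactMor_of_qc_qs hX₀ hY₀ f₀ hXqc hYqs
  have hPq : IsQuasiCompactSp (pullback f₀ q) :=
    hfq (IsAlgSpace.yon_obj V) (isQuasiCompactSp_yon V) q _ _ sq
  have := compactSpace_of_isQuasiCompactSp hPq
  obtain ⟨U, c', hU, hce, hcs⟩ := exists_affine_chart_of_compact hP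
  obtain ⟨h, hh⟩ := exists_map_eq (c' ≫ pullback.snd f₀ q)
  refine ⟨U, V, c' ≫ pullback.fst f₀ q, q, h, hU, hV, repWith_comp hce (repWith_baseChange sq.flip hqe),
    repWith_comp hcs (repWith_baseChange sq.flip hqs), hqe, hqs, by
      rw [hh, Category.assoc, Category.assoc, sq.w], fun x v e => ?_⟩
  obtain ⟨t, ht1, ht2⟩ := exists_point_of_isPullback sq x (Points.ofScheme V v)
    (by rw [e, Points.ofPt_eq_map_ofScheme])
  obtain ⟨u, rfl⟩ := ofPt_surjective hcs t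
  refine ⟨u, by rwa [Points.map_ofPt] at ht1, ?_⟩
  rw [Points.map_ofPt, ← hh, ofScheme_map] at ht2
  exact (Points.schemeEquiv V).injective ht2

include hDa hc hX₀ hY₀ hD hXqc hYqc hYqs in
/-- properties local on source and target descend -/
theorem atStage_locP {Q P : MorphismProperty Scheme.{u}} [Q.RespectsIso] (hEt : EtST P) (hP : Descends Q P)
    (hQ : LocP Q f₀) {X Y : Sp S} {f : X ⟶ Y} {pY : Y ⟶ Y₀} {qY : Y ⟶ c.pt}
    (hY : IsPullback pY qY b₀ (c.π.app i₀)) {pX : X ⟶ X₀} (hX : IsPullback pX f f₀ pY) (hPf : LocP P f) :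
    AtStage D i₀ f₀ b₀ (LocP P) := by
  have := hEt.baseChange
  obtain ⟨U, V, p, q, h, hU, hV, hpe, hps, hqe, hqs, comm, -⟩ :=
    exists_affine_charts hX₀ hY₀ f₀ hXqc hYqc hYqs
  refine exists_stage_of_chart D hDa c hc i₀ f₀ b₀ hP comm (hQ p q h hpe hqe comm) hY hX
    (fun U' W r v s a b _ e sqb sqa => hPf a b s (repWith_baseChange sqa hpe) (repWith_baseChange sqb hqe) e)
    _ fun i Xi Yi fi φ pYi qYi pXi hYi hXi Ui Vi ri vi si a b _ e sqb sqa hsi => ?_
  have hYi' := isAlgSpace_of_isPullback_space (hD i₀) hY₀ (hD i) hYi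
  exact locP_of_chart hEt (isAlgSpace_of_isPullback_space hY₀ hX₀ hYi' hXi) hYi'
    (repWith_baseChange sqa hpe) (repWith_baseChange sqa hps) (repWith_baseChange sqb hqe) e hsi

include hDa hc hX₀ hY₀ hXqc hYqc hYqs in
/-- surjectivity descends -/
theorem atStage_surjective {Q : MorphismProperty Scheme.{u}} [Q.RespectsIso] (hP : Descends Q @Surjective)
    (hQ : LocP Q f₀) {X Y : Sp S} {f : X ⟶ Y} {pY : Y ⟶ Y₀} {qY : Y ⟶ c.pt}
    (hY : IsPullback pY qY b₀ (c.π.app i₀)) {pX : X ⟶ X₀} (hX : IsPullback pX f f₀ pY)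
    (hf : IsSurjectiveMor f) : AtStage D i₀ f₀ b₀ (fun _ _ g => IsSurjectiveMor g) := by
  obtain ⟨U, V, p, q, h, hU, hV, hpe, hps, hqe, hqs, comm, hfib⟩ :=
    exists_affine_charts hX₀ hY₀ f₀ hXqc hYqc hYqs
  refine exists_stage_of_chart D hDa c hc i₀ f₀ b₀ hP comm (hQ p q h hpe hqe comm) hY hX
    (fun U' W r v s a b sqU e sqb sqa => ⟨fun w => ?_⟩) _
    fun i Xi Yi fi φ pYi qYi pXi hYi hXi Ui Vi ri vi si a b _ e sqb sqa hsi y => ?_
  · obtain ⟨x, hx⟩ := hf (Points.ofPt b w)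
    obtain ⟨u, -, hu⟩ := hfib (Points.map pX x) (v.left w) (by
      rw [← Points.map_comp, hX.w, Points.map_comp, hx, Points.map_ofPt, ← sqb.w, ofPt_comp])
    obtain ⟨t, -, ht⟩ := Scheme.exists_preimage_of_isPullback sqU u w hu
    exact ⟨t, ht⟩
  · obtain ⟨w, rfl⟩ := ofPt_surjective (repWith_baseChange sqb hqs) y
    have : Surjective si.left := hsi
    obtain ⟨t, rfl⟩ := si.left.surjective w
    exact ⟨Points.ofPt a t, by rw [Points.map_ofPt, e, ofPt_comp]⟩

include hDa hc hX₀ hY₀ hD hXqc hXqs hYqc hYqs in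
/-- properties of representable morphisms local on the target descend -/
theorem atStage_repWith {Q P : MorphismProperty Scheme.{u}} [Q.RespectsIso] [P.IsStableUnderBaseChange]
    [P.IsLocalAtTarget Scheme.etalePrecoverage] (hP : Descends Q P)
    (hQ : RepWith Q f₀) {X Y : Sp S} {f : X ⟶ Y} {pY : Y ⟶ Y₀} {qY : Y ⟶ c.pt}
    (hY : IsPullback pY qY b₀ (c.π.app i₀)) {pX : X ⟶ X₀} (hX : IsPullback pX f f₀ pY) (hPf : RepWith P f) :
    AtStage D i₀ f₀ b₀ (RepWith P) := by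
  have := compactSpace_of_isQuasiCompactSp hYqc
  obtain ⟨V, q, hV, hqe, hqs⟩ := exists_affine_chart_of_compact hY₀
  obtain ⟨U, p, h, sq, hUQ⟩ := exists_repWith hQ q
  have hVs : IsQuasiSeparatedSp ((yon S).obj V) :=
    (repWith_diag_yon_iff @QuasiCompact V).2 (inferInstanceAs (QuasiCompact (pullback.diagonal V.hom)))
  obtain ⟨hUc, hUs⟩ := SpQS.qcqs_of_isPullback hX₀ hY₀ (IsAlgSpace.yon_obj V) sq hXqc hXqs hYqs
    (isQuasiCompactSp_yon V) hVs
  have := compactSpace_of_sp hUc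
  have := quasiSeparatedSpace_of_sp hUs
  refine exists_stage_of_chart D hDa c hc i₀ f₀ b₀ hP sq.w hUQ hY hX
    (fun U' W r v s a b sqU e sqb sqa => hPf.2 b a s ?_) _
    fun i Xi Yi fi φ pYi qYi pXi hYi hXi Ui Vi ri vi si a b sqU e sqb sqa hsi => ?_
  · refine IsPullback.of_right ?_ e hX
    rw [← sqa.w, ← sqb.w]
    exact (isPullback_yon_iff.2 sqU).paste_horiz sq
  · have hYi' := isAlgSpace_of_isPullback_space (hD i₀) hY₀ (hD i) hYi
    refine repWith_of_chart P hYi' (repWith_baseChange hXi hQ).1 (repWith_baseChange sqb hqe)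
      (repWith_baseChange sqb hqs) (fst := a) ?_ hsi
    refine IsPullback.of_right ?_ e hXi
    rw [← sqa.w, ← sqb.w]
    exact (isPullback_yon_iff.2 sqU).paste_horiz sq

end

end Groth.Agent.SpDesc
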