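import Groth.Agent.SpDesc.AffStage
import Groth.Agent.SpDesc.BaseChange
import Groth.Agent.LimMore.ClosedScheme

/-!
# Affine morphisms and closed immersions from the limit come from stages
-/

set_option autoImplicit false

universe u

open CategoryTheory CategoryTheory.Limits AlgebraicGeometry

set_option backward.isDefEq.respectTransparency false

namespace Groth.Agent.SpDesc

open _root_.AlgSp Groth.Agent.AlgSpLib Groth.Agent.SchImg

variable {S : Scheme.{u}}

theorem repWith_affine_cancel {X Y Z : Sp S} (hY : IsAlgSpace Y) (hZ : IsAlgSpace Z) {f : X ⟶ Y} {g : Y ⟶ Z}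
    (hfg : RepWith @IsAffineHom (f ≫ g)) (hg : RepWith @IsAffineHom g) : RepWith @IsAffineHom f := by
  have hd : RepWith @IsAffineHom (pullback.diagonal g) := repWith_mono (P := @IsClosedImmersion)
    (fun _ _ r hr => by
      have : IsClosedImmersion r := hr
      exact (inferInstance : IsAffineHom r)) (repWith_diag_of_affineHom hY hZ hg)
  let γ : X ⟶ pullback (f ≫ g) g := pullback.lift (𝟙 X) f (by simp)
  have hsq : IsPullback f γ (pullback.diagonal g)
      (pullback.map (f ≫ g) g g g f (𝟙 Y) (𝟙 Z) (by simp) (by simp)) := pullback_lift_diagonal_isPullback f g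
  have e : f = γ ≫ pullback.snd (f ≫ g) g := (pullback.lift_snd _ _ _).symm
  rw [e]
  exact repWith_comp (repWith_baseChange hsq hd) (repWith_baseChange (IsPullback.of_hasPullback (f ≫ g) g) hfg)

set_option maxHeartbeats 1000000 in
theorem exists_eventually_affine {I : Type u} [SmallCategory I] [IsCofiltered I] [QuasiSeparatedSpace ↥S]
    (D : I ⥤ Sp S) (hD : ∀ i, IsAlgSpace (D.obj i)) (hDa : ∀ (i j : I) (φ : i ⟶ j), IsAffineMor (D.map φ))
    (c : Cone D) (hc : IsLimit c) (i₁ : I) (hqc : IsQuasiCompactSp (D.obj i₁))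
    (hqs : IsQuasiSeparatedSp (D.obj i₁)) {Y : Sp S} (hY : IsAlgSpace Y) (hYq : IsQuasiCompactSp Y)
    (hYs : IsQuasiSeparatedSp Y) (τ : D.obj i₁ ⟶ Y) (haff : IsAffineMor (c.π.app i₁ ≫ τ)) :
    ∃ l₀ : Over i₁, ∀ (l : Over i₁) (_ : l ⟶ l₀), RepWith @IsAffineHom (D.map l.hom ≫ τ) := by
  have := compactSpace_of_isQuasiCompactSp hYq
  obtain ⟨V, p, hV, hpe, hps⟩ := exists_affine_chart_of_compact hY
  have hVs : IsQuasiSeparatedSp ((yon S).obj V) :=
    (repWith_diag_yon_iff @QuasiCompact V).2 (inferInstanceAs (QuasiCompact (pullback.diagonal V.hom)))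
  obtain ⟨E, cE, α, β, αL, βL, ⟨hcE⟩, hE, hEa, hEsq, hEL, -, -⟩ :=
    exists_bc_tower D hD hDa c hc i₁ hqc hqs hY (IsAlgSpace.yon_obj V) hYs (isQuasiCompactSp_yon V) hVs τ p
  obtain ⟨W, i, fst, sqW, hW⟩ := haff hV p
  obtain ⟨t₀⟩ : Nonempty (Over i₁) := ⟨Over.mk (𝟙 i₁)⟩
  obtain ⟨l₀, hl₀⟩ := exists_affine_stage E (fun l => (hE l).1) hEa cE hcE t₀ (hE t₀).2.1 (fun l => (hE l).2.2)
    (T := W) (sqW.isoIsPullback _ _ hEL)
  refine ⟨l₀, fun l f => ?_⟩
  obtain ⟨T', hT', ⟨θ⟩⟩ := hl₀ l f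
  obtain ⟨m, hm⟩ := exists_map_eq (θ.hom ≫ β l)
  have hma : RepWith @IsAffineHom ((yon S).map m) := (repWith_yon_iff m).2 (inferInstance : IsAffineHom m.left)
  have hβ : RepWith @IsAffineHom (β l) := by
    rw [hm] at hma
    exact (repWith_iso_comp_iff θ.hom _).1 hma
  exact AlgSpLib.of_chart (isLocalOnBase_repWith @IsAffineHom fun _ _ r hr => by
    have : IsAffineHom r := hr
    exact indQA_of_isAffineHom r) (hD l.left) hY _ hpe hps (hEsq l) hβ

set_option maxHeartbeats 1000000 in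
theorem exists_eventually_closed_base {I : Type u} [SmallCategory I] [IsCofiltered I] [QuasiSeparatedSpace ↥S]
    (D : I ⥤ Sp S) (hD : ∀ i, IsAlgSpace (D.obj i))
    (hDc : ∀ (i j : I) (φ : i ⟶ j), RepWith @IsClosedImmersion (D.map φ))
    (c : Cone D) (hc : IsLimit c) (i₁ : I) (hqc : IsQuasiCompactSp (D.obj i₁))
    (hqs : IsQuasiSeparatedSp (D.obj i₁)) {Y : Sp S} (hY : IsAlgSpace Y) (hYq : IsQuasiCompactSp Y)
    (hYs : IsQuasiSeparatedSp Y) (τ : D.obj i₁ ⟶ Y) (hft : LocP @LocallyOfFiniteType τ)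
    (hcl : RepWith @IsClosedImmersion (c.π.app i₁ ≫ τ)) :
    ∃ l₀ : Over i₁, ∀ (l : Over i₁) (_ : l ⟶ l₀), RepWith @IsClosedImmersion (D.map l.hom ≫ τ) := by
  have hDa : ∀ (i j : I) (φ : i ⟶ j), IsAffineMor (D.map φ) := fun i j φ =>
    (isAffineMor_iff_repWith _).2 (repWith_mono (fun _ _ r hr => by
      have : IsClosedImmersion r := hr
      infer_instance) (hDc i j φ))
  obtain ⟨k, hk⟩ := exists_eventually_affine D hD hDa c hc i₁ hqc hqs hY hYq hYs τ
    ((isAffineMor_iff_repWith _).2 (repWith_mono (fun _ _ r hr => by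
      have : IsClosedImmersion r := hr
      infer_instance) hcl))
  have hτk := hk k (𝟙 k)
  have := compactSpace_of_isQuasiCompactSp hYq
  obtain ⟨V, p, hV, hpe, hps⟩ := exists_affine_chart_of_compact hY
  obtain ⟨T, g, n, sqT, hn⟩ := exists_repWith hτk p
  have : IsAffine T.left := isAffine_of_isAffineHom n.left
  obtain ⟨W, v, z, hW, sq, -, G, zz, vv, L, pp, e, ⟨hL⟩, hG, hpp, sqj, hGz, hzp, hvv, hpv⟩ :=
    exists_lim_square D (fun i j φ => (isAffineMor_iff_repWith _).1 (hDa i j φ)) c hc k.left g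
  have : IsClosedImmersion (v ≫ n).left := by
    have h : IsPullback z ((yon S).map (v ≫ n)) (c.π.app k.left ≫ D.map k.hom ≫ τ) p := by
      rw [Functor.map_comp]
      exact sq.paste_vert sqT
    rw [c.w_assoc] at h
    exact hcl.2 _ _ _ h
  have hsqs : ∀ j : Over k.left, IsPullback (zz j) ((yon S).map (vv j ≫ n)) (D.map (j.hom ≫ k.hom) ≫ τ) p := fun j => by
    rw [Functor.map_comp, D.map_comp, Category.assoc]
    exact (sqj j).paste_vert sqT
  have hrep : ∀ j : Over k.left, RepWith @IsAffineHom (D.map (j.hom ≫ k.hom) ≫ τ) := fun j =>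
    hk (Over.mk (j.hom ≫ k.hom)) (Over.homMk j.hom rfl)
  have : ∀ j, LocallyOfFiniteType (vv j ≫ n).left := fun j => by
    have h1 : LocP @LocallyOfFiniteType (D.map (j.hom ≫ k.hom) ≫ τ) :=
      locP_comp etST_lft (hD i₁) hY ((locP_iff_repWith etST_lft (hD _) (hDc _ _ _).1).2
        (repWith_mono (fun _ _ r hr => by
          have : IsClosedImmersion r := hr
          infer_instance) (hDc _ _ (j.hom ≫ k.hom)))) hft
    exact ((locP_iff_repWith etST_lft hY (hrep j).1).1 h1).2 _ _ _ (hsqs j)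
  have : ∀ {i j : Over k.left} (f : i ⟶ j), IsClosedImmersion ((G ⋙ Over.forget S).map f) := fun {i j} f => by
    have sqG : IsPullback (zz i) ((yon S).map (G.map f)) (D.map f.left) (zz j) := by
      refine IsPullback.of_bot ?_ (hGz f).symm (sqj j)
      rw [← Functor.map_comp, hvv f, ← D.map_comp, Over.w f]
      exact sqj i
    exact (hDc _ _ f.left).2 _ _ _ sqG
  have : ∀ j, CompactSpace ((G ⋙ Over.forget S).obj j) := fun j => by
    have := hG j
    exact inferInstanceAs (CompactSpace (G.obj j).left)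
  have : ∀ j, QuasiSeparatedSpace ((G ⋙ Over.forget S).obj j) := fun j => by
    have := hG j
    exact inferInstanceAs (QuasiSeparatedSpace (G.obj j).left)
  let t : Over k.left := Over.mk (𝟙 k.left)
  have : IsClosedImmersion (L.π.app t ≫ (vv t ≫ n).left) := by
    have e1 : L.π.app t ≫ (vv t ≫ n).left = eqToHom e ≫ (v ≫ n).left := by
      rw [← hpv t]
      simp only [Over.comp_left, hpp, Category.assoc, eqToHom_trans_assoc, eqToHom_refl, Category.id_comp]
    rw [e1]
    infer_instance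
  obtain ⟨j₀, hj₀⟩ := LimMore.exists_isClosedImmersion_over (G ⋙ Over.forget S) (fun j => (vv j ≫ n).left)
    (fun {i j} f => by
      show (G.map f).left ≫ _ = _
      rw [← Over.comp_left, ← Category.assoc, hvv f]) L hL t
  refine ⟨Over.mk (j₀.hom ≫ k.hom), fun l f => ?_⟩
  have e1 : f.left ≫ j₀.hom ≫ k.hom = l.hom := Over.w f
  let j : Over k.left := Over.mk (f.left ≫ j₀.hom)
  have hj := hj₀ j (Over.homMk f.left rfl)
  have hjk : j.hom ≫ k.hom = l.hom := by simp [j, e1]
  rw [← hjk]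
  exact repWith_of_chart @IsClosedImmersion hY (hrep j).1 hpe hps (hsqs j) hj

end Groth.Agent.SpDesc
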