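import Groth.Agent.SchImg.LimSpace

/-!
# Descending properties along limits of algebraic spaces: one affine chart
-/

set_option autoImplicit false

universe u

open CategoryTheory CategoryTheory.Limits AlgebraicGeometry

set_option backward.isDefEq.respectTransparency false

namespace Groth.Agent.SpDesc

open _root_.AlgSp Groth.Agent.AlgSpLib Groth.Agent.SchImg

/-- `P` descends along limits of schemes with affine transition maps, for quasi-compact quasi-separated
schemes with a `Q` morphism to a quasi-compact quasi-separated stage -/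
def Descends (Q P : MorphismProperty Scheme.{u}) : Prop :=
  ∀ {I : Type u} [SmallCategory I] [IsCofiltered I] (D : I ⥤ Scheme.{u}) (c : Cone D) (_ : IsLimit c)
    [∀ (i j : I) (f : i ⟶ j), IsAffineHom (D.map f)] (i₀ : I) [CompactSpace (D.obj i₀)]
    [QuasiSeparatedSpace (D.obj i₀)] {X₀ : Scheme.{u}} (f₀ : X₀ ⟶ D.obj i₀)
    [CompactSpace X₀] [QuasiSeparatedSpace X₀], Q f₀ →
    ∀ {X : Scheme.{u}} (f : X ⟶ c.pt) (qX : X ⟶ X₀), IsPullback qX f f₀ (c.π.app i₀) → P f →
    ∃ (i : I) (φ : i ⟶ i₀) (Xi : Scheme.{u}) (fi : Xi ⟶ D.obj i) (pX : Xi ⟶ X₀),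
      IsPullback pX fi f₀ (D.map φ) ∧ P fi

/-- from the statements with an auxiliary scheme over the stage -/
theorem descends_of_over {Q P : MorphismProperty Scheme.{u}} [P.RespectsIso]
    (h : ∀ {I : Type u} [SmallCategory I] [IsCofiltered I]
      (D : I ⥤ Scheme.{u}) (c : Cone D) (_ : IsLimit c)
      [∀ (i j : I) (f : i ⟶ j), IsAffineHom (D.map f)] (i₀ : I) [CompactSpace (D.obj i₀)]
      [QuasiSeparatedSpace (D.obj i₀)] {X₀ Y₀ : Scheme.{u}} (f₀ : X₀ ⟶ Y₀) (g₀ : Y₀ ⟶ D.obj i₀)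
      [CompactSpace X₀] [QuasiSeparatedSpace X₀] [CompactSpace Y₀] [QuasiSeparatedSpace Y₀]
      (_ : Q f₀)
      {X Y : Scheme.{u}} (f : X ⟶ Y) (g : Y ⟶ c.pt) (qY : Y ⟶ Y₀) (qX : X ⟶ X₀),
      IsIso g₀ → IsPullback qY g g₀ (c.π.app i₀) → IsPullback qX f f₀ qY → P f →
      ∃ (i : I) (φ : i ⟶ i₀) (Xi Yi : Scheme.{u}) (fi : Xi ⟶ Yi) (gi : Yi ⟶ D.obj i) (pY : Yi ⟶ Y₀)
        (pX : Xi ⟶ X₀), IsPullback pY gi g₀ (D.map φ) ∧ IsPullback pX fi f₀ pY ∧ P fi) :
    Descends Q P := by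
  intro I _ _ D c hc _ i₀ _ _ X₀ f₀ _ _ hQ X f qX hX hP
  have hY : IsPullback (c.π.app i₀) (𝟙 c.pt) (𝟙 (D.obj i₀)) (c.π.app i₀) := IsPullback.id_vert (c.π.app i₀)
  obtain ⟨i, φ, Xi, Yi, fi, gi, pY, pX, hYi, hXi, hfi⟩ :=
    h D c hc i₀ f₀ (𝟙 _) hQ f (𝟙 _) (c.π.app i₀) qX inferInstance hY hX hP
  have : IsIso gi := hYi.isIso_snd_of_isIso
  refine ⟨i, φ, Xi, fi ≫ gi, pX, ?_, MorphismProperty.RespectsIso.postcomp P gi fi hfi⟩
  exact hXi.of_iso (Iso.refl _) (Iso.refl _) (asIso gi) (Iso.refl _) (by simp) (by simp) (by simp) (by simpa using hYi.w)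

variable {S : Scheme.{u}}

theorem exists_stage_chart {Q P : MorphismProperty Scheme.{u}} [Q.RespectsIso] [P.IsStableUnderBaseChange]
    (hP : Descends Q P)
    {I : Type u} [SmallCategory I] [IsCofiltered I] (D : I ⥤ Sp S)
    (hDa : ∀ (i j : I) (φ : i ⟶ j), IsAffineMor (D.map φ)) (c : Cone D) (hc : IsLimit c) (i₀ : I)
    {V U : Over S} [IsAffine V.left] (g : (yon S).obj V ⟶ D.obj i₀) (h : U ⟶ V)
    [CompactSpace U.left] [QuasiSeparatedSpace U.left] (hQ : Q h.left)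
    {W : Over S} {z : (yon S).obj W ⟶ c.pt} {v : W ⟶ V}
    (sq : IsPullback z ((yon S).map v) (c.π.app i₀) g)
    {U' : Over S} {r : U' ⟶ U} {s : U' ⟶ W} (sqU : IsPullback r.left s.left h.left v.left) (hs : P s.left) :
    ∃ (i : I) (φ : i ⟶ i₀), ∀ (Vi : Over S) (zi : (yon S).obj Vi ⟶ D.obj i) (vi : Vi ⟶ V),
      IsPullback zi ((yon S).map vi) (D.map φ) g → ∀ (Ui : Over S) (ri : Ui ⟶ U) (si : Ui ⟶ Vi),
        IsPullback ri.left si.left h.left vi.left → P si.left := by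
  obtain ⟨W', v', z', -, sq', -, G, zz, vv, L, pp, e, ⟨hL⟩, hG, hpp, sqj, hnat, -, hvv, hpv⟩ :=
    exists_lim_square D (fun i j φ => (isAffineMor_iff_repWith _).1 (hDa i j φ)) c hc i₀ g
  let t : Over i₀ := Over.mk (𝟙 i₀)
  have hti : IsIso ((yon S).map (vv t)) := by
    have : IsIso (D.map t.hom) := by
      rw [show D.map t.hom = 𝟙 _ from D.map_id i₀]
      infer_instance
    exact (sqj t).isIso_snd_of_isIso
  have : IsIso (vv t) := isIso_of_fully_faithful (yon S) (vv t)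
  let a := (sq.isoIsPullback _ _ sq')
  obtain ⟨m, hm⟩ := exists_map_eq a.hom
  have : IsIso ((yon S).map m) := by rw [hm]; infer_instance
  have : IsIso m := isIso_of_fully_faithful (yon S) m
  have hmv : m ≫ v' = v := (yon S).map_injective (by
    rw [Functor.map_comp, hm]
    exact sq.isoIsPullback_hom_snd _ _ sq')
  let D' : Over i₀ ⥤ Scheme.{u} := G ⋙ Over.forget S
  have : ∀ j, IsAffine (D'.obj j) := hG
  have : ∀ (j k : Over i₀) (f : j ⟶ k), IsAffineHom (D'.map f) := fun j k f => inferInstance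
  let e₁ : U'.left ⟶ L.pt := s.left ≫ m.left ≫ eqToHom e.symm
  have hX : IsPullback r.left e₁ (h.left ≫ inv (vv t).left) (L.π.app t) := by
    refine sqU.of_iso (Iso.refl _) (Iso.refl _) (asIso m.left ≪≫ eqToIso e.symm) (asIso (vv t).left).symm
      (by simp) (by simp [e₁]) (by simp) ?_
    show v.left ≫ inv (vv t).left = (m.left ≫ eqToHom e.symm) ≫ L.π.app t
    rw [IsIso.comp_inv_eq, Category.assoc, Category.assoc, ← reassoc_of% (hpp t)]
    exact congrArg (fun q => q.left) (show v = m ≫ pp t ≫ vv t by rw [hpv t, hmv])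
  obtain ⟨j, f', Xi, fi, pX, hXi, hfi⟩ := hP D' L hL t (h.left ≫ inv (vv t).left) ((Q.cancel_right_of_respectsIso _ _).2 hQ) e₁ r.left hX
    ((P.cancel_right_of_respectsIso s.left (m.left ≫ eqToHom e.symm)).2 hs)
  refine ⟨j.left, j.hom, fun Vi zi vi sqi Ui ri si sqUi => ?_⟩
  obtain ⟨n, hn⟩ := exists_map_eq (sqi.isoIsPullback _ _ (sqj j)).hom
  have hnv : n ≫ vv j = vi := (yon S).map_injective (by
    rw [Functor.map_comp, hn]
    exact sqi.isoIsPullback_hom_snd _ _ (sqj j))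
  have : IsIso ((yon S).map n) := by rw [hn]; infer_instance
  have : IsIso n := isIso_of_fully_faithful (yon S) n
  have hXi' : IsPullback pX fi h.left (vv j).left := by
    refine hXi.of_iso (Iso.refl _) (Iso.refl _) (Iso.refl _) (asIso (vv t).left) (by simp) (by simp) (by simp) ?_
    have := congrArg (fun q => q.left) (hvv f')
    simpa [D'] using this
  have hUi : IsPullback (ri.left) (si.left ≫ n.left) h.left (vv j).left :=
    sqUi.of_iso (Iso.refl _) (Iso.refl _) (asIso n.left) (Iso.refl _) (by simp) (by simp) (by simp)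
      (by simpa using (congrArg (fun q => q.left) hnv).symm)
  have h1 : P (si.left ≫ n.left) := by
    rw [← hUi.isoIsPullback_hom_snd _ _ hXi']
    exact (P.cancel_left_of_respectsIso _ _).2 hfi
  exact (P.cancel_right_of_respectsIso si.left n.left).1 h1

end Groth.Agent.SpDesc
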