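import Groth.Agent.SpDesc.EventAffine

/-!
# Affine morphisms descend along limits
-/

set_option autoImplicit false

universe u

open CategoryTheory CategoryTheory.Limits AlgebraicGeometry

set_option backward.isDefEq.respectTransparency false

namespace Groth.Agent.SpDesc

open _root_.AlgSp Groth.Agent.AlgSpLib Groth.Agent.SchImg

variable {S : Scheme.{u}}

theorem atStage_affine {I : Type u} [SmallCategory I] [IsCofiltered I] [QuasiSeparatedSpace ↥S]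
    (D : I ⥤ Sp S) (hD : ∀ i, IsAlgSpace (D.obj i)) (hDa : ∀ (i j : I) (φ : i ⟶ j), IsAffineMor (D.map φ))
    (c : Cone D) (hc : IsLimit c) (i₀ : I) (hBqc : IsQuasiCompactSp (D.obj i₀))
    (hBqs : IsQuasiSeparatedSp (D.obj i₀)) {X₀ Y₀ : Sp S} (hX₀ : IsAlgSpace X₀) (hY₀ : IsAlgSpace Y₀)
    (f₀ : X₀ ⟶ Y₀) (b₀ : Y₀ ⟶ D.obj i₀) (hXqc : IsQuasiCompactSp X₀) (hXqs : IsQuasiSeparatedSp X₀)
    (hYqc : IsQuasiCompactSp Y₀) (hYqs : IsQuasiSeparatedSp Y₀)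
    {X Y : Sp S} {f : X ⟶ Y} {pY : Y ⟶ Y₀} {qY : Y ⟶ c.pt} (hY : IsPullback pY qY b₀ (c.π.app i₀))
    {pX : X ⟶ X₀} (hX : IsPullback pX f f₀ pY) (hf : RepWith @IsAffineHom f) :
    AtStage D i₀ f₀ b₀ (fun _ _ g => RepWith @IsAffineHom g) := by
  obtain ⟨E, cE, α, β, αL, βL, ⟨hcE⟩, hE, hEa, hEsq, hEL, hEmap, hEπ⟩ :=
    exists_bc_tower D hD hDa c hc i₀ hBqc hBqs (hD i₀) hX₀ hBqs hXqc hXqs (𝟙 (D.obj i₀)) (f₀ ≫ b₀)
  rw [Category.comp_id] at hEL
  let t : Over i₀ := Over.mk (𝟙 i₀)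
  have hpY : RepWith @IsAffineHom pY :=
    repWith_baseChange hY.flip ((isAffineMor_iff_repWith _).1 (repWith_affine_lim D hDa c hc i₀))
  have h : RepWith @IsAffineHom (cE.π.app t ≫ β t ≫ f₀) := by
    let e := hEL.isoIsPullback _ _ (hX.paste_vert hY).flip
    have he : e.hom ≫ pX = βL := hEL.isoIsPullback_hom_snd _ _ _
    rw [reassoc_of% (hEπ t).2, ← he, Category.assoc, hX.w]
    exact (repWith_iso_comp_iff e.hom _).2 (repWith_comp hf hpY)
  obtain ⟨l₀, hl₀⟩ := exists_eventually_affine E (fun l => (hE l).1) hEa cE hcE t (hE t).2.1 (hE t).2.2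
    hY₀ hYqc hYqs (β t ≫ f₀) ((isAffineMor_iff_repWith _).2 h)
  have hl := hl₀ l₀ (𝟙 l₀)
  rw [reassoc_of% (hEmap l₀.hom).2] at hl
  refine ⟨l₀.left.left, l₀.left.hom, fun Xi Yi fi pYi qYi hYi pXi hXi => ?_⟩
  have hsq := hEsq l₀.left
  rw [Category.comp_id] at hsq
  let ε := (hXi.paste_vert hYi).flip.isoIsPullback _ _ hsq
  have hε : ε.hom ≫ β l₀.left = pXi := (hXi.paste_vert hYi).flip.isoIsPullback_hom_snd _ _ hsq
  have hYi' := isAlgSpace_of_isPullback_space (hD i₀) hY₀ (hD _) hYi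
  have hp : RepWith @IsAffineHom pYi := repWith_baseChange hYi.flip ((isAffineMor_iff_repWith _).1 (hDa _ _ _))
  refine repWith_affine_cancel hYi' hY₀ ?_ hp
  rw [← hXi.w, ← hε, Category.assoc]
  exact (repWith_iso_comp_iff ε.hom _).2 hl

end Groth.Agent.SpDesc
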