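import Groth.Agent.SpDesc.DescAffine
import Groth.Agent.SpDesc.Descends
import Groth.Agent.S9187

/-!
# Finite morphisms descend along limits
-/

set_option autoImplicit false

universe u

open CategoryTheory CategoryTheory.Limits AlgebraicGeometry

set_option backward.isDefEq.respectTransparency false

namespace Groth.Agent.SpDesc

open _root_.AlgSp Groth.Agent.AlgSpLib Groth.Agent.SchImg

theorem descends_finite : Descends.{u} @LocallyOfFiniteType @IsFinite :=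
  descends_of_over fun {I} _ _ D c hc _ i₀ _ _ {X₀ Y₀} f₀ g₀ _ _ _ _ hQ {X Y} f g qY qX _ hY hX hP =>
    have : LocallyOfFiniteType f₀ := hQ
    have : IsFinite f := hP
    S9187.result D c hc i₀ f₀ g₀ f g qY qX hY hX

variable {S : Scheme.{u}}

theorem atStage_finite {I : Type u} [SmallCategory I] [IsCofiltered I] [QuasiSeparatedSpace ↥S]
    (D : I ⥤ Sp S) (hD : ∀ i, IsAlgSpace (D.obj i)) (hDa : ∀ (i j : I) (φ : i ⟶ j), IsAffineMor (D.map φ))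
    (c : Cone D) (hc : IsLimit c) (i₀ : I) (hBqc : IsQuasiCompactSp (D.obj i₀))
    (hBqs : IsQuasiSeparatedSp (D.obj i₀)) {X₀ Y₀ : Sp S} (hX₀ : IsAlgSpace X₀) (hY₀ : IsAlgSpace Y₀)
    (f₀ : X₀ ⟶ Y₀) (b₀ : Y₀ ⟶ D.obj i₀) (hXqc : IsQuasiCompactSp X₀) (hXqs : IsQuasiSeparatedSp X₀)
    (hYqc : IsQuasiCompactSp Y₀) (hYqs : IsQuasiSeparatedSp Y₀)
    {X Y : Sp S} {f : X ⟶ Y} {pY : Y ⟶ Y₀} {qY : Y ⟶ c.pt} (hY : IsPullback pY qY b₀ (c.π.app i₀))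
    {pX : X ⟶ X₀} (hX : IsPullback pX f f₀ pY) (hf : RepWith @IsFinite f)
    (hlft : LocP @LocallyOfFiniteType f₀) : AtStage D i₀ f₀ b₀ (fun _ _ g => RepWith @IsFinite g) := by
  obtain ⟨i₁, φ₁, H₁⟩ := atStage_affine D hD hDa c hc i₀ hBqc hBqs hX₀ hY₀ f₀ b₀ hXqc hXqs hYqc hYqs hY hX
    (repWith_mono (fun _ _ r hr => by
      have : IsFinite r := hr
      exact (inferInstance : IsAffineHom r)) hf)
  have sqY₁ := IsPullback.of_hasPullback b₀ (D.map φ₁)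
  have sqX₁ := IsPullback.of_hasPullback f₀ (pullback.fst b₀ (D.map φ₁))
  set f₁ := pullback.snd f₀ (pullback.fst b₀ (D.map φ₁))
  have haY : RepWith @IsAffineHom (pullback.fst b₀ (D.map φ₁)) :=
    repWith_baseChange sqY₁.flip ((isAffineMor_iff_repWith _).1 (hDa i₁ i₀ φ₁))
  have hY₁ := isAlgSpace_of_isPullback_space (hD i₀) hY₀ (hD i₁) sqY₁
  have hX₁ := isAlgSpace_of_isPullback_space hY₀ hX₀ hY₁ sqX₁
  have haX : RepWith @IsAffineHom (pullback.fst f₀ (pullback.fst b₀ (D.map φ₁))) :=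
    repWith_baseChange sqX₁.flip haY
  obtain ⟨hY₁q, hY₁s⟩ := qcqs_of_affine hY₁ hY₀ haY hYqc hYqs
  obtain ⟨hX₁q, hX₁s⟩ := qcqs_of_affine hX₁ hX₀ haX hXqc hXqs
  have hrep : RepWith @IsAffineHom f₁ := H₁ _ _ f₁ _ _ sqY₁ _ sqX₁
  have hQ₁ : RepWith @LocallyOfFiniteType f₁ :=
    (locP_iff_repWith etST_lft hY₁ hrep.1).1 (locP_baseChange etST_lft hX₀ hY₀ hX₁ hY₁ sqX₁ hlft)
  let lY : Y ⟶ pullback b₀ (D.map φ₁) := sqY₁.lift pY (qY ≫ c.π.app i₁) (by rw [Category.assoc, c.w, hY.w])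
  have hlY : IsPullback lY qY (pullback.snd b₀ (D.map φ₁)) (c.π.app i₁) :=
    IsPullback.of_right (by rw [sqY₁.lift_fst, c.w]; exact hY) (sqY₁.lift_snd _ _ _) sqY₁
  let lX := sqX₁.lift pX (f ≫ lY) (by rw [Category.assoc, sqY₁.lift_fst]; exact hX.w)
  have hlX : IsPullback lX f f₁ lY :=
    IsPullback.of_right (by rw [sqX₁.lift_fst, sqY₁.lift_fst]; exact hX) (sqX₁.lift_snd _ _ _) sqX₁
  obtain ⟨i, ψ, H⟩ := atStage_repWith D hD hDa c hc i₁ hX₁ hY₁ f₁ (pullback.snd b₀ (D.map φ₁))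
    hX₁q hX₁s hY₁q hY₁s descends_finite hQ₁ hlY hlX hf
  refine ⟨i, ψ ≫ φ₁, fun Xi Yi fi pYi qYi hYi pXi hXi => ?_⟩
  let mY := sqY₁.lift pYi (qYi ≫ D.map ψ) (by rw [Category.assoc, ← D.map_comp, hYi.w])
  have hmY : IsPullback mY qYi (pullback.snd b₀ (D.map φ₁)) (D.map ψ) :=
    IsPullback.of_right (by rw [sqY₁.lift_fst, ← D.map_comp]; exact hYi) (sqY₁.lift_snd _ _ _) sqY₁
  let mX := sqX₁.lift pXi (fi ≫ mY) (by rw [Category.assoc, sqY₁.lift_fst]; exact hXi.w)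
  exact H Xi Yi fi mY qYi hmY mX
    (IsPullback.of_right (by rw [sqX₁.lift_fst, sqY₁.lift_fst]; exact hXi) (sqX₁.lift_snd _ _ _) sqX₁)

end Groth.Agent.SpDesc
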