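import Groth.Agent.SpDesc.EventAffine

/-!
# Finite morphisms from stages when the limit is integral over the base
-/

set_option autoImplicit false

universe u

open CategoryTheory CategoryTheory.Limits AlgebraicGeometry

set_option backward.isDefEq.respectTransparency false

namespace Groth.Agent.SpDesc

open _root_.AlgSp Groth.Agent.AlgSpLib Groth.Agent.SchImg

variable {S : Scheme.{u}}

set_option maxHeartbeats 1000000 in
theorem exists_eventually_finite_base {I : Type u} [SmallCategory I] [IsCofiltered I] [QuasiSeparatedSpace ↥S]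
    (D : I ⥤ Sp S) (hD : ∀ i, IsAlgSpace (D.obj i))
    (hDc : ∀ (i j : I) (φ : i ⟶ j), RepWith @IsFinite (D.map φ))
    (c : Cone D) (hc : IsLimit c) (i₁ : I) (hqc : IsQuasiCompactSp (D.obj i₁))
    (hqs : IsQuasiSeparatedSp (D.obj i₁)) {Y : Sp S} (hY : IsAlgSpace Y) (hYq : IsQuasiCompactSp Y)
    (hYs : IsQuasiSeparatedSp Y) (τ : D.obj i₁ ⟶ Y) (hft : LocP @LocallyOfFiniteType τ)
    (hcl : RepWith @IsIntegralHom (c.π.app i₁ ≫ τ)) :
    ∃ l₀ : Over i₁, ∀ (l : Over i₁) (_ : l ⟶ l₀), RepWith @IsFinite (D.map l.hom ≫ τ) := by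
  have hDa : ∀ (i j : I) (φ : i ⟶ j), IsAffineMor (D.map φ) := fun i j φ =>
    (isAffineMor_iff_repWith _).2 (repWith_mono (fun _ _ r hr => by
      have : IsFinite r := hr
      infer_instance) (hDc i j φ))
  obtain ⟨k, hk⟩ := exists_eventually_affine D hD hDa c hc i₁ hqc hqs hY hYq hYs τ
    ((isAffineMor_iff_repWith _).2 (repWith_mono (fun _ _ r hr => by
      have : IsIntegralHom r := hr
      infer_instance) hcl))
  have hτk := hk k (𝟙 k)
  have := compactSpace_of_isQuasiCompactSp hYq
  obtain ⟨V, p, hV, hpe, hps⟩ := exists_affine_chart_of_compact hY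
  obtain ⟨T, g, n, sqT, hn⟩ := exists_repWith hτk p
  have : IsAffine T.left := isAffine_of_isAffineHom n.left
  obtain ⟨W, v, z, hW, sq, -, G, zz, vv, L, pp, e, ⟨hL⟩, hG, hpp, sqj, hGz, hzp, hvv, hpv⟩ :=
    exists_lim_square D (fun i j φ => (isAffineMor_iff_repWith _).1 (hDa i j φ)) c hc k.left g
  have : IsIntegralHom (v ≫ n).left := by
    have h : IsPullback z ((yon S).map (v ≫ n)) (c.π.app k.left ≫ D.map k.hom ≫ τ) p := by
      rw [Functor.map_comp]
      exact sq.paste_vert sqT
    rw [c.w_assoc] at h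
    exact hcl.2 _ _ _ h
  have hsqs : ∀ j : Over k.left, IsPullback (zz j) ((yon S).map (vv j ≫ n)) (D.map (j.hom ≫ k.hom) ≫ τ) p := fun j => by
    rw [Functor.map_comp, D.map_comp, Category.assoc]
    exact (sqj j).paste_vert sqT
  have hrep : ∀ j : Over k.left, RepWith @IsAffineHom (D.map (j.hom ≫ k.hom) ≫ τ) := fun j =>
    hk (Over.mk (j.hom ≫ k.hom)) (Over.homMk j.hom rfl)
  have : ∀ j, LocallyOfFiniteType (vv j ≫ n).left := fun j => by
    have h1 : LocP @LocallyOfFiniteType (D.map (j.hom ≫ k.hom) ≫ τ) :=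
      locP_comp etST_lft (hD i₁) hY ((locP_iff_repWith etST_lft (hD _) (hDc _ _ _).1).2
        (repWith_mono (fun _ _ r hr => by
          have : IsFinite r := hr
          infer_instance) (hDc _ _ (j.hom ≫ k.hom)))) hft
    exact ((locP_iff_repWith etST_lft hY (hrep j).1).1 h1).2 _ _ _ (hsqs j)
  have : ∀ {i j : Over k.left} (f : i ⟶ j), IsFinite ((G ⋙ Over.forget S).map f) := fun {i j} f => by
    have sqG : IsPullback (zz i) ((yon S).map (G.map f)) (D.map f.left) (zz j) := by
      refine IsPullback.of_bot ?_ (hGz f).symm (sqj j)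
      rw [← Functor.map_comp, hvv f, ← D.map_comp, Over.w f]
      exact sqj i
    exact (hDc _ _ f.left).2 _ _ _ sqG
  have : ∀ j, CompactSpace ((G ⋙ Over.forget S).obj j) := fun j => by
    have := hG j
    exact inferInstanceAs (CompactSpace (G.obj j).left)
  have : ∀ j, QuasiSeparatedSpace ((G ⋙ Over.forget S).obj j) := fun j => by
    have := hG j
    exact inferInstanceAs (QuasiSeparatedSpace (G.obj j).left)
  let t : Over k.left := Over.mk (𝟙 k.left)
  have : IsIntegralHom (L.π.app t ≫ (vv t ≫ n).left) := by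
    have e1 : L.π.app t ≫ (vv t ≫ n).left = eqToHom e ≫ (v ≫ n).left := by
      rw [← hpv t]
      simp only [Over.comp_left, hpp, Category.assoc, eqToHom_trans_assoc, eqToHom_refl, Category.id_comp]
    rw [e1]
    infer_instance
  obtain ⟨j₀, hj₀⟩ := LimMore.exists_isFinite_over (G ⋙ Over.forget S) (fun j => (vv j ≫ n).left)
    (fun {i j} f => by
      show (G.map f).left ≫ _ = _
      rw [← Over.comp_left, ← Category.assoc, hvv f]) L hL t
  refine ⟨Over.mk (j₀.hom ≫ k.hom), fun l f => ?_⟩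
  have e1 : f.left ≫ j₀.hom ≫ k.hom = l.hom := Over.w f
  let j : Over k.left := Over.mk (f.left ≫ j₀.hom)
  have hj := hj₀ j (Over.homMk f.left rfl)
  have hjk : j.hom ≫ k.hom = l.hom := by simp [j, e1]
  rw [← hjk]
  exact repWith_of_chart @IsFinite hY (hrep j).1 hpe hps (hsqs j) hj

end Groth.Agent.SpDesc
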