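import Groth.Agent.SpDesc.EventMono
import Groth.Agent.LimMore.SepCore

/-!
# If a limit is separated over an affine scheme, so are the stages
-/

set_option autoImplicit false

universe u

open CategoryTheory CategoryTheory.Limits AlgebraicGeometry

set_option backward.isDefEq.respectTransparency false

namespace Groth.Agent.SpDesc

open _root_.AlgSp Groth.Agent.AlgSpLib Groth.Agent.SchImg

variable {S : Scheme.{u}}

section pair

variable {P : Sp S} {V W R Q : Over S} (τ : P ⟶ (yon S).obj V) (z : (yon S).obj W ⟶ P) {h : W ⟶ V}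

theorem repWith_map_left {X Y Z : Sp S} {Q' : MorphismProperty Scheme.{u}} (z : X ⟶ Y) (τ : Y ⟶ Z)
    (hz : RepWith Q' z) [Q'.RespectsIso] [Q'.IsStableUnderComposition] [Q'.IsStableUnderBaseChange] :
    RepWith Q' (pullback.map (z ≫ τ) (z ≫ τ) τ τ z z (𝟙 Z) (by simp) (by simp)) := by
  let m₁ : pullback (z ≫ τ) (z ≫ τ) ⟶ pullback τ (z ≫ τ) :=
    pullback.map _ _ _ _ z (𝟙 X) (𝟙 Z) (by simp) (by simp)
  let m₂ : pullback τ (z ≫ τ) ⟶ pullback τ τ :=
    pullback.map _ _ _ _ (𝟙 Y) z (𝟙 Z) (by simp) (by simp)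
  have h₁ : IsPullback (pullback.fst (z ≫ τ) (z ≫ τ)) m₁ z (pullback.fst τ (z ≫ τ)) := by
    refine (IsPullback.of_bot ?_ (by simp [m₁]) (IsPullback.of_hasPullback τ (z ≫ τ)))
    simpa [m₁] using IsPullback.of_hasPullback (z ≫ τ) (z ≫ τ)
  have h₂ : IsPullback (pullback.snd τ (z ≫ τ)) m₂ z (pullback.snd τ τ) := by
    refine (IsPullback.of_bot ?_ (by simp [m₂]) (IsPullback.of_hasPullback τ τ).flip)
    simpa [m₂] using (IsPullback.of_hasPullback τ (z ≫ τ)).flip
  have : pullback.map (z ≫ τ) (z ≫ τ) τ τ z z (𝟙 Z) (by simp) (by simp) = m₁ ≫ m₂ := by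
    apply pullback.hom_ext <;> simp [m₁, m₂]
  rw [this]
  exact repWith_comp (repWith_baseChange h₁ hz) (repWith_baseChange h₂ hz)

theorem exists_pair_iso (hh : (yon S).map h = z ≫ τ) :
    ∃ (Q : Over S) (e : (yon S).obj Q ≅ pullback (z ≫ τ) (z ≫ τ)) (q₁ q₂ : Q ⟶ W),
      IsPullback q₁.left q₂.left h.left h.left ∧
      e.hom ≫ pullback.fst _ _ = (yon S).map q₁ ∧ e.hom ≫ pullback.snd _ _ = (yon S).map q₂ := by
  obtain ⟨Q, q₁, q₂, sq⟩ := exists_pullback (IsAlgSpace.yon_obj V).diag ((yon S).map h) ((yon S).map h)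
  have sq' := sq
  rw [hh] at sq'
  exact ⟨Q, sq'.isoPullback, q₁, q₂, isPullback_yon_iff.1 sq, sq'.isoPullback_hom_fst, sq'.isoPullback_hom_snd⟩

variable {a b : R ⟶ W}

theorem exists_pair_square (sq : IsPullback ((yon S).map a) ((yon S).map b) z z)
    (e : (yon S).obj Q ≅ pullback (z ≫ τ) (z ≫ τ)) {q₁ q₂ : Q ⟶ W}
    (h₁ : e.hom ≫ pullback.fst _ _ = (yon S).map q₁) (h₂ : e.hom ≫ pullback.snd _ _ = (yon S).map q₂) :
    ∃ r : R ⟶ Q, r ≫ q₁ = a ∧ r ≫ q₂ = b ∧
      IsPullback ((yon S).map a ≫ z) ((yon S).map r) (pullback.diagonal τ)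
        (e.hom ≫ pullback.map (z ≫ τ) (z ≫ τ) τ τ z z (𝟙 _) (by simp) (by simp)) := by
  let m : pullback z z ⟶ pullback (z ≫ τ) (z ≫ τ) :=
    pullback.map z z _ _ (𝟙 _) (𝟙 _) τ (by simp) (by simp)
  obtain ⟨r, hr⟩ := exists_map_eq (sq.isoPullback.hom ≫ m ≫ e.inv)
  refine ⟨r, ?_, ?_, ?_⟩
  · apply (yon S).map_injective
    rw [Functor.map_comp, hr, ← h₁]
    simp [m]
  · apply (yon S).map_injective
    rw [Functor.map_comp, hr, ← h₂]
    simp [m]
  · refine IsPullback.of_iso (pullback_map_diagonal_isPullback z z τ) sq.isoPullback.symm (Iso.refl _) e.symm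
      (Iso.refl _) ?_ ?_ ?_ ?_
    · simp
    · simp [hr, m]
    · simp
    · simp

theorem isClosedImmersion_pair (hτ : IsSeparatedMor τ) (hh : (yon S).map h = z ≫ τ)
    (sq : IsPullback ((yon S).map a) ((yon S).map b) z z) :
    ∃ w : a.left ≫ h.left = b.left ≫ h.left,
      IsClosedImmersion (pullback.lift a.left b.left w : R.left ⟶ pullback h.left h.left) := by
  obtain ⟨Q, e, q₁, q₂, sqQ, h₁, h₂⟩ := exists_pair_iso τ z hh
  obtain ⟨r, hr₁, hr₂, sqr⟩ := exists_pair_square τ z sq e h₁ h₂
  have hr : IsClosedImmersion r.left := hτ.2 _ _ _ sqr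
  have w : a.left ≫ h.left = b.left ≫ h.left := by
    rw [← hr₁, ← hr₂, Over.comp_left, Over.comp_left, Category.assoc, Category.assoc, sqQ.w]
  refine ⟨w, ?_⟩
  have : pullback.lift a.left b.left w = r.left ≫ sqQ.isoPullback.hom := by
    apply pullback.hom_ext <;> simp [← hr₁, ← hr₂]
  rw [this]
  infer_instance

theorem isSeparatedMor_of_pair (hP : IsAlgSpace P) (hz : RepWith @Etale z) (hzs : RepWith @Surjective z)
    (hh : (yon S).map h = z ≫ τ) (sq : IsPullback ((yon S).map a) ((yon S).map b) z z)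
    (w : a.left ≫ h.left = b.left ≫ h.left)
    (hcl : IsClosedImmersion (pullback.lift a.left b.left w : R.left ⟶ pullback h.left h.left)) :
    IsSeparatedMor τ := by
  obtain ⟨Q, e, q₁, q₂, sqQ, h₁, h₂⟩ := exists_pair_iso τ z hh
  obtain ⟨r, hr₁, hr₂, sqr⟩ := exists_pair_square τ z sq e h₁ h₂
  have hr : IsClosedImmersion r.left := by
    have : pullback.lift a.left b.left w = r.left ≫ sqQ.isoPullback.hom := by
      apply pullback.hom_ext <;> simp [← hr₁, ← hr₂]
    rw [this] at hcl
    exact (MorphismProperty.cancel_right_of_respectsIso @IsClosedImmersion _ _).1 hcl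
  exact repWith_of_chart @IsClosedImmersion
    (isAlgSpace_of_isPullback_space (IsAlgSpace.yon_obj V) hP hP (IsPullback.of_hasPullback τ τ))
    (repWith_diagonal τ (repWith_diag_lft hP)).1
    ((repWith_iso_comp_iff e.hom _).2 (repWith_map_left z τ hz))
    ((repWith_iso_comp_iff e.hom _).2 (repWith_map_left z τ hzs)) sqr hr

end pair

theorem exists_stage_separated_affine {J : Type u} [SmallCategory J] [IsCofiltered J] [QuasiSeparatedSpace ↥S]
    (D : J ⥤ Sp S) (hD : ∀ i, IsAlgSpace (D.obj i)) (hDa : ∀ (i j : J) (φ : i ⟶ j), IsAffineMor (D.map φ))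
    (c : Cone D) (hc : IsLimit c) (i₁ : J) (hqc : IsQuasiCompactSp (D.obj i₁))
    (hqs : ∀ i, IsQuasiSeparatedSp (D.obj i)) {V : Over S} [IsAffine V.left]
    (τ : ∀ i, D.obj i ⟶ (yon S).obj V) (hτ : ∀ {i j : J} (f : i ⟶ j), D.map f ≫ τ j = τ i)
    (hsep : IsSeparatedMor (c.π.app i₁ ≫ τ i₁)) :
    ∃ i₀ : J, ∀ (i : J) (_ : i ⟶ i₀), IsSeparatedMor (τ i) := by
  have := compactSpace_of_isQuasiCompactSp hqc
  obtain ⟨U₁, g, hU₁, hge, hgs⟩ := exists_affine_chart_of_compact (hD i₁)
  obtain ⟨W, v, z, hW, sq, -, G, zz, vv, L, pp, e, ⟨hL⟩, hG, hpp, sqj, hGz, hzp, hvv, hpv⟩ :=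
    exists_lim_square D (fun i j φ => (isAffineMor_iff_repWith _).1 (hDa i j φ)) c hc i₁ g
  have hX := isAlgSpace_lim D hD hDa c hc
  have hzze : ∀ j : Over i₁, RepWith @Etale (zz j) := fun j => repWith_baseChange (sqj j).flip hge
  have hzzs : ∀ j : Over i₁, RepWith @Surjective (zz j) := fun j => repWith_baseChange (sqj j).flip hgs
  choose R a b sqR using fun j : Over i₁ => exists_pullback (hD j.left).diag (zz j) (zz j)
  have sqG : ∀ {j k : Over i₁} (f : j ⟶ k),
      IsPullback (zz j) ((yon S).map (G.map f)) (D.map f.left) (zz k) := fun {j k} f => by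
    refine IsPullback.of_bot ?_ (hGz f).symm (sqj k)
    rw [← Functor.map_comp, hvv f, ← D.map_comp, Over.w f]
    exact sqj j
  have hm : ∀ {j k : Over i₁} (f : j ⟶ k), ∃ m : R j ⟶ R k,
      m ≫ a k = a j ≫ G.map f ∧ m ≫ b k = b j ≫ G.map f := fun {j k} f => by
    obtain ⟨m, hm⟩ := exists_map_eq ((sqR k).lift ((yon S).map (a j ≫ G.map f)) ((yon S).map (b j ≫ G.map f)) (by
      rw [Functor.map_comp, Functor.map_comp, Category.assoc, Category.assoc, hGz f, ← Category.assoc,
        (sqR j).w, Category.assoc]))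
    exact ⟨m, (yon S).map_injective (by rw [Functor.map_comp, hm, (sqR k).lift_fst]),
      (yon S).map_injective (by rw [Functor.map_comp, hm, (sqR k).lift_snd])⟩
  choose m hma hmb using @hm
  have hext : ∀ {T : Over S} {k : Over i₁} (p q : T ⟶ R k), p ≫ a k = q ≫ a k → p ≫ b k = q ≫ b k → p = q :=
    fun p q h1 h2 => (yon S).map_injective ((sqR _).hom_ext
      (by rw [← Functor.map_comp, ← Functor.map_comp, h1]) (by rw [← Functor.map_comp, ← Functor.map_comp, h2]))
  let H : Over i₁ ⥤ Over S :=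
    { obj := R
      map := m
      map_id := fun j => hext _ _ (by simp [hma]) (by simp [hmb])
      map_comp := fun f g => hext _ _ (by rw [hma, Category.assoc, hma, reassoc_of% (hma f), G.map_comp])
        (by rw [hmb, Category.assoc, hmb, reassoc_of% (hmb f), G.map_comp]) }
  -- cartesian along the first projections
  have hcart : ∀ {j k : Over i₁} (f : j ⟶ k), IsPullback (m f).left (a j).left (a k).left (G.map f).left :=
    fun {j k} f => by
    have h1 := (sqR j).flip.paste_horiz (sqG f).flip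
    have h2 : IsPullback ((yon S).map (b j) ≫ (yon S).map (G.map f)) ((yon S).map (a j)) (zz k)
        ((yon S).map (G.map f) ≫ zz k) := by
      rw [hGz f]; exact h1
    rw [← Functor.map_comp, ← hmb f, Functor.map_comp] at h2
    exact isPullback_yon_iff.1 (IsPullback.of_right h2 (by rw [← Functor.map_comp, ← Functor.map_comp, hma f]) (sqR k).flip)
  -- the limit
  obtain ⟨Rl, al, bl, sqRl⟩ := exists_pullback hX.diag z z
  have sqW : ∀ k : Over i₁, IsPullback z ((yon S).map (pp k)) (c.π.app k.left) (zz k) := fun k => by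
    refine IsPullback.of_bot ?_ (hzp k).symm (sqj k)
    rw [← Functor.map_comp, hpv k, c.w k.hom]
    exact sq
  have hr : ∀ k : Over i₁, ∃ r : Rl ⟶ R k, r ≫ a k = al ≫ pp k ∧ r ≫ b k = bl ≫ pp k := fun k => by
    obtain ⟨r, hr⟩ := exists_map_eq ((sqR k).lift ((yon S).map (al ≫ pp k)) ((yon S).map (bl ≫ pp k)) (by
      rw [Functor.map_comp, Functor.map_comp, Category.assoc, Category.assoc, hzp k, ← Category.assoc,
        sqRl.w, Category.assoc]))
    exact ⟨r, (yon S).map_injective (by rw [Functor.map_comp, hr, (sqR k).lift_fst]),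
      (yon S).map_injective (by rw [Functor.map_comp, hr, (sqR k).lift_snd])⟩
  choose r hra hrb using hr
  have hppG : ∀ {j k : Over i₁} (f : j ⟶ k), pp j ≫ G.map f = pp k := fun {j k} f => Over.OverMorphism.ext (by
    rw [Over.comp_left, hpp, hpp, Category.assoc]
    exact congrArg (eqToHom e.symm ≫ ·) (L.w f))
  have hcartl : ∀ k : Over i₁, IsPullback (r k).left al.left (a k).left (pp k).left := fun k => by
    have h1 := sqRl.flip.paste_horiz (sqW k).flip
    have h2 : IsPullback ((yon S).map bl ≫ (yon S).map (pp k)) ((yon S).map al) (zz k)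
        ((yon S).map (pp k) ≫ zz k) := by
      rw [hzp k]; exact h1
    rw [← Functor.map_comp, ← hrb k, Functor.map_comp] at h2
    exact isPullback_yon_iff.1 (IsPullback.of_right h2 (by rw [← Functor.map_comp, ← Functor.map_comp, hra k]) (sqR k).flip)
  let t : Over i₁ := Over.mk (𝟙 i₁)
  let tm : ∀ j : Over i₁, j ⟶ t := fun j => Over.homMk j.hom (by simp [t])
  let cH : Cone (H ⋙ Over.forget S) := Cone.mk Rl.left
    { app := fun j => (r j).left
      naturality := fun j k f => by
        show 𝟙 _ ≫ (r k).left = (r j).left ≫ (m f).left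
        rw [Category.id_comp, ← Over.comp_left]
        exact congrArg (fun q : Rl ⟶ R k => q.left) (hext _ _
          (by rw [hra, Category.assoc, hma, reassoc_of% (hra j), hppG])
          (by rw [hrb, Category.assoc, hmb, reassoc_of% (hrb j), hppG])) }
  let cs : Cone (H ⋙ Over.forget S) → Cone (G ⋙ Over.forget S) := fun s => Cone.mk s.pt
    { app := fun j => s.π.app j ≫ (a j).left
      naturality := fun j k f => by
        show 𝟙 _ ≫ s.π.app k ≫ (a k).left = (s.π.app j ≫ (a j).left) ≫ (G.map f).left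
        rw [Category.id_comp, ← s.w f, Category.assoc, Category.assoc]
        show s.π.app j ≫ (m f).left ≫ _ = _
        rw [(hcart f).w] }
  have hcH : IsLimit cH :=
    { lift := fun s => (hcartl t).lift (s.π.app t) (hL.lift (cs s) ≫ eqToHom e) (by
        rw [hpp]
        simp only [Category.assoc, eqToHom_trans_assoc, eqToHom_refl, Category.id_comp, hL.fac]
        rfl)
      fac := fun s j => by
        show _ ≫ (r j).left = _
        have hrj : (r j).left ≫ (m (tm j)).left = (r t).left := cH.w (tm j)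
        apply (hcart (tm j)).hom_ext
        · rw [Category.assoc, hrj, (hcartl t).lift_fst]
          exact (s.w (tm j)).symm
        · rw [Category.assoc, (hcartl j).w, (hcartl t).lift_snd_assoc, hpp]
          simp only [Category.assoc, eqToHom_trans_assoc, eqToHom_refl, Category.id_comp, hL.fac]
          rfl
      uniq := fun s n hn => by
        apply (hcartl t).hom_ext
        · rw [(hcartl t).lift_fst]; exact hn t
        · rw [(hcartl t).lift_snd, ← cancel_mono (eqToHom e.symm)]
          refine hL.hom_ext fun j => ?_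
          simp only [Category.assoc, eqToHom_trans_assoc, eqToHom_refl, Category.id_comp, hL.fac]
          show n ≫ al.left ≫ eqToHom e.symm ≫ L.π.app j = s.π.app j ≫ (a j).left
          rw [← hpp]
          rw [← (hcartl j).w, ← Category.assoc]
          exact congrArg (· ≫ (a j).left) (hn j) }
  -- the relation of the limit is affine and closed in the self product
  obtain ⟨h, hh⟩ := exists_map_eq (z ≫ c.π.app i₁ ≫ τ i₁)
  obtain ⟨w, hcl⟩ := isClosedImmersion_pair (c.π.app i₁ ≫ τ i₁) z hsep hh sqRl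
  have hRl : IsAffine Rl.left := isAffine_of_isAffineHom (pullback.lift al.left bl.left w)
  have hHa : ∀ {j k : Over i₁} (f : j ⟶ k), IsAffineHom ((H ⋙ Over.forget S).map f) := fun {j k} f => by
    have := hG j
    have := hG k
    exact MorphismProperty.of_isPullback (P := @IsAffineHom) (hcart f).flip
      (inferInstance : IsAffineHom (G.map f).left)
  have hVs : IsQuasiSeparatedSp ((yon S).obj U₁) :=
    (repWith_diag_yon_iff @QuasiCompact U₁).2 (inferInstanceAs (QuasiCompact (pullback.diagonal U₁.hom)))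
  have hGq : ∀ j : Over i₁, IsQuasiSeparatedSp ((yon S).obj (G.obj j)) := fun j => by
    have := hG j
    exact (repWith_diag_yon_iff @QuasiCompact (G.obj j)).2 (inferInstanceAs (QuasiCompact (pullback.diagonal (G.obj j).hom)))
  have hRq : ∀ j : Over i₁, IsQuasiCompactSp ((yon S).obj (R j)) ∧ IsQuasiSeparatedSp ((yon S).obj (R j)) := fun j => by
    have := hG j
    exact SpQS.qcqs_of_isPullback (IsAlgSpace.yon_obj _) (hD j.left) (IsAlgSpace.yon_obj _) (sqR j)
      (isQuasiCompactSp_yon _) (hGq j) (hqs j.left) (isQuasiCompactSp_yon _) (hGq j)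
  have : ∀ j, CompactSpace ((H ⋙ Over.forget S).obj j) := fun j => compactSpace_of_sp (hRq j).1
  have : ∀ j, QuasiSeparatedSpace ((H ⋙ Over.forget S).obj j) := fun j => quasiSeparatedSpace_of_sp (hRq j).2
  have : IsAffine cH.pt := hRl
  obtain ⟨k, hk⟩ := Scheme.exists_isAffine_of_isLimit _ cH hcH
  -- generation at a stage
  let F := Over.forget k
  let α : (F ⋙ H ⋙ Over.forget S) ⟶ (F ⋙ G ⋙ Over.forget S) :=
    { app := fun j => (a j.left).left
      naturality := fun j l f => (hcart f.left).w }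
  let β : (F ⋙ H ⋙ Over.forget S) ⟶ (F ⋙ G ⋙ Over.forget S) :=
    { app := fun j => (b j.left).left
      naturality := fun j l f => by
        show (m f.left).left ≫ (b l.left).left = (b j.left).left ≫ (G.map f.left).left
        rw [← Over.comp_left, hmb, Over.comp_left] }
  have : ∀ j, IsAffine ((F ⋙ H ⋙ Over.forget S).obj j) := fun j => by
    have : IsAffine (R k).left := hk
    have : IsAffineHom (m j.hom).left := hHa j.hom
    exact isAffine_of_isAffineHom (m j.hom).left
  have : ∀ j, IsAffine ((F ⋙ G ⋙ Over.forget S).obj j) := fun j => hG _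
  have hpL : ∀ j : Over i₁, eqToHom e.symm ≫ L.π.app j = (pp j).left := fun j => (hpp j).symm
  have hgen : LimMore.Gen (al.left ≫ eqToHom e.symm) (bl.left ≫ eqToHom e.symm) := by
    have hLa : IsAffine L.pt := by rw [e]; exact hW
    have w' : (al.left ≫ eqToHom e.symm) ≫ eqToHom e ≫ h.left = (bl.left ≫ eqToHom e.symm) ≫ eqToHom e ≫ h.left := by
      simpa using w
    have : IsClosedImmersion (pullback.lift (al.left ≫ eqToHom e.symm) (bl.left ≫ eqToHom e.symm) w') := by
      let ι : pullback h.left h.left ⟶ pullback (eqToHom e ≫ h.left) (eqToHom e ≫ h.left) :=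
        pullback.map _ _ _ _ (eqToHom e.symm) (eqToHom e.symm) (𝟙 _) (by simp) (by simp)
      have e' : pullback.lift (al.left ≫ eqToHom e.symm) (bl.left ≫ eqToHom e.symm) w' =
          pullback.lift al.left bl.left w ≫ ι := by apply pullback.hom_ext <;> simp [ι]
      rw [e']
      infer_instance
    exact LimMore.gen_of_isClosedImmersion_lift _ _ _ _ w'
  have : LocallyOfFiniteType (α.app (Over.mk (𝟙 k))) := by
    have : Etale (a k).left := (hzze k).2 _ _ _ (sqR k).flip
    show LocallyOfFiniteType (a k).left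
    infer_instance
  obtain ⟨n, hn⟩ := LimMore.exists_gen α β _ ((Functor.Initial.isLimitWhiskerEquiv F cH).symm hcH)
    _ ((Functor.Initial.isLimitWhiskerEquiv F L).symm hL) _ ((Functor.Initial.isLimitWhiskerEquiv F L).symm hL)
    (al.left ≫ eqToHom e.symm) (bl.left ≫ eqToHom e.symm)
    (fun j => by
      show (r j.left).left ≫ (a j.left).left = (al.left ≫ eqToHom e.symm) ≫ L.π.app j.left
      rw [Category.assoc, hpL, ← Over.comp_left, hra, Over.comp_left])
    (fun j => by
      show (r j.left).left ≫ (b j.left).left = (bl.left ≫ eqToHom e.symm) ≫ L.π.app j.left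
      rw [Category.assoc, hpL, ← Over.comp_left, hrb, Over.comp_left])
    hgen (fun f => hcart f.left) (Over.mk (𝟙 k))
  refine ⟨n.left.left, fun i φ => ?_⟩
  let l : Over i₁ := Over.mk (φ ≫ n.left.hom)
  let fl : l ⟶ n.left := Over.homMk φ (by simp [l])
  let l' : Over k := Over.mk (fl ≫ n.hom)
  have hgl := hn l' (Over.homMk fl (by simp [l']))
  obtain ⟨hl, hhl⟩ := exists_map_eq (zz l ≫ τ i)
  have : IsAffine (G.obj l).left := hG l
  have : IsAffine (R l).left := ‹∀ j, IsAffine ((F ⋙ H ⋙ Over.forget S).obj j)› l'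
  have wl : (a l).left ≫ hl.left = (b l).left ≫ hl.left := by
    rw [← Over.comp_left, ← Over.comp_left]
    exact congrArg (fun q : R l ⟶ V => q.left) ((yon S).map_injective (by
      rw [Functor.map_comp, Functor.map_comp, hhl, ← Category.assoc, (sqR l).w, Category.assoc]))
  exact isSeparatedMor_of_pair (τ i) (zz l) (hD i) (hzze l) (hzzs l) hhl (sqR l) wl
    (LimMore.isClosedImmersion_lift_of_gen hl.left hl.left (a l).left (b l).left wl hgl)

end Groth.Agent.SpDesc
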