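import Mathlib

/-!
# Immersions into limits of affine schemes come from immersions into stages
-/

set_option autoImplicit false

universe u

open CategoryTheory CategoryTheory.Limits AlgebraicGeometry

set_option backward.isDefEq.respectTransparency false

namespace Groth.Agent.SpDesc

variable {I : Type u} [SmallCategory I] [IsCofiltered I]

theorem exists_stage_closed (E : I ⥤ Scheme.{u}) [∀ i, IsAffine (E.obj i)] (d : Cone E) (hd : IsLimit d) (o : I)
    {C : Scheme.{u}} (k : C ⟶ d.pt) [IsClosedImmersion k] [LocallyOfFiniteType (k ≫ d.π.app o)] :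
    ∃ j : I, Nonempty (j ⟶ o) ∧ ∀ (l : I) (_ : l ⟶ j), IsClosedImmersion (k ≫ d.π.app l) := by
  classical
  have : IsAffine d.pt := Scheme.isAffine_of_isLimit _ hd
  have : IsAffine C := isAffine_of_isAffineHom k
  have hft : (k ≫ d.π.app o).appTop.hom.FiniteType :=
    (HasRingHomProperty.iff_of_isAffine (P := @LocallyOfFiniteType)).1 inferInstance
  algebraize [(k ≫ d.π.app o).appTop.hom]
  obtain ⟨s, hs⟩ := (inferInstance : Algebra.FiniteType Γ(E.obj o, ⊤) Γ(C, ⊤)).out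
  have key : ∀ x : Γ(C, ⊤), ∃ (j : I) (t : Γ(E.obj j, ⊤)), (k ≫ d.π.app j).appTop t = x := fun x => by
    obtain ⟨b, rfl⟩ := (IsClosedImmersion.isAffine_surjective_of_isAffine k).2 x
    obtain ⟨j, t, rfl⟩ := exists_appTop_π_eq_of_isAffine_of_isLimit E d hd b
    exact ⟨j, t, by rw [Scheme.Hom.comp_appTop]; rfl⟩
  choose j t ht using key
  obtain ⟨m, hm⟩ := IsCofiltered.inf_objs_exists (insert o (s.image j))
  refine ⟨m, hm (Finset.mem_insert_self _ _), fun l e => ?_⟩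
  have : IsClosedImmersion (k ≫ d.π.app m) := by
    refine IsClosedImmersion.of_surjective_of_isAffine _ fun y => ?_
    show _ ∈ (k ≫ d.π.app m).appTop.hom.range
    have hcomp : ∀ {i : I} (a : m ⟶ i) (b : Γ(E.obj i, ⊤)),
        (k ≫ d.π.app i).appTop b ∈ (k ≫ d.π.app m).appTop.hom.range := fun {i} a b =>
      ⟨(E.map a).appTop b, by
        rw [← CommRingCat.comp_apply, ← Scheme.Hom.comp_appTop, Category.assoc, d.w a]⟩
    have hy : y ∈ Algebra.adjoin Γ(E.obj o, ⊤) (s : Set Γ(C, ⊤)) := hs ▸ Algebra.mem_top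
    induction hy using Algebra.adjoin_induction with
    | mem x hx =>
      rw [← ht x]
      exact hcomp (hm (Finset.mem_insert_of_mem (Finset.mem_image_of_mem j hx))).some _
    | algebraMap r => exact hcomp (hm (Finset.mem_insert_self _ _)).some r
    | add x y _ _ hx hy => exact add_mem hx hy
    | mul x y _ _ hx hy => exact mul_mem hx hy
  have : IsClosedImmersion ((k ≫ d.π.app l) ≫ E.map e) := by rwa [Category.assoc, d.w e]
  exact IsClosedImmersion.of_comp (k ≫ d.π.app l) (E.map e)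

theorem isClosedImmersion_restrict_of_le_coborder {X Y : Scheme.{u}} (f : X ⟶ Y) [IsImmersion f]
    (W : Y.Opens) (hW : W ≤ f.coborderRange) : IsClosedImmersion (f ∣_ W) := by
  have hpre : IsPreimmersion (f ∣_ W) := inferInstance
  refine .of_isPreimmersion _ ?_
  have h1 : Set.range (f ∣_ W) = W.ι ⁻¹' Set.range f := by
    ext y
    constructor
    · rintro ⟨x, rfl⟩
      exact ⟨(f ⁻¹ᵁ W).ι x, (congr($(morphismRestrict_ι f W) x)).symm⟩
    · rintro ⟨x, hx⟩
      have hxW : x ∈ f ⁻¹ᵁ W := by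
        show f x ∈ W
        rw [hx]
        exact y.2
      obtain ⟨x', rfl⟩ : x ∈ Set.range (f ⁻¹ᵁ W).ι := by rw [Scheme.Opens.range_ι]; exact hxW
      exact ⟨x', W.ι.isOpenEmbedding.injective ((congr($(morphismRestrict_ι f W) x')).trans hx)⟩
  have h2 : closure (Set.range f) ∩ (W : Set Y) = Set.range f ∩ W := by
    refine subset_antisymm ?_ fun y hy => ⟨subset_closure hy.1, hy.2⟩
    rintro y ⟨hy, hyW⟩
    have h3 : y ∈ coborder (Set.range f) ∩ closure (Set.range f) := ⟨hW hyW, hy⟩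
    rw [coborder_inter_closure] at h3
    exact ⟨h3, hyW⟩
  have h3 : W.ι ⁻¹' Set.range f = W.ι ⁻¹' closure (Set.range f) := by
    ext y
    exact ⟨fun h => subset_closure h, fun h => (h2.le ⟨h, y.2⟩).1⟩
  rw [h1, h3]
  exact isClosed_closure.preimage W.ι.continuous

theorem isImmersion_of_restrict {X Y : Scheme.{u}} (q : X ⟶ Y) {α : Type*} (V : α → Y.Opens)
    (hcov : Set.range q ⊆ (⨆ a, V a : Y.Opens)) (h : ∀ a, IsClosedImmersion (q ∣_ V a)) : IsImmersion q := by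
  let U : Y.Opens := ⨆ a, V a
  have htop : q ⁻¹ᵁ U = ⊤ := eq_top_iff.2 fun x _ => hcov ⟨x, rfl⟩
  have hc : IsClosedImmersion (q ∣_ U) := by
    refine IsZariskiLocalAtTarget.of_iSup_eq_top (P := @IsClosedImmersion) (fun a => U.ι ⁻¹ᵁ V a) ?_ fun a => ?_
    · rw [← Scheme.Hom.preimage_iSup, eq_top_iff]
      rintro y -
      exact y.2
    · have e : U.ι ''ᵁ (U.ι ⁻¹ᵁ V a) = V a := by
        rw [Scheme.Hom.image_preimage_eq_opensRange_inf, Scheme.Opens.opensRange_ι, inf_eq_right]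
        exact le_iSup V a
      refine (MorphismProperty.arrow_mk_iso_iff @IsClosedImmersion
        (morphismRestrictRestrict q U _ ≪≫ morphismRestrictEq q e)).2 (h a)
  have e : q = (X.topIso.inv ≫ (X.isoOfEq htop).inv ≫ q ∣_ U) ≫ U.ι := by simp
  rw [e]
  infer_instance

theorem exists_stage_immersion (E : I ⥤ Scheme.{u}) [∀ i, IsAffine (E.obj i)] (d : Cone E) (hd : IsLimit d) (o : I)
    {C : Scheme.{u}} [CompactSpace C] (k : C ⟶ d.pt) [IsImmersion k]
    [LocallyOfFiniteType (k ≫ d.π.app o)] :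
    ∃ j : I, Nonempty (j ⟶ o) ∧ ∀ (l : I) (_ : l ⟶ j), IsImmersion (k ≫ d.π.app l) := by
  classical
  have : IsAffine d.pt := Scheme.isAffine_of_isLimit _ hd
  have key : ∀ x : C, ∃ (j : I) (t : Γ(E.obj j, ⊤)), k x ∈ d.π.app j ⁻¹ᵁ (E.obj j).basicOpen t ∧
      d.π.app j ⁻¹ᵁ (E.obj j).basicOpen t ≤ k.coborderRange := fun x => by
    obtain ⟨r, hr, hxr⟩ := (isAffineOpen_top d.pt).exists_basicOpen_le (V := k.coborderRange)
      ⟨k x, subset_coborder ⟨x, rfl⟩⟩ trivial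
    obtain ⟨j, t, rfl⟩ := exists_appTop_π_eq_of_isAffine_of_isLimit E d hd r
    have e := Scheme.preimage_basicOpen_top (d.π.app j) t
    exact ⟨j, t, e.ge hxr, e.le.trans hr⟩
  choose j t hxt hle using key
  obtain ⟨s, hs⟩ := (isCompact_univ (X := C)).elim_finite_subcover
    (fun x => k ⁻¹' ((d.π.app (j x) ⁻¹ᵁ (E.obj (j x)).basicOpen (t x) : d.pt.Opens) : Set d.pt))
    (fun x => (d.π.app (j x) ⁻¹ᵁ (E.obj (j x)).basicOpen (t x)).2.preimage k.continuous)
    (fun x _ => Set.mem_iUnion.2 ⟨x, hxt x⟩)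
  obtain ⟨m, hm⟩ := IsCofiltered.inf_objs_exists (insert o (s.image j))
  let b (a : s) : m ⟶ j a.1 := (hm (Finset.mem_insert_of_mem (Finset.mem_image_of_mem j a.2))).some
  let V (a : s) : (E.obj m).Opens := E.map (b a) ⁻¹ᵁ (E.obj (j a.1)).basicOpen (t a.1)
  have hVa (a : s) : IsAffineOpen (V a) := ((isAffineOpen_top _).basicOpen _).preimage _
  have hπ (a : s) : d.π.app m ⁻¹ᵁ V a = d.π.app (j a.1) ⁻¹ᵁ (E.obj (j a.1)).basicOpen (t a.1) := by
    simp only [V, ← Scheme.Hom.comp_preimage, d.w]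
  let mo : m ⟶ o := (hm (Finset.mem_insert_self _ _)).some
  have : LocallyOfFiniteType (k ≫ d.π.app m) := by
    have : LocallyOfFiniteType ((k ≫ d.π.app m) ≫ E.map mo) := by rw [Category.assoc, d.w]; infer_instance
    exact locallyOfFiniteType_of_comp _ (E.map mo)
  have hloc : ∀ a : s, ∃ n : Over m, ∀ (l : Over m) (_ : l ⟶ n),
      IsClosedImmersion ((k ≫ d.π.app l.left) ∣_ (E.map l.hom ⁻¹ᵁ V a)) := fun a => by
    have : ∀ i, IsAffine ((opensDiagram E m (V a)).obj i) := fun i => (hVa a).preimage (E.map i.hom)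
    have : IsClosedImmersion (k ∣_ (d.π.app m ⁻¹ᵁ V a)) :=
      isClosedImmersion_restrict_of_le_coborder k _ (hπ a ▸ hle a.1)
    have hpre : ∀ l : Over m, k ⁻¹ᵁ (d.π.app m ⁻¹ᵁ V a) = (k ≫ d.π.app l.left) ⁻¹ᵁ (E.map l.hom ⁻¹ᵁ V a) := fun l => by
      rw [← d.w l.hom]
      rfl
    let k' : (k ⁻¹ᵁ (d.π.app m ⁻¹ᵁ V a)).toScheme ⟶ (opensCone E d m (V a)).pt := k ∣_ (d.π.app m ⁻¹ᵁ V a)
    have hcomp : ∀ (l : Over m), ∃ e,
        k' ≫ (opensCone E d m (V a)).π.app l = (k ≫ d.π.app l.left).resLE (E.map l.hom ⁻¹ᵁ V a) _ e := fun l => by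
      refine ⟨?_, ?_⟩
      · exact le_of_eq (hpre l)
      · show (k ∣_ _) ≫ (d.π.app l.left).resLE _ _ _ = _
        rw [← Scheme.Hom.resLE_eq_morphismRestrict, Scheme.Hom.resLE_comp_resLE]
    have : LocallyOfFiniteType (k' ≫ (opensCone E d m (V a)).π.app (Over.mk (𝟙 m))) := by
      obtain ⟨e, he⟩ := hcomp (Over.mk (𝟙 m))
      rw [he]
      exact (inferInstance : LocallyOfFiniteType ((k ≫ d.π.app m).resLE _ _ e))
    have : IsClosedImmersion k' := ‹_›
    obtain ⟨n, -, hn⟩ := exists_stage_closed _ _ (isLimitOpensCone E d hd m (V a)) (Over.mk (𝟙 m)) k'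
    refine ⟨n, fun l e => ?_⟩
    obtain ⟨e', he'⟩ := hcomp l
    have h := hn l e
    rw [he'] at h
    rw [Scheme.Hom.resLE_congr _ _ rfl (hpre l) @IsClosedImmersion] at h
    rwa [Scheme.Hom.resLE_eq_morphismRestrict] at h
  choose n hn using hloc
  obtain ⟨n₀, hn₀⟩ := IsCofiltered.inf_objs_exists (insert (Over.mk (𝟙 m)) (Finset.univ.image n))
  refine ⟨n₀.left, ⟨n₀.hom ≫ mo⟩, fun l e => ?_⟩
  let L : Over m := Over.mk (e ≫ n₀.hom)
  refine isImmersion_of_restrict _ (fun a => E.map L.hom ⁻¹ᵁ V a) ?_ fun a =>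
    hn a L ((Over.homMk e (by simp [L]) : L ⟶ n₀) ≫
      (hn₀ (Finset.mem_insert_of_mem (Finset.mem_image_of_mem n (Finset.mem_univ a)))).some)
  rintro _ ⟨x, rfl⟩
  obtain ⟨x₀, hx₀, hx⟩ := Set.mem_iUnion₂.1 (hs (Set.mem_univ x))
  rw [SetLike.mem_coe, TopologicalSpace.Opens.mem_iSup]
  refine ⟨⟨x₀, hx₀⟩, ?_⟩
  have h : k x ∈ d.π.app l ⁻¹ᵁ (E.map L.hom ⁻¹ᵁ V ⟨x₀, hx₀⟩) := by
    rw [← Scheme.Hom.comp_preimage, d.w, hπ]
    exact hx
  exact h

end Groth.Agent.SpDesc
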